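import Cfsg.Agent.H85.JTen.Setup

/-!
Self-centralising elementary abelian subgroups of order 2^10 in a group of Janko-four type.
-/

set_option autoImplicit false

namespace Cfsg.Agent.H85.JTen

variable {G : Type*} [Group G] [Finite G]

lemma conj_map_map (A : Subgroup G) (g h : G) :
    (A.map (MulAut.conj g).toMonoidHom).map (MulAut.conj h).toMonoidHom =
      A.map (MulAut.conj (h * g)).toMonoidHom := by
  rw [Subgroup.map_map]
  congr 1
  ext x
  simp [mul_assoc]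

lemma conj_map_one (A : Subgroup G) : A.map (MulAut.conj (1 : G)).toMonoidHom = A := by
  ext x
  simp

theorem two_ten [IsSimpleGroup G] (hG : ¬ IsMulCommutative G) (hJ : Cfsg.IsOfJankoFourType G) :
    (∃ A : Subgroup G, Cfsg.IsElementaryAbelian 2 A ∧ Nat.card ↥A = 2 ^ 10 ∧
      Subgroup.centralizer (A : Set G) = A) ∧
    (∀ A A' : Subgroup G, Cfsg.IsElementaryAbelian 2 A → Nat.card ↥A = 2 ^ 10 →
      Subgroup.centralizer (A : Set G) = A → Cfsg.IsElementaryAbelian 2 A' → Nat.card ↥A' = 2 ^ 10 →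
      Subgroup.centralizer (A' : Set G) = A' → ∃ g : G, A' = A.map (MulAut.conj g).toMonoidHom) ∧
    ∀ A : Subgroup G, Cfsg.IsElementaryAbelian 2 A → Nat.card ↥A = 2 ^ 10 →
      Subgroup.centralizer (A : Set G) = A →
      (∃ B : Subgroup G, B ≤ Subgroup.normalizer (A : Set G) ∧ B ⊓ A = ⊥ ∧
        B ⊔ A = Subgroup.normalizer (A : Set G) ∧
        Nonempty (↥B ≃* Matrix.SpecialLinearGroup (Fin 5) (ZMod 2))) ∧
      ∀ W : Subgroup G, W ≤ A → Subgroup.normalizer (A : Set G) ≤ Subgroup.normalizer (W : Set G) →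
        W = ⊥ ∨ W = A := by
  obtain ⟨C, hmove⟩ := exists_coc hG hJ
  refine ⟨⟨C.A, C.A_elem, C.card_A, C.cent_A⟩, fun A A' h1 h2 h3 h1' h2' h3' => ?_,
    fun A h1 h2 h3 => ?_⟩
  · obtain ⟨g, hg⟩ := C.exists_conj_A h1 h2 h3
    obtain ⟨g', hg'⟩ := C.exists_conj_A h1' h2' h3'
    refine ⟨g'⁻¹ * g, ?_⟩
    rw [← conj_map_map, hg, ← hg', conj_map_map, inv_mul_cancel, conj_map_one]
  · obtain ⟨g, hg⟩ := C.exists_conj_A h1 h2 h3
    set e : G ≃* G := MulAut.conj g⁻¹ with he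
    have hA : A = C.A.map e.toMonoidHom := by
      rw [← hg, he, conj_map_map, inv_mul_cancel, conj_map_one]
    obtain ⟨B, hB, hBA, hsup, ⟨ψ⟩⟩ := C.exists_complement hmove
    refine ⟨⟨B.map e.toMonoidHom, ?_, ?_, ?_,
      ⟨(B.equivMapOfInjective e.toMonoidHom e.injective).symm.trans ψ⟩⟩, fun W hW hN => ?_⟩
    · rw [hA, H85.AutM22.norm_map_e]; exact Subgroup.map_mono hB
    · rw [hA, ← Subgroup.map_inf _ _ _ e.injective, hBA, Subgroup.map_bot]
    · rw [hA, ← Subgroup.map_sup, hsup, H85.AutM22.norm_map_e]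
    · obtain ⟨U, rfl⟩ := H85.AutM22.exists_map_e e W
      rw [hA] at hW hN
      rw [H85.AutM22.norm_map_e, H85.AutM22.norm_map_e] at hN
      have hU := (Subgroup.map_le_map_iff_of_injective e.injective).1 hW
      have hN' := (Subgroup.map_le_map_iff_of_injective e.injective).1 hN
      rcases C.irreducible hmove U hU hN' with rfl | rfl
      · exact .inl (Subgroup.map_bot _)
      · exact .inr hA.symm

theorem two_ten_orbits [IsSimpleGroup G] (hG : ¬ IsMulCommutative G)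
    (hJ : Cfsg.IsOfJankoFourType G) {A : Subgroup G} (hA : Cfsg.IsElementaryAbelian 2 A)
    (hcard : Nat.card ↥A = 2 ^ 10) (hself : Subgroup.centralizer (A : Set G) = A) :
    ∃ a b : G, a ∈ A ∧ b ∈ A ∧
      Set.ncard {v : G | ∃ n ∈ Subgroup.normalizer (A : Set G), n * a * n⁻¹ = v} = 155 ∧
      Set.ncard {v : G | ∃ n ∈ Subgroup.normalizer (A : Set G), n * b * n⁻¹ = v} = 868 := by
  obtain ⟨C, hmove⟩ := exists_coc hG hJ
  obtain ⟨g, hg⟩ := C.exists_conj_A hA hcard hself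
  set e : G ≃* G := MulAut.conj g⁻¹ with he
  have hA' : A = C.A.map e.toMonoidHom := by
    rw [← hg, he, conj_map_map, inv_mul_cancel, conj_map_one]
  have key : ∀ a : G, {v : G | ∃ n ∈ Subgroup.normalizer (A : Set G), n * e a * n⁻¹ = v} =
      e '' {v : G | ∃ n ∈ Subgroup.normalizer (C.A : Set G), n * a * n⁻¹ = v} := by
    intro a
    ext v
    rw [hA', H85.AutM22.norm_map_e]
    constructor
    · rintro ⟨_, ⟨n, hn, rfl⟩, rfl⟩
      exact ⟨_, ⟨n, hn, rfl⟩, by simp⟩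
    · rintro ⟨_, ⟨n, hn, rfl⟩, rfl⟩
      exact ⟨e n, ⟨n, hn, rfl⟩, by simp⟩
  obtain ⟨h1, h2⟩ := C.orbit_lengths hmove
  have hs : Coc.sZ < 1024 ∧ Coc.sT < 1024 := by decide +kernel
  refine ⟨e (C.aEl Coc.sZ), e (C.aEl Coc.sT), hA' ▸ ⟨_, ⟨_, hs.1, rfl⟩, rfl⟩,
    hA' ▸ ⟨_, ⟨_, hs.2, rfl⟩, rfl⟩, ?_, ?_⟩
  · rw [key, Set.ncard_image_of_injective _ e.injective, h1]
  · rw [key, Set.ncard_image_of_injective _ e.injective, h2]

end Cfsg.Agent.H85.JTen
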