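import Cfsg.Agent.H85.JTen.Cls

/-!
The standard subgroup is self-centralising; a subgroup of order 2^11 in its centraliser of the
fixed space is the cocode.
-/

set_option autoImplicit false

namespace Cfsg.Agent.H85.JTen

open Cfsg Cfsg.Agent.Golay Cfsg.Agent.H94.M24
open scoped Pointwise

/-- The points of the octad. -/
def octL : List ℕ := (List.range 24).filter octM.testBit

/-- Only the pair itself gives the vector of a pair in the octad. -/
def pairTest : Bool :=
  octL.all fun i => octL.all fun j => decide (j ≤ i) ||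
    forceN (reduceMask (2 ^ i ^^^ 2 ^ j)) fun v => (List.range 24).all fun a => (List.range 24).all fun b =>
      decide (b ≤ a) || !(reduceMask (2 ^ a ^^^ 2 ^ b) == v) || ((a == i) && (b == j))

lemma pair_ok : pairTest = true := by decide +kernel

lemma pair_mem :
    (octL.all fun i => octL.all fun j => aList.contains (reduceMask (2 ^ i ^^^ 2 ^ j))) = true ∧
    octL.length = 8 ∧ ([23, 0, 1, 2, 3, 5].all fun i => octL.contains i) = true ∧
    (spanList aBasis).contains t0 = true ∧ (spanList aBasis).contains z0 = true := by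
  decide +kernel

/-- Six points of the octad. -/
def sixMask : ℕ := 0 ||| 2 ^ 23 ||| 2 ^ 0 ||| 2 ^ 1 ||| 2 ^ 2 ||| 2 ^ 3 ||| 2 ^ 5

lemma six_chain : checkChain [] sixMask (m24Chain.drop 6) = true ∧
    ((List.range 24).all fun i => !sixMask.testBit i || [23, 0, 1, 2, 3, 5].contains i) = true ∧
    ((search (fun _ _ => true) sixMask (m24Chain.drop 6) idTblVal).all fun t =>
      oList.contains t) = true := by
  decide +kernel

lemma tblImg_pair (g : ↥Cfsg.M24) {i j : ℕ} (hi : i < 24) (hj : j < 24) (hij : i ≠ j) :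
    tblImg (tb g) (2 ^ i ^^^ 2 ^ j) = 2 ^ app (tb g) i ^^^ 2 ^ app (tb g) j := by
  have hv := (tab_tb g).valid
  have happ := (validT_bijective hv).2
  have hsingle : ∀ k < 24, tblImg (tb g) (2 ^ k) = 2 ^ app (tb g) k := by
    intro k hk
    refine ptSet_injOn (tblImg_lt hv _) (Nat.pow_lt_pow_right (by norm_num) (happ k hk)) ?_
    rw [ptSet_tblImg hv, ptSet_two_pow hk, ptSet_two_pow (happ k hk), Finset.smul_finset_singleton,
      Equiv.Perm.smul_def, mkPerm_pt hv hk]
  rw [tblImg_xor hv, hsingle i hi, hsingle j hj]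

lemma fix_octad {g : ↥Cfsg.M24} (h : ∀ a ∈ spanList aBasis, gact g a = a) :
    ∀ i ∈ octL, app (tb g) i = i := by
  have hoct : ∀ i ∈ octL, i < 24 := fun i hi => List.mem_range.1 (List.mem_filter.1 hi).1
  have hv := (tab_tb g).valid
  have happ := (validT_bijective hv).2
  have hinj : ∀ a < 24, ∀ b < 24, app (tb g) a = app (tb g) b → a = b := by
    intro a ha b hb e
    have e' : mkPerm (tb g) (pt a) = mkPerm (tb g) (pt b) := by
      rw [mkPerm_pt hv ha, mkPerm_pt hv hb, e]
    have := congrArg idx ((mkPerm (tb g)).injective e')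
    rwa [idx_pt _ ha, idx_pt _ hb] at this
  have key : ∀ i ∈ octL, ∀ j ∈ octL, i < j →
      (app (tb g) i = i ∧ app (tb g) j = j) ∨ (app (tb g) i = j ∧ app (tb g) j = i) := by
    intro i hi j hj hij
    have hi' := hoct i hi
    have hj' := hoct j hj
    have hmem := List.contains_iff_mem.1
      (List.all_eq_true.1 (List.all_eq_true.1 pair_mem.1 i hi) j hj)
    have he := h _ hmem
    rw [gact, act_reduce (tab_tb g).inM, tblImg_pair g hi' hj' (Nat.ne_of_lt hij)] at he
    have hp := pair_ok
    simp only [pairTest, List.all_eq_true, forceN_eq, List.mem_range, Bool.or_eq_true,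
      decide_eq_true_eq, Bool.not_eq_true', beq_eq_false_iff_ne, Bool.and_eq_true, beq_iff_eq] at hp
    have hp' := (hp i hi j hj).resolve_left (by omega)
    rcases Nat.lt_trichotomy (app (tb g) i) (app (tb g) j) with hlt | heq | hgt
    · rcases hp' _ (happ i hi') _ (happ j hj') with (e | e) | e
      · omega
      · exact absurd he e
      · exact .inl e
    · exact absurd (hinj i hi' j hj' heq) (Nat.ne_of_lt hij)
    · rcases hp' _ (happ j hj') _ (happ i hi') with (e | e) | e
      · omega
      · exact absurd (by rw [Nat.xor_comm]; exact he) e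
      · exact .inr ⟨e.2, e.1⟩
  have pairs : ∀ i ∈ octL, ∀ j ∈ octL, i ≠ j → app (tb g) i = i ∨ app (tb g) i = j := by
    intro i hi j hj hne
    rcases Nat.lt_or_ge i j with h' | h'
    · rcases key i hi j hj h' with e | e
      exacts [.inl e.1, .inr e.1]
    · rcases key j hj i hi (by omega) with e | e
      exacts [.inl e.2, .inr e.2]
  intro i hi
  have hnd : octL.Nodup := List.nodup_range.filter _
  obtain ⟨j, hj, k, hk, hji, hki, hjk⟩ : ∃ j ∈ octL, ∃ k ∈ octL, j ≠ i ∧ k ≠ i ∧ j ≠ k := by
    have hc : 2 ≤ ((octL.toFinset).erase i).card := by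
      rw [Finset.card_erase_of_mem (List.mem_toFinset.2 hi), List.toFinset_card_of_nodup hnd,
        pair_mem.2.1]
      norm_num
    obtain ⟨j, hj, k, hk, hjk⟩ := Finset.one_lt_card.1 hc
    rw [Finset.mem_erase, List.mem_toFinset] at hj hk
    exact ⟨j, hj.2, k, hk.2, hj.1, hk.1, hjk⟩
  rcases pairs i hi j hj hji.symm with e | e
  · exact e
  · rcases pairs i hi k hk hki.symm with e' | e'
    · exact e'
    · exact absurd (e.symm.trans e') hjk

lemma mem_oct_group {g : ↥Cfsg.M24} (h : ∀ a ∈ spanList aBasis, gact g a = a) : ∃ m, oE m = g := by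
  have hfix := fix_octad h
  have hsix := six_chain.2.1
  simp only [List.all_eq_true, List.mem_range, Bool.or_eq_true, Bool.not_eq_true',
    List.contains_iff_mem] at hsix
  have hst : (g : Equiv.Perm GolayPt) ∈ stabGrp [] sixMask := by
    rw [mem_stabGrp]
    refine ⟨g.2, by simp, fun p hp => ?_⟩
    rw [mem_ptSet] at hp
    have hin := (hsix _ (idx_lt p)).resolve_left (by rw [hp]; simp)
    have ho := List.contains_iff_mem.1 (List.all_eq_true.1 pair_mem.2.2.1 _ hin)
    have e := congrArg pt (hfix _ ho)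
    rw [tb, app_tblOf _ (idx_lt p)] at e
    simpa [pt_idx] using e
  obtain ⟨t, ht, hv, he⟩ := mem_search (ok := fun _ _ => true) (P := fun _ => True)
    (fun _ _ _ _ _ => rfl) sixMask _ idTblVal six_chain.1 idTblVal_spec.1 _ hst trivial
  rw [idTblVal_spec.2, one_mul] at he
  have hmem := List.contains_iff_mem.1 (List.all_eq_true.1 six_chain.2.2 t ht)
  rw [oct_checks.2.2.2.2.2.2.1, List.mem_map] at hmem
  obtain ⟨m, -, rfl⟩ := hmem
  exact ⟨m, Subtype.ext ((tab_oT m).coe.trans he)⟩

/-- The displacements of a generator of the octad group on the basis. -/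
def disp (i : ℕ) : List ℕ := vBasis.map fun b => act (oT (2 ^ i)) b ^^^ b

/-- Vectors fixed by all of the octad group are in the span. -/
def fixOTest : Bool :=
  forceL aList fun al => forceL (disp 0) fun a => forceL (disp 1) fun b => forceL (disp 2) fun c =>
    forceL (disp 3) fun d => (List.range 2048).all fun k =>
      !(combo a k == 0) || !(combo b k == 0) || !(combo c k == 0) || !(combo d k == 0) ||
        al.contains (vk k)

lemma fixO_test : fixOTest = true := by decide +kernel

lemma fixO_ok (k : ℕ) (hk : k < 2048) :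
    (∃ i < 4, combo (disp i) k ≠ 0) ∨ vk k ∈ spanList aBasis := by
  have h := fixO_test
  simp only [fixOTest, forceL_eq, List.all_eq_true, List.mem_range, Bool.or_eq_true,
    Bool.not_eq_true', beq_eq_false_iff_ne, List.contains_iff_mem] at h
  rcases h k hk with (((e | e) | e) | e) | e
  exacts [.inl ⟨0, by norm_num, e⟩, .inl ⟨1, by norm_num, e⟩, .inl ⟨2, by norm_num, e⟩,
    .inl ⟨3, by norm_num, e⟩, .inr e]

namespace Coc

variable {G : Type*} [Group G] (C : Coc G)

lemma t0_mem_A : C.φ t0 ∈ C.A :=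
  C.φ_mem_A (List.contains_iff_mem.1 pair_mem.2.2.2.1)

lemma z0_mem_A : C.φ z0 ∈ C.A :=
  C.φ_mem_A (List.contains_iff_mem.1 pair_mem.2.2.2.2)

lemma centA0_le :
    Subgroup.centralizer {x | ∃ a ∈ spanList aBasis, C.φ a = x} ≤
      Subgroup.normalizer (C.V : Set G) := by
  refine le_trans (Subgroup.centralizer_le ?_) C.cent_t
  rintro _ rfl
  exact ⟨t0, List.contains_iff_mem.1 pair_mem.2.2.2.1, rfl⟩

theorem cent_A : Subgroup.centralizer (C.A : Set G) = C.A := by
  refine le_antisymm (fun x hx => ?_) fun x hx => Subgroup.mem_centralizer_iff.2 fun y hy =>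
    C.A_comm hy hx
  rw [Subgroup.mem_centralizer_iff] at hx
  have hN : x ∈ Subgroup.normalizer (C.V : Set G) := C.centA0_le (by
    rw [Subgroup.mem_centralizer_iff]
    rintro _ ⟨a, ha, rfl⟩
    exact hx _ (C.φ_mem_A ha))
  obtain ⟨v, g, hv, rfl⟩ := C.exists_elt hN
  obtain ⟨m, rfl⟩ : ∃ m, oE m = g := mem_oct_group fun a ha =>
    C.comm_φ hv (isVec_of_aBasis ha) (hx _ (C.φ_mem_A ha)).symm
  have hfix : ∀ n, gact (oE n) v = v := by
    intro n
    have hn : C.κ (oE n) ∈ C.A := by
      refine ⟨64 * (n % 16), by omega, ?_⟩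
      rw [aEl, Nat.mul_div_cancel_left _ (by norm_num : 0 < 64)]
      rw [show aV (64 * (n % 16)) = 0 by rw [aV, Nat.mul_mod_right]; exact aV_zero]
      simp only [oE, oT, Nat.mod_mod, elt_zero]
    have e := (C.elt_comm isVec_zero hv
      (by rw [elt_zero]; exact hx _ hn : C.elt 0 (oE n) * C.elt v (oE m) = _)).1
    rw [Nat.zero_xor, gact, gact, act_zero (tab_tb _).valid, Nat.xor_zero] at e
    exact e
  obtain ⟨q, hq⟩ : ∃ q, aV q = v := by
    obtain ⟨k, hk, rfl⟩ := exists_vk hv
    refine aV_mem_iff.2 ((fixO_ok k (by simpa using hk)).resolve_left ?_)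
    rintro ⟨i, -, hne⟩
    refine hne ?_
    rw [disp, combo_map (f := fun b => act (oT (2 ^ i)) b ^^^ b) (fun a b => by
      simp only [act_xor (tab_oT _).valid]
      rw [Nat.xor_assoc (act _ a), xor_left_comm' (act _ b) a b, ← Nat.xor_assoc (act _ a)])]
    show act (oT (2 ^ i)) (vk k) ^^^ vk k = 0
    have := hfix (2 ^ i)
    rw [oE, gact_gOf (tab_oT _)] at this
    rw [this, Nat.xor_self]
  refine ⟨q % 64 + 64 * (m % 16), by omega, ?_⟩
  rw [aEl, show (q % 64 + 64 * (m % 16)) / 64 = m % 16 by omega]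
  rw [← hq, aV, show (q % 64 + 64 * (m % 16)) % 64 = q % 64 by omega]
  simp only [oE, oT, Nat.mod_mod, aV]

theorem A_elem : IsElementaryAbelian 2 C.A :=
  ⟨⟨⟨fun a b => Subtype.ext (C.A_comm a.2 b.2)⟩⟩, fun x hx => by rw [pow_two]; exact C.A_sq hx⟩

/-- A self-centralising elementary subgroup of order 2^10 is conjugate to the standard one. -/
theorem exists_conj_A [Finite G] {B : Subgroup G} (hB : IsElementaryAbelian 2 B)
    (hc : Nat.card B = 2 ^ 10) (hs : Subgroup.centralizer (B : Set G) = B) :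
    ∃ g : G, B.map (MulAut.conj g).toMonoidHom = C.A := by
  obtain ⟨g, hg⟩ := C.exists_conj B (IsPGroup.of_card (n := 10) hc)
  set B' := B.map (MulAut.conj g).toMonoidHom with hB'
  have h2 : ∀ x ∈ B', x * x = 1 := by
    rintro _ ⟨x, hx, rfl⟩
    rw [← map_mul, ← pow_two, hB.2 x hx, map_one]
  have hc' : Nat.card B' = 1024 := by
    rw [hB', Subgroup.card_map_of_injective (MulAut.conj g).injective, hc]; norm_num
  rcases C.classify hg h2 hc'.ge with h | ⟨x, -, hx⟩
  · exfalso
    have hle : ∀ v, IsVec v → g⁻¹ * C.φ v * g ∈ B := by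
      intro v hv
      rw [← hs, Subgroup.mem_centralizer_iff]
      intro b hb
      obtain ⟨w, hw, e⟩ := (C.mem_V _).1 (h ⟨b, hb, rfl⟩)
      have hb' : b = g⁻¹ * C.φ w * g := by
        rw [e]; show b = g⁻¹ * (g * b * g⁻¹) * g; group
      have hcm := C.φ_comm hw hv
      rw [hb']
      calc g⁻¹ * C.φ w * g * (g⁻¹ * C.φ v * g) = g⁻¹ * (C.φ w * C.φ v) * g := by group
        _ = g⁻¹ * (C.φ v * C.φ w) * g := by rw [hcm]
        _ = g⁻¹ * C.φ v * g * (g⁻¹ * C.φ w * g) := by group
    have hinj : Function.Injective fun v : vecList.toFinset =>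
        (⟨g⁻¹ * C.φ v.1 * g, hle _ (List.mem_toFinset.1 v.2)⟩ : B) := fun a b e => by
      have e' := congrArg (fun y : B => (y : G)) e
      simp only [mul_left_inj, mul_right_inj] at e'
      exact Subtype.ext (C.φ_inj (List.mem_toFinset.1 a.2) (List.mem_toFinset.1 b.2) e')
    have := Nat.card_le_card_of_injective _ hinj
    rw [Nat.card_eq_finsetCard, List.toFinset_card_of_nodup vecList_nodup, vecList_length, hc]
      at this
    norm_num at this
  · refine ⟨x * g, ?_⟩
    rw [← hx, hB', Subgroup.map_map]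
    congr 1
    ext y
    simp [mul_assoc]

end Coc

end Cfsg.Agent.H85.JTen
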