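import Cfsg.Agent.H85.JTen.ChkSearch

/-!
Kernel checks on the product rows and the conditions of the involutions.
-/

set_option autoImplicit false

namespace Cfsg.Agent.H85.JTen

open Cfsg.Agent.Golay Cfsg.Agent.H94.M24

lemma prodRow_eq : ((List.range 191).all fun i => prodRow i == prodT.getD i 0) = true := by
  decide +kernel

/-- The conditions are the stated ones. -/
def funTest : Bool :=
  (List.range 191).all fun i => forceN (tInv.getD i 0) fun T =>
    forceL (vBasis.map fun b => act T b ^^^ b) fun L => forceL (funRow i) fun F =>
      (F == (fPos.getD i []).map (funBits L)) && F.all fun f => Nat.blt f 2048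

lemma fun_ok : funTest = true := by decide +kernel

end Cfsg.Agent.H85.JTen
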