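import Cfsg.Agent.H85.JTen.ChkSearch

/-!
Kernel checks of the search over elementary subgroups: the first roots.
-/

set_option autoImplicit false

namespace Cfsg.Agent.H85.JTen

lemma root0 : rootTest 0 3 = true := by decide +kernel

lemma root1 : rootTest 3 9 = true := by decide +kernel

end Cfsg.Agent.H85.JTen
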