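import Cfsg.Agent.H85.JTen.ChkSearch

/-!
Kernel checks of the search over elementary subgroups: the other roots.
-/

set_option autoImplicit false

namespace Cfsg.Agent.H85.JTen

lemma root2 : rootTest 12 15 = true := by decide +kernel

lemma root3 : rootTest 27 164 = true := by decide +kernel

end Cfsg.Agent.H85.JTen
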