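import Cfsg.Agent.H85.JTen.Search
import Cfsg.Agent.H85.JTen.Data
import Cfsg.Agent.H85.JTen.SearchData

/-!
The search over the elementary subgroups of the Sylow 2-subgroup of the group of the code.
-/

set_option autoImplicit false

namespace Cfsg.Agent.H85.JTen

open Cfsg.Agent.Golay Cfsg.Agent.H94.M24

/-- The product row of an involution. -/
def prodRow (i : ℕ) : ℕ := (prodB.getD (i / 14) []).getD (i % 14) 0

/-- The conditions of an involution. -/
def funRow (i : ℕ) : List ℕ := (fFun.getD (i / 14) []).getD (i % 14) []

/-- The fixed space of the octad group. -/
def aList : List ℕ := spanList aBasis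

/-- The candidates at the root in a range. -/
def rootTest (lo len : ℕ) : Bool :=
  forceL (List.range 191) fun C => forceL aList fun al => (List.range len).all fun d =>
    kid prodRow funRow (srch prodRow funRow oMask al 8) [] C [] (lo + d)

end Cfsg.Agent.H85.JTen
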