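import Cfsg.Agent.H85.JTen.Coc

/-!
Kernel checks on the involutions of the Sylow 2-subgroup.
-/

set_option autoImplicit false

namespace Cfsg.Agent.H85.JTen

open Cfsg.Agent.Golay Cfsg.Agent.H94.M24

/-- The entry of the product table. -/
def prodT' (i j : ℕ) : ℕ := (prodT.getD i 0 >>> (8 * j)) &&& 255

/-- The two tables commute at every position. -/
def comm24 (A B : ℕ) : Bool := (List.range 24).all fun i => app A (app B i) == app B (app A i)

lemma comm24_of_eq {A B : ℕ} (h : tblMul A B = tblMul B A) : comm24 A B = true := by
  simp only [comm24, List.all_eq_true, List.mem_range, beq_iff_eq]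
  intro i hi
  rw [← app_tblMul hi, ← app_tblMul hi, h]

lemma tInv_complete :
    (tList.all fun t => t == idTblVal || !(tblMul t t == idTblVal) || tInv.contains t) = true := by
  decide +kernel

lemma tInv_facts : tInv.length = 191 ∧ tInv.Nodup ∧
    (tInv.all fun t => tList.contains t && !(t == idTblVal)) = true := by
  decide +kernel

/-- The product table is right on the rows of a range. -/
def prodRowsTest (lo len : ℕ) : Bool :=
  (List.range len).all fun k => forceN (tInv.getD (lo + k) 0) fun s =>
    forceN (prodT.getD (lo + k) 0) fun row =>
      (List.range 191).all fun j => lo + k == j || forceN (tInv.getD j 0) fun t =>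
        !comm24 s t || forceN ((row >>> (8 * j)) &&& 255) fun q =>
          decide (q < 191) && (tInv.getD q 0 == tblMul s t)

lemma prod_rows1 : prodRowsTest 0 64 = true := by decide +kernel

lemma prod_rows2 : prodRowsTest 64 64 = true := by decide +kernel

lemma prod_rows3 : prodRowsTest 128 63 = true := by decide +kernel

end Cfsg.Agent.H85.JTen
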