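import Cfsg.Agent.H85.JTen.ClsBound

/-!
Elementary subgroups of order at least 2^10 of the normaliser: inside the cocode or conjugate to the
standard one.
-/

set_option autoImplicit false

namespace Cfsg.Agent.H85.JTen

open Cfsg Cfsg.Agent.Golay Cfsg.Agent.H94.M24

/-- The two lifts of a generator of the octad group. -/
def cand (i b : ℕ) : ℕ := candList.getD (2 * i + b) 0

/-- The vector moving the lifts. -/
def shift (b : ℕ) : ℕ := if b = 0 then 0 else w1

lemma cand_checks :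
    ((List.range 4).all fun i => (List.range 2).all fun b => vecList.contains (cand i b)) = true ∧
    vecList.contains w1 = true := by
  decide +kernel

lemma isVec_cand {i b : ℕ} (hi : i < 4) (hb : b < 2) : IsVec (cand i b) :=
  List.contains_iff_mem.1 (List.all_eq_true.1 (List.all_eq_true.1 cand_checks.1 i
    (List.mem_range.2 hi)) b (List.mem_range.2 hb))

/-- Every fixed vector of a generator is a lift up to the fixed space of the octad group. -/
def fixCandTest : Bool :=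
  forceL aList fun al => (List.range 4).all fun i => forceN (oT (2 ^ i)) fun T =>
    forceL (vBasis.map fun b => act T b ^^^ b) fun L => (List.range 2048).all fun k =>
      !(combo L k == 0) || forceN (vk k) fun v => (List.range 2).all (fun b => !(al.contains (v ^^^ cand i b))) == false

lemma fix_cand : fixCandTest = true := by decide +kernel

/-- Compatible lifts are moved into the fixed space. -/
def tupleTest : Bool :=
  forceL aList fun al => (List.range 16).all fun n =>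
    ((List.range 4).any fun i => (List.range 4).any fun j =>
      !((act (oT (2 ^ i)) (cand j (n / 2 ^ j % 2)) ^^^ cand j (n / 2 ^ j % 2)) ==
        (act (oT (2 ^ j)) (cand i (n / 2 ^ i % 2)) ^^^ cand i (n / 2 ^ i % 2)))) ||
    ((List.range 2).any fun b => (List.range 4).all fun i =>
      al.contains (shift b ^^^ cand i (n / 2 ^ i % 2) ^^^ act (oT (2 ^ i)) (shift b)))

lemma tuples : tupleTest = true := by decide +kernel

lemma isVec_of_aBasis {v : ℕ} (h : v ∈ spanList aBasis) : IsVec v := by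
  obtain ⟨m, rfl⟩ := aV_mem_iff.2 h
  exact isVec_aV m

lemma gact_oE_fix {v : ℕ} (h : v ∈ spanList aBasis) (m : ℕ) : gact (oE m) v = v := by
  obtain ⟨n, rfl⟩ := aV_mem_iff.2 h
  exact gact_oE_aV m n

lemma exists_cand {i v : ℕ} (hi : i < 4) (hv : IsVec v) (hfix : gact (oE (2 ^ i)) v = v) :
    ∃ b < 2, v ^^^ cand i b ∈ spanList aBasis := by
  obtain ⟨k, hk, rfl⟩ := exists_vk hv
  have h := fix_cand
  simp only [fixCandTest, forceL_eq, forceN_eq, List.all_eq_true, List.mem_range, Bool.or_eq_true,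
    Bool.not_eq_true', beq_eq_false_iff_ne, beq_iff_eq] at h
  rw [oE, gact_gOf (tab_oT _)] at hfix
  rcases h i hi k (by simpa using hk) with h' | h'
  · refine absurd ?_ h'
    rw [combo_map (f := fun b => act (oT (2 ^ i)) b ^^^ b) (fun a b => by
      simp only [act_xor (tab_oT _).valid]
      rw [Nat.xor_assoc (act _ a), xor_left_comm' (act _ b) a b, ← Nat.xor_assoc (act _ a)])]
    show act (oT (2 ^ i)) (vk k) ^^^ vk k = 0
    rw [hfix, Nat.xor_self]
  · simp only [List.all_eq_false, List.mem_range, Bool.not_eq_true', Bool.not_eq_false] at h'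
    obtain ⟨b, hb, hb'⟩ := h'
    exact ⟨b, hb, List.contains_iff_mem.1 hb'⟩

namespace Coc

variable {G : Type*} [Group G] (C : Coc G)

/-- The image in the group of the code. -/
noncomputable def prM (B : Subgroup G) : Subgroup ↥Cfsg.M24 where
  carrier := {g | ∃ v, IsVec v ∧ C.elt v g ∈ B}
  mul_mem' := by
    rintro g h ⟨v, hv, hg⟩ ⟨w, hw, hh⟩
    exact ⟨_, hv.xor (isVec_gact g hw), C.elt_mul hv hw g h ▸ mul_mem hg hh⟩
  one_mem' := ⟨0, isVec_zero, by rw [elt_one, φ_zero]; exact one_mem _⟩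
  inv_mem' := by
    rintro g ⟨v, hv, hg⟩
    obtain ⟨w, h, hw, e⟩ := C.exists_elt (inv_mem (C.elt_mem hv g))
    refine ⟨w, hw, ?_⟩
    have hinv : g⁻¹ = h := by
      refine inv_eq_of_mul_eq_one_right (C.elt_eq_one (hv.xor (isVec_gact g hw)) ?_).2
      rw [← C.elt_mul hv hw, e, mul_inv_cancel]
    rw [hinv, e]
    exact inv_mem hg

lemma mem_prM {B : Subgroup G} {g : ↥Cfsg.M24} :
    g ∈ C.prM B ↔ ∃ v, IsVec v ∧ C.elt v g ∈ B := Iff.rfl

lemma prM_sq {B : Subgroup G} (h2 : ∀ x ∈ B, x * x = 1) {g : ↥Cfsg.M24} (h : g ∈ C.prM B) :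
    g * g = 1 := by
  obtain ⟨v, hv, hx⟩ := h
  exact (C.elt_sq hv (h2 _ hx)).2

lemma comm_of_sq {B : Subgroup G} (h2 : ∀ x ∈ B, x * x = 1) {x y : G} (hx : x ∈ B) (hy : y ∈ B) :
    x * y = y * x := by
  calc x * y = (x * y)⁻¹ := eq_inv_of_mul_eq_one_left (h2 _ (mul_mem hx hy))
    _ = y⁻¹ * x⁻¹ := mul_inv_rev _ _
    _ = y * x := by
      rw [← eq_inv_of_mul_eq_one_left (h2 _ hx), ← eq_inv_of_mul_eq_one_left (h2 _ hy)]

lemma conj_φ_elt {w v : ℕ} (hw : IsVec w) (hv : IsVec v) (g : ↥Cfsg.M24) :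
    C.φ w * C.elt v g * (C.φ w)⁻¹ = C.elt (w ^^^ v ^^^ gact g w) g := by
  rw [C.φ_inv hw, ← C.elt_one w, C.elt_mul hw hv, gact_one hv, C.elt_mul (hw.xor hv) hw, one_mul,
    mul_one]

lemma conj_κ_elt {v : ℕ} (hv : IsVec v) (h g : ↥Cfsg.M24) :
    C.κ h * C.elt v g * (C.κ h)⁻¹ = C.elt (gact h v) (h * g * h⁻¹) := by
  rw [← map_inv, ← C.elt_zero h, ← C.elt_zero h⁻¹, C.elt_mul isVec_zero hv, Nat.zero_xor,
    C.elt_mul (isVec_gact h hv) isVec_zero]
  congr 1
  simp only [gact, act_zero (tab_tb _).valid, Nat.xor_zero]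

theorem classify_sylT {B : Subgroup G} (hle : B ≤ Subgroup.normalizer (C.V : Set G))
    (h2 : ∀ x ∈ B, x * x = 1) (hc : 1024 ≤ Nat.card B) (hT : C.prM B ≤ sylT) :
    B ≤ C.V ∨ ∃ x ∈ Subgroup.normalizer (C.V : Set G), B.map (MulAut.conj x).toMonoidHom = C.A := by
  classical
  have : Finite B := Nat.finite_of_card_ne_zero (by omega)
  set U := C.prM B with hU
  set K : Finset ℕ := (Finset.range (2 ^ 11)).filter fun k => ∀ g ∈ U, gact g (vk k) = vk k
    with hKdef
  have hK : ∀ k ∈ K, k < 2 ^ 11 ∧ ∀ g ∈ U, gact g (vk k) = vk k := fun k hk => by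
    rw [hKdef, Finset.mem_filter, Finset.mem_range] at hk; exact hk
  choose s hs hsB using fun g : U => (g.2 : ∃ v, IsVec v ∧ C.elt v g ∈ B)
  have hfix : ∀ a, IsVec a → C.φ a ∈ B → ∃ k : K, vk k = a := by
    intro a ha haB
    obtain ⟨k, hk, rfl⟩ := exists_vk ha
    refine ⟨⟨k, Finset.mem_filter.2 ⟨Finset.mem_range.2 hk, fun g hg => ?_⟩⟩, rfl⟩
    obtain ⟨v, hv, hx⟩ := hg
    exact C.comm_φ hv ha (comm_of_sq h2 hx haB)
  have key : ∀ x : B, ∃ (k : K) (g : U), (x : G) = C.φ (vk k) * C.elt (s g) g := by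
    intro x
    obtain ⟨v, g, hv, e⟩ := C.exists_elt (hle x.2)
    have hg : g ∈ U := ⟨v, hv, e ▸ x.2⟩
    have hsg := hs ⟨g, hg⟩
    have hsB' := hsB ⟨g, hg⟩
    have hsq := C.elt_sq hsg (h2 _ hsB')
    have hy : C.φ (v ^^^ s ⟨g, hg⟩) ∈ B := by
      have h := mul_mem x.2 hsB'
      rwa [← e, C.elt_mul hv hsg, hsq.1, hsq.2, elt_one] at h
    obtain ⟨k, hk⟩ := hfix _ (hv.xor hsg) hy
    refine ⟨k, ⟨g, hg⟩, ?_⟩
    rw [← e, hk, ← C.elt_one (v ^^^ _), C.elt_mul (hv.xor hsg) hsg, gact_one hsg, one_mul,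
      Nat.xor_assoc, Nat.xor_self, Nat.xor_zero]
  choose fk fg hf using key
  have hinj : Function.Injective fun x : B => (fk x, fg x) := fun x y e => by
    simp only [Prod.mk.injEq] at e
    exact Subtype.ext (by rw [hf x, hf y, e.1, e.2])
  have hle' : Nat.card B ≤ K.card * Nat.card U := by
    refine (Nat.card_le_card_of_injective _ hinj).trans ?_
    rw [Nat.card_prod, Nat.card_eq_fintype_card (α := K), Fintype.card_coe]
  rcases fix_bound U hT (fun g hg => C.prM_sq h2 hg) K (fun k hk => (hK k hk).1)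
    (fun k hk => (hK k hk).2) with h | h | ⟨hO, hU16, hK64, hal⟩
  · refine .inl fun x hx => ?_
    obtain ⟨v, g, hv, e⟩ := C.exists_elt (hle hx)
    have hg : g ∈ U := ⟨v, hv, e ▸ hx⟩
    rw [h, Subgroup.mem_bot] at hg
    rw [← e, hg, elt_one]
    exact C.φ_mem hv
  · omega
  right
  have hmul : K.card * Nat.card U ≤ 1024 :=
    le_trans (Nat.mul_le_mul hK64 hU16) (by norm_num)
  have hU' : Nat.card U = 16 := by
    refine le_antisymm hU16 ?_
    have := hc.trans (hle'.trans (Nat.mul_le_mul_right _ hK64))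
    omega
  have hK' : K.card = 64 := by
    refine le_antisymm hK64 ?_
    rw [hU'] at hle'; omega
  have hB : Nat.card B = 1024 := le_antisymm (hle'.trans hmul) hc
  have hsurj : Function.Surjective fun x : B => (fk x, fg x) := by
    refine (Nat.bijective_iff_injective_and_card _ ).2 ⟨hinj, ?_⟩ |>.2
    rw [hB, Nat.card_prod, Nat.card_eq_fintype_card (α := K), Fintype.card_coe, hK', hU']
  have hA0 : ∀ a ∈ spanList aBasis, C.φ a ∈ B := by
    intro a ha
    have himg : (spanList aBasis).toFinset ⊆ K.image vk := by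
      have h1 : K.image vk ⊆ (spanList aBasis).toFinset := fun v hv => by
        obtain ⟨k, hk, rfl⟩ := Finset.mem_image.1 hv
        exact List.mem_toFinset.2 (hal k hk)
      refine (Finset.eq_of_subset_of_card_le h1 ?_).ge
      rw [Finset.card_image_of_injOn fun a ha b hb e => vk_inj (hK a ha).1 (hK b hb).1 e, hK']
      exact (List.toFinset_card_le _).trans_eq (by decide +kernel)
    obtain ⟨k, hk, rfl⟩ := Finset.mem_image.1 (himg (List.mem_toFinset.2 ha))
    obtain ⟨x, hx⟩ := hsurj (⟨k, hk⟩, 1)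
    simp only [Prod.mk.injEq] at hx
    have he := hf x
    rw [hx.1, hx.2] at he
    have h1 : C.elt (s 1) ((1 : U) : ↥Cfsg.M24) ∈ B := hsB 1
    have h3 := mul_mem x.2 (inv_mem h1)
    rwa [he, mul_inv_cancel_right] at h3
  have hmemU : ∀ m, oE m ∈ U := by
    have hsub : (U : Set ↥Cfsg.M24) ⊆ ↑((Finset.range 16).image oE) := fun g hg => by
      obtain ⟨m, rfl⟩ := hO g hg
      simp only [Finset.coe_image, Set.mem_image, Finset.coe_range, Set.mem_Iio]
      refine ⟨m % 16, Nat.mod_lt _ (by norm_num), ?_⟩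
      simp only [oE, oT, Nat.mod_mod]
    have heq : (U : Set ↥Cfsg.M24) = ↑((Finset.range 16).image oE) := by
      refine Set.eq_of_subset_of_ncard_le hsub ?_ (Finset.finite_toSet _)
      rw [Set.ncard_coe_finset, ← Nat.card_coe_set_eq, show Nat.card (U : Set ↥Cfsg.M24) = 16 from hU']
      exact Finset.card_image_le.trans_eq (Finset.card_range _)
    intro m
    show oE m ∈ (U : Set ↥Cfsg.M24)
    rw [heq]
    simp only [Finset.coe_image, Set.mem_image, Finset.coe_range, Set.mem_Iio]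
    exact ⟨m % 16, Nat.mod_lt _ (by norm_num), by simp only [oE, oT, Nat.mod_mod]⟩
  have hlift : ∀ i < 4, ∃ b < 2, C.elt (cand i b) (oE (2 ^ i)) ∈ B := by
    intro i hi
    obtain ⟨v, hv, hx⟩ := hmemU (2 ^ i)
    obtain ⟨b, hb, ha⟩ := exists_cand hi hv (C.elt_sq hv (h2 _ hx)).1
    refine ⟨b, hb, ?_⟩
    have h := mul_mem (hA0 _ ha) hx
    rwa [← C.elt_one (v ^^^ cand i b), C.elt_mul (hv.xor (isVec_cand hi hb)) hv, gact_one hv,
      one_mul, Nat.xor_comm v, Nat.xor_assoc, Nat.xor_self, Nat.xor_zero] at h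
  choose β hβ hβB using hlift
  set n := β 0 (by norm_num) + 2 * β 1 (by norm_num) + 4 * β 2 (by norm_num) + 8 * β 3 (by norm_num)
    with hn
  have hb0 := hβ 0 (by norm_num); have hb1 := hβ 1 (by norm_num)
  have hb2 := hβ 2 (by norm_num); have hb3 := hβ 3 (by norm_num)
  have hbit : ∀ i (hi : i < 4), n / 2 ^ i % 2 = β i hi := by
    intro i hi
    interval_cases i <;> norm_num [hn] <;> omega
  have ht := tuples
  simp only [tupleTest, forceL_eq, List.all_eq_true, List.mem_range, Bool.or_eq_true,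
    List.any_eq_true, Bool.not_eq_true', beq_eq_false_iff_ne, List.contains_iff_mem] at ht
  rcases ht n (by omega) with ⟨i, hi, j, hj, hne⟩ | ⟨b, hb, hall⟩
  · refine absurd ?_ hne
    have e := (C.elt_comm (isVec_cand hi (hβ i hi)) (isVec_cand hj (hβ j hj))
      (comm_of_sq h2 (hβB i hi) (hβB j hj))).1
    rw [hbit i hi, hbit j hj]
    simp only [oE, gact_gOf (tab_oT _)] at e
    have e' := congrArg (· ^^^ (cand i (β i hi) ^^^ cand j (β j hj))) e
    calc _ = cand i (β i hi) ^^^ act (oT (2 ^ i)) (cand j (β j hj)) ^^^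
          (cand i (β i hi) ^^^ cand j (β j hj)) := by
            rw [Nat.xor_comm (cand i _) (act _ _), Nat.xor_assoc, ← Nat.xor_assoc (cand i _),
              Nat.xor_self, Nat.zero_xor]
      _ = _ := e'
      _ = _ := by
            rw [Nat.xor_comm (cand j _) (act _ _), Nat.xor_assoc, Nat.xor_comm (cand i _) (cand j _),
              ← Nat.xor_assoc (cand j _), Nat.xor_self, Nat.zero_xor]
  have hw : IsVec (shift b) := by
    rw [shift]; split
    · exact isVec_zero
    · exact List.contains_iff_mem.1 cand_checks.2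
  refine ⟨C.φ (shift b), C.V_le (C.φ_mem hw), ?_⟩
  set B' := B.map (MulAut.conj (C.φ (shift b))).toMonoidHom with hB'
  have : Finite B' := Finite.of_equiv _ (B.equivMapOfInjective _ (MulAut.conj _).injective).toEquiv
  have hA0' : ∀ a ∈ spanList aBasis, C.φ a ∈ B' := by
    intro a ha
    refine ⟨C.φ a, hA0 a ha, ?_⟩
    show C.φ (shift b) * C.φ a * (C.φ (shift b))⁻¹ = C.φ a
    rw [C.φ_comm hw (isVec_of_aBasis ha), mul_inv_cancel_right]
  have hgen : ∀ i < 4, C.κ (oE (2 ^ i)) ∈ B' := by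
    intro i hi
    have ha := hall i hi
    rw [hbit i hi] at ha
    have hm : C.elt (shift b ^^^ cand i (β i hi) ^^^ gact (oE (2 ^ i)) (shift b)) (oE (2 ^ i)) ∈ B' :=
      ⟨_, hβB i hi, (C.conj_φ_elt hw (isVec_cand hi (hβ i hi)) _)⟩
    rw [oE, gact_gOf (tab_oT _), ← oE] at hm
    have h := mul_mem (hA0' _ ha) hm
    rwa [← C.elt_one (shift b ^^^ _ ^^^ _), C.elt_mul (isVec_of_aBasis ha) (isVec_of_aBasis ha),
      gact_one (isVec_of_aBasis ha), one_mul, Nat.xor_self, elt_zero] at h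
  have hsub : C.A ≤ B' := by
    rintro _ ⟨m, -, rfl⟩
    rw [aEl, elt]
    refine mul_mem (hA0' _ (aV_mem_iff.1 ⟨m, rfl⟩)) ?_
    have hall16 : ∀ q < 2 ^ 4, C.κ (oE q) ∈ B' := xor_bits_induction
      (by rw [oE_zero, map_one]; exact one_mem _)
      (fun a c ha hc => by rw [oE_xor, map_mul]; exact mul_mem ha hc) 4 hgen
    have := hall16 (m / 64 % 16) (Nat.mod_lt _ (by norm_num))
    simpa only [oE, oT, Nat.mod_mod] using this
  refine (Subgroup.eq_of_le_of_card_ge hsub ?_).symm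
  rw [C.card_A, hB', Subgroup.card_map_of_injective (MulAut.conj _).injective, hB]

theorem classify {B : Subgroup G} (hle : B ≤ Subgroup.normalizer (C.V : Set G))
    (h2 : ∀ x ∈ B, x * x = 1) (hc : 1024 ≤ Nat.card B) :
    B ≤ C.V ∨ ∃ x ∈ Subgroup.normalizer (C.V : Set G), B.map (MulAut.conj x).toMonoidHom = C.A := by
  have hp : IsPGroup 2 (C.prM B) := fun g => ⟨1, Subtype.ext (by
    simpa [pow_two] using C.prM_sq h2 g.2)⟩
  obtain ⟨h, hh⟩ := exists_conj_sylT hp
  have hκ : C.κ h ∈ Subgroup.normalizer (C.V : Set G) := C.elt_zero h ▸ C.elt_mem isVec_zero h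
  set B' := B.map (MulAut.conj (C.κ h)).toMonoidHom with hB'
  have hle' : B' ≤ Subgroup.normalizer (C.V : Set G) := by
    rintro _ ⟨x, hx, rfl⟩
    exact mul_mem (mul_mem hκ (hle hx)) (inv_mem hκ)
  have hT : C.prM B' ≤ sylT := by
    rintro g ⟨v, hv, x, hx, e⟩
    obtain ⟨w, k, hw, rfl⟩ := C.exists_elt (hle hx)
    have e' : C.κ h * C.elt w k * (C.κ h)⁻¹ = C.elt v g := e
    rw [C.conj_κ_elt hw] at e'
    rw [← (C.elt_inj (isVec_gact h hw) hv e').2]
    exact hh ⟨k, ⟨w, hw, hx⟩, rfl⟩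
  have h2' : ∀ x ∈ B', x * x = 1 := by
    rintro _ ⟨x, hx, rfl⟩
    rw [← map_mul, h2 x hx, map_one]
  have hc' : 1024 ≤ Nat.card B' := by
    rwa [hB', Subgroup.card_map_of_injective (MulAut.conj _).injective]
  rcases C.classify_sylT hle' h2' hc' hT with h' | ⟨x, hx, h'⟩
  · refine .inl fun y hy => ?_
    have hm : C.κ h * y * (C.κ h)⁻¹ ∈ C.V := h' ⟨y, hy, rfl⟩
    exact (Subgroup.mem_normalizer_iff.1 hκ y).2 hm
  · refine .inr ⟨x * C.κ h, mul_mem hx hκ, ?_⟩
    rw [← h', hB', Subgroup.map_map]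
    congr 1
    ext y
    simp [mul_assoc]

end Coc

end Cfsg.Agent.H85.JTen
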