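import Cfsg.Agent.H85.JTen.Coc
import Cfsg.Agent.H85.JTen.Rows

/-!
The Sylow 2-subgroup of the group of the code by tables.
-/

set_option autoImplicit false

namespace Cfsg.Agent.H85.JTen

open Cfsg Cfsg.Agent.Golay Cfsg.Agent.H94.M24

/-- The Sylow 2-subgroup. -/
noncomputable def sylT : Subgroup ↥Cfsg.M24 := Subgroup.closure {g | ∃ t ∈ tGens, gOf t = g}

lemma tList_ok :
    tGens.all tabB = true ∧ tList.all tabB = true ∧ tList.getD 0 0 = idTblVal ∧
    tList.length = 1024 := by
  decide +kernel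

lemma tRows_eq : tRows.flatten = tList := by decide +kernel

/-- The member of an index. -/
def tAt (c : ℕ) : ℕ := (tRows.getD (c / 32) []).getD (c % 32) 0

/-- The successors are right. -/
def nextTest : Bool :=
  (tList.zip tNext).all fun x => (List.range 4).all fun k =>
    forceN ((x.2 >>> (16 * k)) &&& 65535) fun c =>
      decide (c < 1024) && (tAt c == tblMul x.1 (tGens.getD k 0))

lemma next_ok : nextTest = true ∧ tNext.length = 1024 ∧ tGens.length = 4 := by decide +kernel

lemma tAt_eq {c : ℕ} (hc : c < 1024) : tAt c = tList.getD c 0 := by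
  have h : ((List.range 1024).zip tList).all (fun x => tAt x.1 == x.2) = true := by decide +kernel
  have hl := tList_ok.2.2.2
  rw [List.getD_eq_getElem _ _ (by omega)]
  exact eq_of_beq (List.all_eq_true.1 h (c, tList[c]'(by omega))
    (List.mem_iff_getElem.2 ⟨c, by simp [hl, hc], by simp⟩))

lemma tList_reach' :
    (((List.range 1024).zip (tList.zip tPar)).all fun x => x.1 == 0 || forceN x.2.2 fun p =>
      (decide (p / 16 < x.1) && decide (p % 16 < 4) &&
        (tblMul (tAt (p / 16)) (tGens.getD (p % 16) 0) == x.2.1))) = true := by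
  decide +kernel

lemma tPar_len : tPar.length = 1024 := by decide +kernel

lemma tList_reach (i : ℕ) (hi : i < 1024) (h0 : i ≠ 0) : ∃ p, p / 16 < i ∧ p % 16 < 4 ∧
    tblMul (tAt (p / 16)) (tGens.getD (p % 16) 0) = tList.getD i 0 := by
  have hl := tList_ok.2.2.2
  have hp := tPar_len
  have hm : (i, tList[i]'(by omega), tPar[i]'(by omega)) ∈
      (List.range 1024).zip (tList.zip tPar) := by
    refine List.mem_iff_getElem.2 ⟨i, by simp [hl, hp, hi], ?_⟩
    simp
  have h := List.all_eq_true.1 tList_reach' _ hm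
  simp only [forceN_eq, Bool.or_eq_true, beq_iff_eq, Bool.and_eq_true, decide_eq_true_eq] at h
  rcases h with h | ⟨⟨h1, h2⟩, h3⟩
  · exact absurd h h0
  · exact ⟨_, h1, h2, by rw [h3, List.getD_eq_getElem _ _ (by omega)]⟩

/-- No repetition. -/
def nodupB : List ℕ → Bool
  | [] => true
  | a :: t => (t.all fun b => !Nat.beq a b) && nodupB t

lemma nodupB_sound : ∀ L : List ℕ, nodupB L = true → L.Nodup
  | [], _ => List.nodup_nil
  | a :: t, h => by
    simp only [nodupB, Bool.and_eq_true, List.all_eq_true, Bool.not_eq_true'] at h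
    refine List.nodup_cons.2 ⟨fun ha => ?_, nodupB_sound t h.2⟩
    have := h.1 a ha
    simp at this

lemma tList_nodup' : nodupB tList = true := by decide +kernel

lemma tList_nodup : tList.Nodup := nodupB_sound _ tList_nodup'

lemma tAt_mem {c : ℕ} (hc : c < 1024) : tAt c ∈ tList := by
  have hrows : tRows.length = 32 := by decide +kernel
  have hlen : (tRows.all fun r => r.length == 32) = true := by decide +kernel
  have h32 : c / 32 < tRows.length := by omega
  rw [tAt, List.getD_eq_getElem _ _ h32]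
  have hr := eq_of_beq (List.all_eq_true.1 hlen _ (List.getElem_mem h32))
  rw [List.getD_eq_getElem _ _ (by rw [hr]; omega), ← tRows_eq, List.mem_flatten]
  exact ⟨_, List.getElem_mem h32, List.getElem_mem _⟩

lemma tAt_surj {t : ℕ} (ht : t ∈ tList) : ∃ c < 1024, tAt c = t := by
  have hrows : tRows.length = 32 := by decide +kernel
  have hlen : (tRows.all fun r => r.length == 32) = true := by decide +kernel
  rw [← tRows_eq, List.mem_flatten] at ht
  obtain ⟨r, hr, ht⟩ := ht
  obtain ⟨i, hi, rfl⟩ := List.getElem_of_mem hr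
  obtain ⟨j, hj, rfl⟩ := List.getElem_of_mem ht
  have hj32 : j < 32 := by
    have := eq_of_beq (List.all_eq_true.1 hlen _ (List.getElem_mem hi)); omega
  refine ⟨32 * i + j, by omega, ?_⟩
  rw [tAt, show (32 * i + j) / 32 = i by omega, show (32 * i + j) % 32 = j by omega,
    List.getD_eq_getElem _ _ hi, List.getD_eq_getElem _ _ hj]

lemma tab_tList {t : ℕ} (h : t ∈ tList) : Tab t :=
  tab_of (List.all_eq_true.1 tList_ok.2.1 t h)

lemma tab_tGens {t : ℕ} (h : t ∈ tGens) : Tab t :=
  tab_of (List.all_eq_true.1 tList_ok.1 t h)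

attribute [local irreducible] tblMul mkTbl tList tGens tPar tRows tNext

theorem mem_sylT {g : ↥Cfsg.M24} : g ∈ sylT ↔ ∃ t ∈ tList, gOf t = g := by
  have hcl := next_ok.1
  simp only [nextTest, List.all_eq_true, List.mem_range, forceN_eq, Bool.and_eq_true,
    decide_eq_true_eq, beq_iff_eq] at hcl
  obtain ⟨-, -, h0, hlen⟩ := tList_ok
  have hg4 := next_ok.2.2
  constructor
  · intro hm
    rw [sylT, ← Subgroup.mem_toSubmonoid, Subgroup.closure_toSubmonoid_of_finite] at hm
    induction hm using Submonoid.closure_induction_right with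
    | one =>
      refine ⟨idTblVal, h0 ▸ ?_, tab_id.2⟩
      rw [List.getD_eq_getElem _ _ (by rw [hlen]; norm_num)]
      exact List.getElem_mem _
    | mul_right x _ y hy ih =>
      obtain ⟨t, ht, rfl⟩ := hy
      obtain ⟨u, hu, rfl⟩ := ih
      obtain ⟨k, hk, rfl⟩ := List.getElem_of_mem ht
      obtain ⟨i, hi, rfl⟩ := List.getElem_of_mem hu
      have hi' : i < tNext.length := by rw [next_ok.2.1, ← hlen]; exact hi
      have hz : (tList[i], tNext[i]) ∈ tList.zip tNext := by
        rw [← List.getElem_zip (h := by rw [List.length_zip]; exact lt_min hi hi')]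
        exact List.getElem_mem _
      obtain ⟨hc, he⟩ := hcl _ hz k (hg4 ▸ hk)
      rw [List.getD_eq_getElem _ _ hk] at he
      exact ⟨_, he ▸ tAt_mem hc, ((tab_tList (List.getElem_mem hi)).mul
        (tab_tGens (List.getElem_mem hk))).2⟩
  · rintro ⟨t, ht, rfl⟩
    obtain ⟨i, hi, rfl⟩ := tAt_surj ht
    clear ht
    induction i using Nat.strong_induction_on with
    | _ i ih =>
      by_cases e : i = 0
      · rw [e, show tAt 0 = idTblVal by decide +kernel, tab_id.2]; exact one_mem _
      · obtain ⟨p, h1, h2, h3⟩ := tList_reach i hi e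
        rw [tAt_eq hi, ← h3]
        have hc : tGens.getD (p % 16) 0 ∈ tGens := by
          rw [List.getD_eq_getElem _ _ (hg4 ▸ h2)]; exact List.getElem_mem _
        rw [((tab_tList (tAt_mem (h1.trans hi))).mul (tab_tGens hc)).2]
        exact mul_mem (ih _ h1 (h1.trans hi)) (Subgroup.subset_closure ⟨_, hc, rfl⟩)

theorem card_sylT : Nat.card sylT = 1024 := by
  rw [← tList_ok.2.2.2, ← List.toFinset_card_of_nodup tList_nodup, ← Nat.card_eq_finsetCard]
  refine (Nat.card_eq_of_bijective
    (fun t => ⟨gOf t.1, mem_sylT.2 ⟨t.1, List.mem_toFinset.1 t.2, rfl⟩⟩)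
    ⟨fun a b hab => Subtype.ext ((tab_tList (List.mem_toFinset.1 a.2)).inj
      (tab_tList (List.mem_toFinset.1 b.2)) (congrArg Subtype.val hab)), fun g => ?_⟩).symm
  obtain ⟨t, ht, he⟩ := mem_sylT.1 g.2
  exact ⟨⟨t, List.mem_toFinset.2 ht⟩, Subtype.ext he⟩

theorem exists_conj_sylT {U : Subgroup ↥Cfsg.M24} (hU : IsPGroup 2 U) :
    ∃ g : ↥Cfsg.M24, U.map (MulAut.conj g).toMonoidHom ≤ sylT := by
  have : Fact (Nat.Prime 2) := ⟨Nat.prime_two⟩
  obtain ⟨P, hP⟩ := hU.exists_le_sylow
  obtain ⟨Q, hQ⟩ := (IsPGroup.of_card (p := 2) (n := 10) (G := ↥sylT)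
    (by rw [card_sylT]; norm_num)).exists_le_sylow
  have hQe : sylT = (Q : Subgroup ↥Cfsg.M24) := by
    refine Subgroup.eq_of_le_of_card_ge hQ ?_
    obtain ⟨k, hk⟩ := IsPGroup.iff_card.1 Q.isPGroup'
    have hd : Nat.card (Q : Subgroup ↥Cfsg.M24) ∣ 244823040 :=
      Golay.card_M24 ▸ (Q : Subgroup ↥Cfsg.M24).card_subgroup_dvd_card
    rw [hk] at hd
    rw [card_sylT, hk]
    by_contra hlt
    have h11 : 2 ^ 11 ∣ 2 ^ k := pow_dvd_pow 2 (by
      by_contra h11
      exact hlt (le_trans (Nat.pow_le_pow_right (by norm_num) (by omega : k ≤ 10)) (by norm_num)))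
    exact absurd (h11.trans hd) (by decide +kernel)
  obtain ⟨g, hg⟩ := MulAction.exists_smul_eq ↥Cfsg.M24 P Q
  refine ⟨g, le_trans (Subgroup.map_mono hP) ?_⟩
  rw [hQe, ← hg]
  rfl

end Cfsg.Agent.H85.JTen
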