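import Cfsg.Agent.H85.JTen.Oct
import Cfsg.Agent.H85.JTen.TwoGroup
import Cfsg.Agent.H85.JTen.ChkTwo
import Cfsg.Agent.H85.JTen.ChkFun
import Cfsg.Agent.H85.JTen.ChkRootA
import Cfsg.Agent.H85.JTen.ChkRootB

/-!
Elementary subgroups of the Sylow 2-subgroup of the group of the code: the order times the number
of fixed vectors exceeds 1023 only for the pointwise stabiliser of an octad.
-/

set_option autoImplicit false

namespace Cfsg.Agent.H85.JTen

open Cfsg Cfsg.Agent.Golay Cfsg.Agent.H94.M24

lemma vk_inj {a b : ℕ} (ha : a < 2 ^ 11) (hb : b < 2 ^ 11) (h : vk a = vk b) : a = b := by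
  have hsub : vecList.toFinset ⊆ (Finset.range (2 ^ 11)).image vk := fun v hv => by
    obtain ⟨k, hk, rfl⟩ := exists_vk (List.mem_toFinset.1 hv)
    exact Finset.mem_image.2 ⟨k, Finset.mem_range.2 hk, rfl⟩
  have hcard := Finset.card_le_card hsub
  rw [List.toFinset_card_of_nodup vecList_nodup, vecList_length] at hcard
  have heq : ((Finset.range (2 ^ 11)).image vk).card = (Finset.range (2 ^ 11)).card :=
    le_antisymm Finset.card_image_le (by rw [Finset.card_range]; exact hcard)
  exact Finset.card_image_iff.1 heq (Finset.mem_range.2 ha) (Finset.mem_range.2 hb) h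

/-- The involution of an index. -/
def invT (i : ℕ) : ℕ := tInv.getD i 0

/-- Its element. -/
noncomputable def invE (i : ℕ) : ↥Cfsg.M24 := gOf (invT i)

lemma invT_mem {i : ℕ} (hi : i < 191) : invT i ∈ tInv := by
  rw [invT, List.getD_eq_getElem _ _ (by rw [tInv_facts.1]; exact hi)]
  exact List.getElem_mem _

lemma invT_spec {i : ℕ} (hi : i < 191) : invT i ∈ tList ∧ invT i ≠ idTblVal := by
  have h := List.all_eq_true.1 tInv_facts.2.2 _ (invT_mem hi)
  simpa [List.contains_iff_mem] using h

lemma tab_invT {i : ℕ} (hi : i < 191) : Tab (invT i) := tab_tList (invT_spec hi).1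

lemma invT_inj {i j : ℕ} (hi : i < 191) (hj : j < 191) (h : invT i = invT j) : i = j := by
  rw [invT, invT, List.getD_eq_getElem _ _ (by rw [tInv_facts.1]; exact hi),
    List.getD_eq_getElem _ _ (by rw [tInv_facts.1]; exact hj)] at h
  exact tInv_facts.2.1.getElem_inj_iff.1 h

lemma invE_inj {i j : ℕ} (hi : i < 191) (hj : j < 191) (h : invE i = invE j) : i = j :=
  invT_inj hi hj ((tab_invT hi).inj (tab_invT hj) h)

lemma invE_ne_one {i : ℕ} (hi : i < 191) : invE i ≠ 1 := fun h =>
  (invT_spec hi).2 ((tab_invT hi).inj tab_id.1 (h.trans tab_id.2.symm))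

lemma exists_invE {g : ↥Cfsg.M24} (hg : g ∈ sylT) (h2 : g * g = 1) (h1 : g ≠ 1) :
    ∃ i < 191, invE i = g := by
  obtain ⟨t, ht, rfl⟩ := mem_sylT.1 hg
  have hc := List.all_eq_true.1 tInv_complete t ht
  simp only [Bool.or_eq_true, beq_iff_eq, Bool.not_eq_true', beq_eq_false_iff_ne,
    List.contains_iff_mem] at hc
  have hm := (tab_tList ht).mul (tab_tList ht)
  have hid : tblMul t t = idTblVal := hm.1.inj tab_id.1 (by rw [hm.2, h2, tab_id.2])
  rcases hc with (e | e) | e
  · exact absurd (by rw [e, tab_id.2]) h1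
  · exact absurd hid e
  · obtain ⟨i, hi, rfl⟩ := List.getElem_of_mem e
    refine ⟨i, tInv_facts.1 ▸ hi, ?_⟩
    rw [invE, invT, List.getD_eq_getElem _ _ hi]

lemma prod_rows {i : ℕ} (hi : i < 191) {j : ℕ} (hj : j < 191) (hij : i ≠ j)
    (hc : invE i * invE j = invE j * invE i) :
    byteAt (prodRow i) j < 191 ∧ invE (byteAt (prodRow i) j) = invE i * invE j := by
  have hs := tab_invT hi
  have ht := tab_invT hj
  have key : ∀ lo len, prodRowsTest lo len = true → lo ≤ i → i < lo + len →
      comm24 (invT i) (invT j) = true →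
      byteAt (prodRow i) j < 191 ∧ invT (byteAt (prodRow i) j) = tblMul (invT i) (invT j) := by
    intro lo len h h1 h2 h3
    simp only [prodRowsTest, List.all_eq_true, List.mem_range, forceN_eq, Bool.or_eq_true,
      beq_iff_eq, Bool.not_eq_true', Bool.and_eq_true, decide_eq_true_eq] at h
    have h' := h (i - lo) (by omega) j hj
    rw [show lo + (i - lo) = i by omega] at h'
    have hp := eq_of_beq (List.all_eq_true.1 prodRow_eq i (List.mem_range.2 hi))
    rw [byteAt, hp]
    rcases h' with h' | h' | h'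
    · exact absurd h' hij
    · rw [← invT, ← invT, h3] at h'; exact Bool.noConfusion h'
    · exact h'
  have hcomm := comm24_of_eq ((hs.comm_iff ht).2 hc)
  obtain ⟨h1, h2⟩ : byteAt (prodRow i) j < 191 ∧
      invT (byteAt (prodRow i) j) = tblMul (invT i) (invT j) := by
    rcases Nat.lt_or_ge i 64 with h | h
    · exact key 0 64 prod_rows1 (Nat.zero_le _) (by omega) hcomm
    rcases Nat.lt_or_ge i 128 with h' | h'
    · exact key 64 64 prod_rows2 h (by omega) hcomm
    · exact key 128 63 prod_rows3 h' (by omega) hcomm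
  refine ⟨h1, ?_⟩
  rw [invE, h2, (hs.mul ht).2]
  rfl

lemma funRow_spec {i k : ℕ} (hi : i < 191) (h : gact (invE i) (vk k) = vk k) {f : ℕ}
    (hf : f ∈ funRow i) : f < 2 ^ 11 ∧ dot 11 k f = false := by
  have ht := fun_ok
  simp only [funTest, List.all_eq_true, List.mem_range, forceN_eq, forceL_eq, Bool.and_eq_true,
    beq_iff_eq] at ht
  obtain ⟨he, hlt⟩ := ht i hi
  refine ⟨Nat.le_of_ble_eq_true (hlt f hf), ?_⟩
  rw [he, List.mem_map] at hf
  obtain ⟨p, -, rfl⟩ := hf
  rw [invE, gact_gOf (tab_invT hi)] at h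
  exact dot_of_fixed (tab_invT hi).valid h

lemma root_all : (List.range 191).all (fun j =>
    kid prodRow funRow (srch prodRow funRow oMask aList 8) [] (List.range 191) [] j) = true := by
  rw [List.all_eq_true]
  intro j hj
  rw [List.mem_range] at hj
  have key : ∀ lo len, rootTest lo len = true → lo ≤ j → j < lo + len →
      kid prodRow funRow (srch prodRow funRow oMask aList 8) [] (List.range 191) [] j = true := by
    intro lo len h h1 h2
    simp only [rootTest, forceL_eq, List.all_eq_true, List.mem_range] at h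
    have h' := h (j - lo) (by omega)
    rwa [show lo + (j - lo) = j by omega] at h'
  rcases Nat.lt_or_ge j 3 with h | h
  · exact key 0 3 root0 (Nat.zero_le _) (by omega)
  rcases Nat.lt_or_ge j 12 with h1 | h1
  · exact key 3 9 root1 h (by omega)
  rcases Nat.lt_or_ge j 27 with h2 | h2
  · exact key 12 15 root2 h1 (by omega)
  · exact key 27 164 root3 h2 (by omega)

lemma oMask_spec {i : ℕ} (hi : i < 191) (h : oMask.testBit i = true) : ∃ m < 16, invE i = oE m := by
  have hc : ((List.range 191).all fun i => !oMask.testBit i || oList.contains (invT i)) = true := by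
    decide +kernel
  have h' := List.all_eq_true.1 hc i (List.mem_range.2 hi)
  rw [h, Bool.not_true, Bool.false_or, List.contains_iff_mem, oct_checks.2.2.2.2.2.2.1,
    List.mem_map] at h'
  obtain ⟨m, hm, e⟩ := h'
  exact ⟨m, List.mem_range.1 hm, by rw [invE, ← e]; rfl⟩

/-- The bound. -/
theorem fix_bound (U : Subgroup ↥Cfsg.M24) (hU : U ≤ sylT) (h2 : ∀ g ∈ U, g * g = 1)
    (K : Finset ℕ) (hK : ∀ k ∈ K, k < 2 ^ 11) (hfix : ∀ k ∈ K, ∀ g ∈ U, gact g (vk k) = vk k) :
    U = ⊥ ∨ K.card * Nat.card U < 1024 ∨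
      ((∀ g ∈ U, ∃ m, oE m = g) ∧ Nat.card U ≤ 16 ∧ K.card ≤ 64 ∧
        ∀ k ∈ K, vk k ∈ spanList aBasis) := by
  classical
  set I : Finset ℕ := (Finset.range 191).filter fun i => invE i ∈ U with hIdef
  have hI : ∀ i ∈ I, i < 191 ∧ invE i ∈ U := fun i hi => by
    rw [hIdef, Finset.mem_filter, Finset.mem_range] at hi; exact hi
  have hcomm : ∀ i ∈ I, ∀ j ∈ I, invE i * invE j = invE j * invE i := fun i hi j hj => by
    have ha := h2 _ (hI i hi).2
    have hb := h2 _ (hI j hj).2
    have hab := h2 _ (mul_mem (hI i hi).2 (hI j hj).2)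
    calc invE i * invE j = (invE i * invE j)⁻¹ := eq_inv_of_mul_eq_one_left hab
      _ = (invE j)⁻¹ * (invE i)⁻¹ := mul_inv_rev _ _
      _ = invE j * invE i := by rw [← eq_inv_of_mul_eq_one_left ha, ← eq_inv_of_mul_eq_one_left hb]
  have hcover : ∀ g ∈ U, g = 1 ∨ ∃ i ∈ I, invE i = g := fun g hg => by
    by_cases h1 : g = 1
    · exact .inl h1
    obtain ⟨i, hi, e⟩ := exists_invE (hU hg) (h2 g hg) h1
    exact .inr ⟨i, Finset.mem_filter.2 ⟨Finset.mem_range.2 hi, e ▸ hg⟩, e⟩
  have hUcard : Nat.card U ≤ I.card + 1 := by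
    have hsub : (U : Set ↥Cfsg.M24) ⊆ ↑(insert 1 (I.image invE)) := fun g hg => by
      rcases hcover g hg with e | ⟨i, hi, e⟩
      · simp [e]
      · simp only [Finset.coe_insert, Set.mem_insert_iff, Finset.coe_image, Set.mem_image,
          Finset.mem_coe]
        exact .inr ⟨i, hi, e⟩
    have := Nat.card_mono (Finset.finite_toSet _) hsub
    simp only [Nat.card_coe_set_eq, Set.ncard_coe_finset] at this
    exact this.trans ((Finset.card_insert_le _ _).trans (Nat.add_le_add_right Finset.card_image_le _))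
  have hs := srch_sound 191 prodRow funRow oMask aList (by norm_num) I K invE
    (fun i hi => (hI i hi).1) hK
    (fun i hi f hf => ⟨by
        have ht := fun_ok
        simp only [funTest, List.all_eq_true, List.mem_range, forceN_eq, forceL_eq,
          Bool.and_eq_true, beq_iff_eq] at ht
        exact Nat.le_of_ble_eq_true ((ht i (hI i hi).1).2 f hf),
      fun k hk => (funRow_spec (hI i hi).1 (hfix k hk _ (hI i hi).2) hf).2⟩)
    (fun i hi j hj => invE_inj (hI i hi).1 (hI j hj).1) (fun i hi => invE_ne_one (hI i hi).1)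
    (fun i hi => h2 _ (hI i hi).2) hcomm
    (fun i hi j hj hij => by
      obtain ⟨h1, he⟩ := prod_rows (hI i hi).1 (hI j hj).1 hij (hcomm i hi j hj)
      exact ⟨Finset.mem_filter.2 ⟨Finset.mem_range.2 h1,
        he ▸ mul_mem (hI i hi).2 (hI j hj).2⟩, he⟩)
    9 [] (List.range 191) []
    (by simp only [srch, leafOK, List.length_nil, beq_self_eq_true, Bool.true_or, Bool.true_and]
        exact root_all)
    (by simp) (by simp) (fun i hi _ _ => List.mem_range.2 (hI i hi).1) ⟨trivial, by simp⟩
  rcases hs with h | h | ⟨h15, hO, hal⟩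
  · refine .inl ((Subgroup.eq_bot_iff_forall _).2 fun g hg => ?_)
    rcases hcover g hg with e | ⟨i, hi, -⟩
    · exact e
    · rw [h] at hi; simp at hi
  · exact .inr (.inl (lt_of_le_of_lt (Nat.mul_le_mul_left _ hUcard) h))
  · refine .inr (.inr ⟨fun g hg => ?_, hUcard.trans (by omega), ?_, hal⟩)
    · rcases hcover g hg with e | ⟨i, hi, e⟩
      · exact ⟨0, by rw [e, oE_zero]⟩
      · obtain ⟨m, -, hm⟩ := oMask_spec (hI i hi).1 (hO i hi)
        exact ⟨m, by rw [← hm, e]⟩
    · have h64 : (spanList aBasis).length = 64 := by decide +kernel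
      have hsub : K.image vk ⊆ aList.toFinset := fun v hv => by
        obtain ⟨k, hk, rfl⟩ := Finset.mem_image.1 hv
        exact List.mem_toFinset.2 (hal k hk)
      have h1 := (Finset.card_le_card hsub).trans (List.toFinset_card_le _)
      rw [Finset.card_image_of_injOn fun a ha b hb e => vk_inj (hK a ha) (hK b hb) e, aList,
        h64] at h1
      exact h1

end Cfsg.Agent.H85.JTen
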