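import Cfsg.Agent.H85.JTen.Vec
import Cfsg.Prelude.Def_Transfer

/-!
Groups with a subgroup of order 2^11 whose normaliser is the split extension of the cocode by the
Mathieu group on 24 points.
-/

set_option autoImplicit false

namespace Cfsg.Agent.H85.JTen

open Cfsg Cfsg.Agent.Golay Cfsg.Agent.H94.M24
open scoped Pointwise

/-- A table of an element of the group of the code in normal form. -/
structure Tab (T : ℕ) : Prop where
  canon : canonT T = true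
  inM : inM24 T = true

/-- The test for tables. -/
def tabB (T : ℕ) : Bool := inM24 T && canonT T

lemma tab_of {T : ℕ} (h : tabB T = true) : Tab T := by
  rw [tabB, Bool.and_eq_true] at h; exact ⟨h.2, h.1⟩

lemma Tab.valid {T : ℕ} (h : Tab T) : validT T = true := canonT_validT h.canon

open Classical in
/-- The element of a table. -/
noncomputable def gOf (T : ℕ) : ↥Cfsg.M24 :=
  if h : mkPerm T ∈ Cfsg.M24 then ⟨mkPerm T, h⟩ else 1

lemma Tab.coe {T : ℕ} (h : Tab T) : (gOf T : Equiv.Perm GolayPt) = mkPerm T := by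
  rw [gOf, dif_pos (mem_M24_of_inM24 h.inM)]

/-- The table of an element. -/
def tb (g : ↥Cfsg.M24) : ℕ := tblOf (g : Equiv.Perm GolayPt)

lemma tab_tb (g : ↥Cfsg.M24) : Tab (tb g) where
  canon := by
    rw [canonT, tb, validT_tblOf, Bool.true_and, beq_iff_eq]
    exact H94.M24.mkTbl_congr fun i hi => app_tblOf _ hi
  inM := by
    rw [tb, inM24_iff (validT_tblOf _), mkPerm_tblOf]; exact g.2

lemma gOf_tb (g : ↥Cfsg.M24) : gOf (tb g) = g := by
  apply Subtype.ext; rw [(tab_tb g).coe, tb, mkPerm_tblOf]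

lemma Tab.tb_gOf {T : ℕ} (h : Tab T) : tb (gOf T) = T := by
  rw [tb, h.coe, tblOf_mkPerm h.canon]

lemma Tab.inj {S T : ℕ} (hS : Tab S) (hT : Tab T) (h : gOf S = gOf T) : S = T := by
  rw [← hS.tb_gOf, h, hT.tb_gOf]

lemma Tab.mul {S T : ℕ} (hS : Tab S) (hT : Tab T) :
    Tab (tblMul S T) ∧ gOf (tblMul S T) = gOf S * gOf T := by
  have hsp := tblMul_spec hS.valid hT.valid
  have hmem : mkPerm (tblMul S T) ∈ Cfsg.M24 := by
    rw [hsp.2]; exact mul_mem (mem_M24_of_inM24 hS.inM) (mem_M24_of_inM24 hT.inM)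
  have h : Tab (tblMul S T) :=
    ⟨canonT_tblMul hS.valid hT.valid, (inM24_iff hsp.1).2 hmem⟩
  exact ⟨h, Subtype.ext (by rw [h.coe, hsp.2, Subgroup.coe_mul, hS.coe, hT.coe])⟩

lemma tab_id : Tab idTblVal ∧ gOf idTblVal = 1 := by
  have h : Tab idTblVal := ⟨idTblVal_canon, (inM24_iff idTblVal_spec.1).2
    (by rw [idTblVal_spec.2]; exact one_mem _)⟩
  exact ⟨h, Subtype.ext (by rw [h.coe, idTblVal_spec.2]; rfl)⟩

lemma tb_mul (g h : ↥Cfsg.M24) : tb (g * h) = tblMul (tb g) (tb h) := by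
  refine (tab_tb _).inj ((tab_tb g).mul (tab_tb h)).1 ?_
  rw [((tab_tb g).mul (tab_tb h)).2, gOf_tb, gOf_tb, gOf_tb]

lemma tb_one : tb 1 = idTblVal := by
  rw [← tab_id.2, tab_id.1.tb_gOf]

lemma Tab.comm_iff {S T : ℕ} (hS : Tab S) (hT : Tab T) :
    tblMul S T = tblMul T S ↔ gOf S * gOf T = gOf T * gOf S := by
  rw [← (hS.mul hT).2, ← (hT.mul hS).2]
  exact ⟨congrArg gOf, (hS.mul hT).1.inj (hT.mul hS).1⟩

/-- The action of an element on vectors. -/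
def gact (g : ↥Cfsg.M24) (v : ℕ) : ℕ := act (tb g) v

lemma isVec_gact (g : ↥Cfsg.M24) {v : ℕ} (hv : IsVec v) : IsVec (gact g v) :=
  isVec_act (tab_tb g).valid hv

lemma gact_mul (g h : ↥Cfsg.M24) (v : ℕ) : gact (g * h) v = gact g (gact h v) := by
  rw [gact, tb_mul, act_mul (tab_tb g).inM (tab_tb h).inM]; rfl

lemma gact_one {v : ℕ} (hv : IsVec v) : gact 1 v = v := by rw [gact, tb_one, act_id hv]

lemma gact_xor (g : ↥Cfsg.M24) (a b : ℕ) : gact g (a ^^^ b) = gact g a ^^^ gact g b :=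
  act_xor (tab_tb g).valid a b

lemma gact_gOf {T : ℕ} (h : Tab T) (v : ℕ) : gact (gOf T) v = act T v := by
  rw [gact, h.tb_gOf]

/-- The structure of the normaliser of a subgroup of order 2^11 in a group of Janko-four type. -/
structure Coc (G : Type*) [Group G] where
  /-- The subgroup of order 2^11. -/
  V : Subgroup G
  /-- Its parametrisation by reduced masks. -/
  φ : ℕ → G
  /-- The complement. -/
  κ : ↥Cfsg.M24 →* G
  mem_V : ∀ x, x ∈ V ↔ ∃ v, IsVec v ∧ φ v = x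
  φ_mul : ∀ a b, IsVec a → IsVec b → φ (a ^^^ b) = φ a * φ b
  φ_eq_one : ∀ a, IsVec a → φ a = 1 → a = 0
  κ_V : ∀ g, κ g ∈ V → g = 1
  conj : ∀ g v, IsVec v → κ g * φ v * (κ g)⁻¹ = φ (gact g v)
  mem_norm : ∀ x, x ∈ Subgroup.normalizer (V : Set G) ↔ ∃ v g, IsVec v ∧ x = φ v * κ g
  exists_conj : ∀ B : Subgroup G, IsPGroup 2 B →
    ∃ g : G, B.map (MulAut.conj g).toMonoidHom ≤ Subgroup.normalizer (V : Set G)
  cent_t : Subgroup.centralizer ({φ t0} : Set G) ≤ Subgroup.normalizer (V : Set G)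
  not_conj : ¬ IsConj (φ z0) (φ t0)

namespace Coc

variable {G : Type*} [Group G] (C : Coc G)

lemma φ_zero : C.φ 0 = 1 := by
  have h := C.φ_mul 0 0 isVec_zero isVec_zero
  rw [Nat.xor_self] at h
  exact mul_left_cancel (a := C.φ 0) (by rw [← h, mul_one])

lemma φ_inv {v : ℕ} (hv : IsVec v) : (C.φ v)⁻¹ = C.φ v := by
  refine inv_eq_of_mul_eq_one_right ?_
  rw [← C.φ_mul v v hv hv, Nat.xor_self, φ_zero]

lemma φ_inj {a b : ℕ} (ha : IsVec a) (hb : IsVec b) (h : C.φ a = C.φ b) : a = b := by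
  refine Nat.xor_eq_zero_iff.1 (C.φ_eq_one _ (ha.xor hb) ?_)
  rw [C.φ_mul a b ha hb, h, ← C.φ_mul b b hb hb, Nat.xor_self, φ_zero]

lemma φ_comm {a b : ℕ} (ha : IsVec a) (hb : IsVec b) : C.φ a * C.φ b = C.φ b * C.φ a := by
  rw [← C.φ_mul a b ha hb, ← C.φ_mul b a hb ha, Nat.xor_comm]

lemma φ_mem {v : ℕ} (hv : IsVec v) : C.φ v ∈ C.V := (C.mem_V _).2 ⟨v, hv, rfl⟩

/-- An element of the normaliser. -/
noncomputable def elt (v : ℕ) (g : ↥Cfsg.M24) : G := C.φ v * C.κ g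

lemma elt_mem {v : ℕ} (hv : IsVec v) (g : ↥Cfsg.M24) :
    C.elt v g ∈ Subgroup.normalizer (C.V : Set G) := (C.mem_norm _).2 ⟨v, g, hv, rfl⟩

lemma exists_elt {x : G} (h : x ∈ Subgroup.normalizer (C.V : Set G)) :
    ∃ v g, IsVec v ∧ C.elt v g = x := by
  obtain ⟨v, g, hv, rfl⟩ := (C.mem_norm x).1 h
  exact ⟨v, g, hv, rfl⟩

lemma elt_zero (g : ↥Cfsg.M24) : C.elt 0 g = C.κ g := by rw [elt, φ_zero, one_mul]

lemma elt_one (v : ℕ) : C.elt v 1 = C.φ v := by rw [elt, map_one, mul_one]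

lemma elt_mul {v w : ℕ} (hv : IsVec v) (hw : IsVec w) (g h : ↥Cfsg.M24) :
    C.elt v g * C.elt w h = C.elt (v ^^^ gact g w) (g * h) := by
  rw [elt, elt, elt, C.φ_mul v _ hv (isVec_gact g hw), ← C.conj g w hw, map_mul]
  group

lemma elt_inj {v w : ℕ} (hv : IsVec v) (hw : IsVec w) {g h : ↥Cfsg.M24}
    (e : C.elt v g = C.elt w h) : v = w ∧ g = h := by
  have h1 : C.κ (g * h⁻¹) ∈ C.V := by
    rw [map_mul, map_inv]
    have : C.κ g * (C.κ h)⁻¹ = (C.φ v)⁻¹ * C.φ w := by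
      rw [eq_inv_mul_iff_mul_eq, ← mul_assoc, mul_inv_eq_iff_eq_mul]
      exact e
    rw [this]
    exact mul_mem (inv_mem (C.φ_mem hv)) (C.φ_mem hw)
  have hgh : g = h := mul_inv_eq_one.1 (C.κ_V _ h1)
  subst hgh
  exact ⟨C.φ_inj hv hw (mul_right_cancel e), rfl⟩

lemma elt_eq_one {v : ℕ} (hv : IsVec v) {g : ↥Cfsg.M24} (e : C.elt v g = 1) : v = 0 ∧ g = 1 :=
  C.elt_inj hv isVec_zero (e.trans (by rw [elt_one, φ_zero]))

lemma elt_mem_V {v : ℕ} (hv : IsVec v) {g : ↥Cfsg.M24} : C.elt v g ∈ C.V ↔ g = 1 := by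
  constructor
  · intro h
    obtain ⟨w, hw, e⟩ := (C.mem_V _).1 h
    exact (C.elt_inj hw hv (by rw [elt_one, e])).2.symm
  · rintro rfl
    rw [elt_one]; exact C.φ_mem hv

lemma V_le : C.V ≤ Subgroup.normalizer (C.V : Set G) := Subgroup.le_normalizer

lemma elt_sq {v : ℕ} (hv : IsVec v) {g : ↥Cfsg.M24} (e : C.elt v g * C.elt v g = 1) :
    gact g v = v ∧ g * g = 1 := by
  rw [C.elt_mul hv hv] at e
  obtain ⟨h1, h2⟩ := C.elt_eq_one (hv.xor (isVec_gact g hv)) e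
  exact ⟨(Nat.xor_eq_zero_iff.1 h1).symm, h2⟩

lemma elt_comm {v w : ℕ} (hv : IsVec v) (hw : IsVec w) {g h : ↥Cfsg.M24}
    (e : C.elt v g * C.elt w h = C.elt w h * C.elt v g) :
    v ^^^ gact g w = w ^^^ gact h v ∧ g * h = h * g := by
  rw [C.elt_mul hv hw, C.elt_mul hw hv] at e
  exact C.elt_inj (hv.xor (isVec_gact g hw)) (hw.xor (isVec_gact h hv)) e

lemma comm_φ {v a : ℕ} (hv : IsVec v) (ha : IsVec a) {g : ↥Cfsg.M24}
    (e : C.elt v g * C.φ a = C.φ a * C.elt v g) : gact g a = a := by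
  rw [← C.elt_one a, C.elt_mul hv ha, C.elt_mul ha hv, gact_one hv, mul_one, one_mul,
    Nat.xor_comm a] at e
  exact Nat.xor_right_inj.1 (C.elt_inj (hv.xor (isVec_gact g ha)) (hv.xor ha) e).1

end Coc

end Cfsg.Agent.H85.JTen
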