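import Cfsg.Agent.H85.JTen.Vec

/-!
Coordinates of vectors and linear conditions on them.
-/

set_option autoImplicit false

namespace Cfsg.Agent.H85.JTen

open Cfsg.Agent.Golay Cfsg.Agent.H94.M24

/-- The exclusive-or combination of a list selected by the bits of `k`. -/
def combo : List ℕ → ℕ → ℕ
  | [], _ => 0
  | b :: t, k => (if k.testBit 0 then b else 0) ^^^ combo t (k / 2)

/-- The product of the bits of `k` and `f`. -/
def dot : ℕ → ℕ → ℕ → Bool
  | 0, _, _ => false
  | n + 1, k, f => Bool.xor (k.testBit 0 && f.testBit 0) (dot n (k / 2) (f / 2))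

lemma div_two_xor (a b : ℕ) : (a ^^^ b) / 2 = a / 2 ^^^ b / 2 := by
  refine Nat.eq_of_testBit_eq fun i => ?_
  simp only [Nat.testBit_xor, Nat.testBit_div_two]

lemma dot_xor_right : ∀ n k f g, dot n k (f ^^^ g) = Bool.xor (dot n k f) (dot n k g)
  | 0, _, _, _ => rfl
  | n + 1, k, f, g => by
    rw [dot, dot, dot, div_two_xor, dot_xor_right n, Nat.testBit_xor]
    cases k.testBit 0 <;> cases f.testBit 0 <;> cases g.testBit 0 <;>
      cases dot n (k / 2) (f / 2) <;> cases dot n (k / 2) (g / 2) <;> rfl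

lemma dot_zero_right : ∀ n k, dot n k 0 = false
  | 0, _ => rfl
  | n + 1, k => by rw [dot, Nat.zero_testBit, Nat.zero_div, dot_zero_right n]; simp

lemma dot_toggle : ∀ (n k f p : ℕ), p < n →
    dot n (k ^^^ 2 ^ p) f = Bool.xor (dot n k f) (f.testBit p)
  | 0, _, _, _, h => absurd h (Nat.not_lt_zero _)
  | n + 1, k, f, 0, _ => by
    rw [dot, dot, div_two_xor, Nat.testBit_xor, show (2 : ℕ) ^ 0 = 1 from rfl,
      show (1 : ℕ) / 2 = 0 from rfl, Nat.xor_zero, show Nat.testBit 1 0 = true from rfl]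
    cases k.testBit 0 <;> cases f.testBit 0 <;> cases dot n (k / 2) (f / 2) <;> rfl
  | n + 1, k, f, p + 1, h => by
    rw [dot, dot, div_two_xor, Nat.testBit_xor, show (2 : ℕ) ^ (p + 1) / 2 = 2 ^ p by
      rw [pow_succ]; omega, dot_toggle n (k / 2) (f / 2) p (by omega), Nat.testBit_two_pow,
      Nat.testBit_succ f p]
    simp only [Nat.succ_ne_zero, decide_false, Bool.xor_false]
    cases k.testBit 0 <;> cases f.testBit 0 <;> cases dot n (k / 2) (f / 2) <;>
      cases (f / 2).testBit p <;> rfl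

lemma combo_xor : ∀ (L : List ℕ) (a b : ℕ), combo L (a ^^^ b) = combo L a ^^^ combo L b
  | [], _, _ => by simp [combo]
  | c :: t, a, b => by
    rw [combo, combo, combo, div_two_xor, combo_xor t, Nat.testBit_xor]
    generalize combo t (a / 2) = x
    generalize combo t (b / 2) = y
    cases a.testBit 0 <;> cases b.testBit 0 <;> simp
    · exact xor_left_comm' c x y
    · exact (Nat.xor_assoc c x y).symm
    · rw [Nat.xor_assoc, xor_left_comm' x c y, ← Nat.xor_assoc c c, Nat.xor_self, Nat.zero_xor]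

/-- The vector with coordinates `k`. -/
def vk (k : ℕ) : ℕ := combo vBasis k

lemma vk_checks :
    ((List.range 11).all fun i => vk (2 ^ i) == vBasis.getD i 0) = true ∧ vBasis.length = 11 := by
  decide +kernel

lemma exists_vk {v : ℕ} (hv : IsVec v) : ∃ k < 2 ^ 11, vk k = v := by
  refine spanList_induction (P := fun v => ∃ k < 2 ^ 11, vk k = v) _ ⟨0, by norm_num, rfl⟩
    (fun b hb => ?_) ?_ v hv
  · obtain ⟨i, hi, rfl⟩ := List.getElem_of_mem hb
    have hi' : i < 11 := vk_checks.2 ▸ hi
    refine ⟨2 ^ i, Nat.pow_lt_pow_right (by norm_num) hi', ?_⟩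
    rw [eq_of_beq (List.all_eq_true.1 vk_checks.1 i (List.mem_range.2 hi')),
      List.getD_eq_getElem _ _ hi]
  · rintro a b ⟨k, hk, rfl⟩ ⟨l, hl, rfl⟩
    exact ⟨k ^^^ l, Nat.xor_lt_two_pow hk hl, combo_xor _ _ _⟩

lemma isVec_combo : ∀ (L : List ℕ), (∀ b ∈ L, IsVec b) → ∀ k, IsVec (combo L k)
  | [], _, _ => isVec_zero
  | b :: t, h, k => by
    rw [combo]
    refine IsVec.xor ?_ (isVec_combo t (fun c hc => h c (List.mem_cons_of_mem _ hc)) _)
    split
    · exact h b (by simp)
    · exact isVec_zero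

lemma isVec_vk (k : ℕ) : IsVec (vk k) :=
  isVec_combo _ (fun _ hb => mem_spanList_of_mem _ hb) k

/-- The bit `i` of the conditions at position `p` of a list of images. -/
def funBits : List ℕ → ℕ → ℕ
  | [], _ => 0
  | c :: t, p => (if c.testBit p then 1 else 0) + 2 * funBits t p

lemma dot_funBits : ∀ (C : List ℕ) (k p : ℕ),
    dot C.length k (funBits C p) = (combo C k).testBit p
  | [], k, p => by simp [dot, combo]
  | c :: t, k, p => by
    have h0 : (funBits (c :: t) p).testBit 0 = c.testBit p := by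
      rw [funBits, Nat.testBit_zero]
      split <;> simp_all [Nat.add_mul_mod_self_left]
    have h2 : funBits (c :: t) p / 2 = funBits t p := by rw [funBits]; split <;> omega
    rw [List.length_cons, dot, h0, h2, dot_funBits t, combo, Nat.testBit_xor]
    cases k.testBit 0 <;> simp

lemma combo_map {f : ℕ → ℕ} (hf : ∀ a b, f (a ^^^ b) = f a ^^^ f b) :
    ∀ (L : List ℕ) (k : ℕ), combo (L.map f) k = f (combo L k)
  | [], k => by
    have h := hf 0 0
    rw [Nat.xor_self, Nat.xor_self] at h
    exact h.symm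
  | b :: t, k => by
    have h := hf 0 0
    rw [Nat.xor_self, Nat.xor_self] at h
    rw [List.map_cons, combo, combo, hf, combo_map hf t]
    split <;> simp [h]

/-- Vectors fixed by a table satisfy the conditions. -/
lemma dot_of_fixed {T : ℕ} (hT : validT T = true) {k p : ℕ} (h : act T (vk k) = vk k) :
    dot 11 k (funBits (vBasis.map fun b => act T b ^^^ b) p) = false := by
  have hlen : (vBasis.map fun b => act T b ^^^ b).length = 11 := by
    rw [List.length_map, vk_checks.2]
  have e := dot_funBits (vBasis.map fun b => act T b ^^^ b) k p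
  rw [hlen] at e
  rw [e, combo_map (f := fun b => act T b ^^^ b) (fun a b => by
    simp only [act_xor hT]
    rw [Nat.xor_assoc (act T a), xor_left_comm' (act T b) a b, ← Nat.xor_assoc (act T a)])]
  show (act T (vk k) ^^^ vk k).testBit p = false
  rw [h, Nat.xor_self, Nat.zero_testBit]

/-! ### Echelon lists -/

/-- Reduce by an echelon list. -/
def reduceBy (E : List ℕ) (f : ℕ) : ℕ :=
  E.foldl (fun f e => bif f.testBit (Nat.log2 e) then f ^^^ e else f) f

/-- Add a condition. -/
def insF (E : List ℕ) (f : ℕ) : List ℕ :=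
  forceN (reduceBy E f) fun r => bif r == 0 then E else E ++ [r]

/-- An echelon list of width 11. -/
def Ech : List ℕ → Prop
  | [] => True
  | e :: t => e ≠ 0 ∧ e < 2 ^ 11 ∧ (∀ x ∈ t, x.testBit (Nat.log2 e) = false) ∧ Ech t

lemma reduceBy_spec : ∀ (E : List ℕ) (f : ℕ), Ech E → f < 2 ^ 11 →
    reduceBy E f < 2 ^ 11 ∧ (∀ e ∈ E, (reduceBy E f).testBit (Nat.log2 e) = false) ∧
    (∀ k, (∀ e ∈ E, dot 11 k e = false) → dot 11 k (reduceBy E f) = dot 11 k f) ∧
    (∀ p, (∀ e ∈ E, e.testBit p = false) → (reduceBy E f).testBit p = f.testBit p)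
  | [], f, _, hf => ⟨hf, by simp, fun _ _ => rfl, fun _ _ => rfl⟩
  | e :: t, f, hE, hf => by
    obtain ⟨he0, helt, hez, ht⟩ := hE
    have hbit : e.testBit (Nat.log2 e) = true := Nat.testBit_log2 he0
    set g := bif f.testBit (Nat.log2 e) then f ^^^ e else f with hg
    have hglt : g < 2 ^ 11 := by
      cases h : f.testBit (Nat.log2 e) <;> simp only [hg, h, cond_true, cond_false]
      exacts [hf, Nat.xor_lt_two_pow hf helt]
    obtain ⟨h1, h2, h3, h4⟩ := reduceBy_spec t g ht hglt
    have hred : reduceBy (e :: t) f = reduceBy t g := rfl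
    rw [hred]
    refine ⟨h1, fun x hx => ?_, fun k hk => ?_, fun p hp => ?_⟩
    · rcases List.mem_cons.1 hx with rfl | hx
      · rw [h4 _ hez, hg]
        cases h : f.testBit (Nat.log2 x) <;> simp [h, hbit, Nat.testBit_xor]
      · exact h2 x hx
    · rw [h3 k fun x hx => hk x (List.mem_cons_of_mem _ hx), hg]
      cases h : f.testBit (Nat.log2 e) <;> simp only [cond_true, cond_false]
      rw [dot_xor_right, hk e (by simp), Bool.xor_false]
    · rw [h4 p fun x hx => hp x (List.mem_cons_of_mem _ hx), hg]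
      cases h : f.testBit (Nat.log2 e) <;> simp only [cond_true, cond_false]
      rw [Nat.testBit_xor, hp e (by simp), Bool.xor_false]

lemma ech_append : ∀ (E : List ℕ) (r : ℕ), Ech E → r ≠ 0 → r < 2 ^ 11 →
    (∀ e ∈ E, r.testBit (Nat.log2 e) = false) → Ech (E ++ [r])
  | [], r, _, h0, hlt, _ => ⟨h0, hlt, by simp, trivial⟩
  | e :: t, r, hE, h0, hlt, hz => by
    refine ⟨hE.1, hE.2.1, fun x hx => ?_, ech_append t r hE.2.2.2 h0 hlt
      fun x hx => hz x (List.mem_cons_of_mem _ hx)⟩
    rcases List.mem_append.1 hx with hx | hx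
    · exact hE.2.2.1 x hx
    · rw [List.mem_singleton.1 hx]; exact hz e (by simp)

/-- The solutions of a list of conditions inside a set. -/
def Sol (E : List ℕ) (K : Finset ℕ) : Prop := Ech E ∧ ∀ k ∈ K, ∀ e ∈ E, dot 11 k e = false

lemma Sol.ins {E : List ℕ} {K : Finset ℕ} (h : Sol E K) {f : ℕ} (hf : f < 2 ^ 11)
    (hK : ∀ k ∈ K, dot 11 k f = false) : Sol (insF E f) K := by
  obtain ⟨h1, h2, h3, -⟩ := reduceBy_spec E f h.1 hf
  rw [insF, forceN_eq]
  cases hr : (reduceBy E f == 0) <;> simp only [cond_true, cond_false]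
  · rw [beq_eq_false_iff_ne] at hr
    refine ⟨ech_append E _ h.1 hr h1 h2, fun k hk e he => ?_⟩
    rcases List.mem_append.1 he with he | he
    · exact h.2 k hk e he
    · rw [List.mem_singleton.1 he, h3 k (h.2 k hk)]; exact hK k hk
  · exact h

lemma Sol.foldl {E : List ℕ} {K : Finset ℕ} (h : Sol E K) :
    ∀ (L : List ℕ), (∀ f ∈ L, f < 2 ^ 11 ∧ ∀ k ∈ K, dot 11 k f = false) →
      Sol (L.foldl insF E) K := by
  intro L
  induction L generalizing E with
  | nil => exact fun _ => h
  | cons f t ih =>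
    intro hL
    exact ih (h.ins (hL f (by simp)).1 (hL f (by simp)).2)
      fun g hg => hL g (List.mem_cons_of_mem _ hg)

/-- Each condition halves the number of solutions. -/
lemma Sol.card_le : ∀ {E : List ℕ} {K : Finset ℕ}, Sol E K → (∀ k ∈ K, k < 2 ^ 11) →
    K.card * 2 ^ E.length ≤ 2 ^ 11
  | [], K, _, hlt => by
    rw [List.length_nil, pow_zero, mul_one]
    exact (Finset.card_le_card (fun k hk => Finset.mem_range.2 (hlt k hk))).trans_eq
      (Finset.card_range _)
  | e :: t, K, h, hlt => by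
    obtain ⟨⟨he0, helt, hez, ht⟩, hdot⟩ := h
    have hbit : e.testBit (Nat.log2 e) = true := Nat.testBit_log2 he0
    have hp : Nat.log2 e < 11 := (Nat.log2_lt he0).2 helt
    set τ : ℕ → ℕ := fun k => k ^^^ 2 ^ Nat.log2 e with hτ
    have hinj : Function.Injective τ := fun a b hab => Nat.xor_left_inj.1 hab
    have hdis : Disjoint K (K.image τ) := Finset.disjoint_left.2 fun k hk hk' => by
      obtain ⟨l, hl, rfl⟩ := Finset.mem_image.1 hk'
      have := hdot _ hk e (by simp)
      rw [hτ] at this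
      simp only [dot_toggle 11 l e _ hp, hdot l hl e (by simp), hbit] at this
      exact Bool.noConfusion this
    have hsol : Sol t (K ∪ K.image τ) := ⟨ht, fun k hk x hx => by
      rcases Finset.mem_union.1 hk with hk | hk
      · exact hdot k hk x (List.mem_cons_of_mem _ hx)
      · obtain ⟨l, hl, rfl⟩ := Finset.mem_image.1 hk
        rw [hτ]
        simp only [dot_toggle 11 l x _ hp, hez x hx, hdot l hl x (List.mem_cons_of_mem _ hx)]
        rfl⟩
    have := Sol.card_le hsol (fun k hk => by
      rcases Finset.mem_union.1 hk with hk | hk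
      · exact hlt k hk
      · obtain ⟨l, hl, rfl⟩ := Finset.mem_image.1 hk
        exact Nat.xor_lt_two_pow (hlt l hl) (Nat.pow_lt_pow_right (by norm_num) hp))
    rw [Finset.card_union_of_disjoint hdis, Finset.card_image_of_injective _ hinj] at this
    rw [List.length_cons, pow_succ]
    linarith

end Cfsg.Agent.H85.JTen
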