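import Cfsg.Agent.H85.JTen.Norm
import Cfsg.Agent.H77.AutPGroup

/-!
The orbits of the normaliser of the standard subgroup have lengths 155 and 868 once it is not
contained in the normaliser of the cocode.
-/

set_option autoImplicit false

namespace Cfsg.Agent.H85.JTen

open Cfsg Cfsg.Agent.Golay Cfsg.Agent.H94.M24

attribute [local irreducible] tblMul mkTbl tblImg gamW gamT gamMaps oList aBasis gM gT gW combo
  orb0 orb1 orb2 orb3 orbPar0 orbPar1 orbPar2 orbPar3

/-- The possible lengths not dividing an order of a linear group of dimension at most 10. -/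
def lenTest : Bool :=
  [875, 995, 148, 988].all fun n => (List.range 11).all fun r =>
    !((((List.range r).map fun i => 2 ^ r - 2 ^ i).prod * 2 ^ ((10 - r) * r)) % n == 0)

lemma len_ok : lenTest = true := by decide +kernel

lemma orb_disjoint : (orb0 ++ orb1 ++ orb2 ++ orb3).Nodup := by
  have h : nodupB (orb0 ++ orb1 ++ orb2 ++ orb3) = true := by decide +kernel
  exact nodupB_sound _ h

lemma orb1_span (b : ℕ) (hb : b < 6) :
    2 ^ b ∈ orb1 ∨ ∃ x ∈ orb1, ∃ y ∈ orb1, x ^^^ y = 2 ^ b := by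
  have h : ((List.range 6).all fun b => orb1.contains (2 ^ b) ||
      orb1.any fun x => orb1.contains (x ^^^ 2 ^ b)) = true := by decide +kernel
  simp only [List.all_eq_true, List.mem_range, Bool.or_eq_true, List.any_eq_true,
    List.contains_iff_mem] at h
  rcases h b hb with e | ⟨x, hx, e⟩
  · exact .inl e
  · exact .inr ⟨x, hx, _, e, by rw [← Nat.xor_assoc, Nat.xor_self, Nat.zero_xor]⟩

lemma orb01_lt : orb0.all (fun n => Nat.blt n 64) = true ∧ orb1.all (fun n => Nat.blt n 64) = true := by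
  decide +kernel

namespace Coc

variable {G : Type*} [Group G] (C : Coc G)

lemma card_V : Nat.card C.V = 2048 := by
  rw [← Nat.card_eq_of_bijective
    (fun v : vecList.toFinset => (⟨C.φ v.1, C.φ_mem (List.mem_toFinset.1 v.2)⟩ : C.V))
    ⟨fun a b e => Subtype.ext (C.φ_inj (List.mem_toFinset.1 a.2) (List.mem_toFinset.1 b.2)
      (congrArg Subtype.val e)), fun x => ?_⟩]
  · rw [Nat.card_eq_finsetCard, List.toFinset_card_of_nodup vecList_nodup, vecList_length]
  · obtain ⟨v, hv, e⟩ := (C.mem_V _).1 x.2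
    exact ⟨⟨v, List.mem_toFinset.2 hv⟩, Subtype.ext e⟩

lemma φ_comm_A0 {n : ℕ} (hn : n < 64) {v : ℕ} (hv : IsVec v) :
    C.aEl n * C.φ v = C.φ v * C.aEl n := by
  rw [aEl, Nat.div_eq_of_lt hn, oE_zero, elt_one]
  exact C.φ_comm (isVec_aV n) hv

/-- An element preserving a spanning set of the fixed space normalises the cocode. -/
lemma mem_norm_of_preserve [Finite G] {g : G} {L : List ℕ} (hlt : ∀ n ∈ L, n < 64)
    (hspan : ∀ b < 6, 2 ^ b ∈ L ∨ ∃ x ∈ L, ∃ y ∈ L, x ^^^ y = 2 ^ b)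
    (hg : ∀ n ∈ L, ∃ m ∈ L, g * C.aEl n * g⁻¹ = C.aEl m) :
    g ∈ Subgroup.normalizer (C.V : Set G) := by
  classical
  have hmap : ∀ n < 64, ∃ m < 64, g * C.aEl n * g⁻¹ = C.aEl m := by
    refine xor_bits_induction (P := fun n => ∃ m < 64, g * C.aEl n * g⁻¹ = C.aEl m)
      ⟨0, by norm_num, by rw [aEl_zero, mul_one, mul_inv_cancel]⟩ ?_ 6 ?_
    · rintro a b ⟨m, hm, em⟩ ⟨k, hk, ek⟩
      exact ⟨m ^^^ k, Nat.xor_lt_two_pow (n := 6) hm hk, by rw [aEl_xor, aEl_xor, ← em, ← ek]; group⟩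
    · intro b hb
      rcases hspan b hb with e | ⟨x, hx, y, hy, e⟩
      · obtain ⟨m, hm, em⟩ := hg _ e; exact ⟨m, hlt m hm, em⟩
      · obtain ⟨m, hm, em⟩ := hg x hx
        obtain ⟨k, hk, ek⟩ := hg y hy
        refine ⟨m ^^^ k, Nat.xor_lt_two_pow (n := 6) (hlt m hm) (hlt k hk), ?_⟩
        rw [← e, aEl_xor, aEl_xor, ← em, ← ek]; group
  choose f hf hfe using hmap
  have hinj : Function.Injective fun n : Fin 64 => (⟨f n n.2, hf n n.2⟩ : Fin 64) := by
    intro a b e
    have e' : f a a.2 = f b b.2 := congrArg Fin.val e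
    have h := (hfe a a.2).trans ((congrArg C.aEl e').trans (hfe b b.2).symm)
    exact Fin.ext (C.aEl_inj (a.2.trans (by norm_num)) (b.2.trans (by norm_num))
      (mul_left_cancel (mul_right_cancel h)))
  obtain ⟨m, hm, hmv⟩ : ∃ m < 64, C.aEl m = C.φ t0 := by
    obtain ⟨m, hm⟩ := aV_mem_iff.2 (List.contains_iff_mem.1 pair_mem.2.2.2.1 :
      t0 ∈ spanList aBasis)
    refine ⟨m % 64, Nat.mod_lt _ (by norm_num), ?_⟩
    rw [aEl, Nat.div_eq_of_lt (Nat.mod_lt _ (by norm_num)), oE_zero, elt_one, ← hm, aV, aV,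
      Nat.mod_mod]
  obtain ⟨⟨n, hn⟩, hne⟩ := Finite.injective_iff_surjective.1 hinj ⟨m, hm⟩
  have hn' : f n hn = m := congrArg Fin.val hne
  have hconj : g * C.aEl n * g⁻¹ = C.φ t0 := by rw [hfe n hn, hn', hmv]
  set B := C.V.map (MulAut.conj g).toMonoidHom with hB
  have hle : B ≤ Subgroup.normalizer (C.V : Set G) := by
    refine le_trans ?_ C.cent_t
    rintro _ ⟨x, hx, rfl⟩
    obtain ⟨v, hv, rfl⟩ := (C.mem_V _).1 hx
    rw [Subgroup.mem_centralizer_singleton_iff, ← hconj]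
    show g * C.φ v * g⁻¹ * (g * C.aEl n * g⁻¹) = g * C.aEl n * g⁻¹ * (g * C.φ v * g⁻¹)
    calc g * C.φ v * g⁻¹ * (g * C.aEl n * g⁻¹) = g * (C.φ v * C.aEl n) * g⁻¹ := by group
      _ = g * (C.aEl n * C.φ v) * g⁻¹ := by rw [C.φ_comm_A0 hn hv]
      _ = _ := by group
  have h2 : ∀ x ∈ B, x * x = 1 := by
    rintro _ ⟨x, hx, rfl⟩
    obtain ⟨v, hv, rfl⟩ := (C.mem_V _).1 hx
    rw [← map_mul, ← C.φ_mul v v hv hv, Nat.xor_self, φ_zero, map_one]
  have hcard : Nat.card B = 2048 := by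
    rw [hB, Subgroup.card_map_of_injective (MulAut.conj g).injective, C.card_V]
  rcases C.classify hle h2 (by rw [hcard]; norm_num) with h | ⟨x, -, hx⟩
  · have heq : B = C.V := Subgroup.eq_of_le_of_card_ge h (by rw [hcard, C.card_V])
    rw [Subgroup.mem_normalizer_iff]
    refine fun y => ⟨fun hy => ?_, fun hy => ?_⟩
    · show g * y * g⁻¹ ∈ C.V
      rw [← heq]; exact ⟨y, hy, rfl⟩
    · have hy' : g * y * g⁻¹ ∈ B := by rw [heq]; exact hy
      obtain ⟨z, hz, e⟩ := hy'
      rwa [show z = y from (MulAut.conj g).injective e] at hz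
  · exfalso
    have h' : Nat.card (B.map (MulAut.conj x).toMonoidHom) = Nat.card B :=
      Subgroup.card_map_of_injective (MulAut.conj x).injective
    rw [hx, C.card_A, hcard] at h'
    norm_num at h'

/-- An orbit length divides the order of a linear group. -/
lemma orbit_dvd [Finite G] (s : ℕ) (hs : s < 1024) (O : Finset ℕ)
    (hO : ∀ n, n ∈ O ↔ n < 1024 ∧ C.Reach s n) :
    ∃ r ≤ 10, O.card ∣ ((List.range r).map fun i => 2 ^ r - 2 ^ i).prod * 2 ^ ((10 - r) * r) := by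
  classical
  have : Fact (Nat.Prime 2) := ⟨Nat.prime_two⟩
  have hP : IsPGroup 2 C.A := IsPGroup.of_card (n := 10) (by rw [C.card_A]; norm_num)
  set ψ := C.A.normalizerMonoidHom
  set a : C.A := ⟨C.aEl s, s, hs, rfl⟩
  have horb : MulAction.orbit ψ.range a =
      (fun n => if h : n < 1024 then (⟨C.aEl n, n, h, rfl⟩ : C.A) else 1) '' (O : Set ℕ) := by
    ext x
    constructor
    · rintro ⟨⟨_, g, rfl⟩, rfl⟩
      obtain ⟨m, hm, e⟩ := ((ψ g) a).2
      refine ⟨m, (hO m).2 ⟨hm, g, g.2, e.symm⟩, ?_⟩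
      simp only [hm, dite_true]
      exact Subtype.ext e
    · rintro ⟨n, hn, rfl⟩
      obtain ⟨hn', g, hg, e⟩ := (hO n).1 hn
      refine ⟨⟨ψ ⟨g, hg⟩, ⟨g, hg⟩, rfl⟩, Subtype.ext ?_⟩
      simp only [hn', dite_true]
      exact e
  have hcard : O.card = (MulAction.orbit ψ.range a).ncard := by
    rw [horb, Set.InjOn.ncard_image, Set.ncard_coe_finset]
    intro m hm n hn e
    have hm' := ((hO m).1 hm).1
    have hn' := ((hO n).1 hn).1
    simp only [hm', hn', dite_true] at e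
    exact C.aEl_inj hm' hn' (congrArg Subtype.val e)
  have hd : O.card ∣ Nat.card (MulAut C.A) := by
    rw [hcard, ← MulAction.index_stabilizer]
    exact (Subgroup.index_dvd_card _).trans ψ.range.card_subgroup_dvd_card
  obtain ⟨r, hr⟩ : ∃ r, (frattini C.A).index = 2 ^ r := hP.index _
  obtain ⟨k, hk⟩ := IsPGroup.iff_card.1 (hP.to_subgroup (frattini C.A))
  have hrk : k + r = 10 := by
    have h := (frattini C.A).card_mul_index
    rw [hr, hk, C.card_A, ← pow_add, show (1024 : ℕ) = 2 ^ 10 by norm_num] at h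
    exact Nat.pow_right_injective le_rfl h
  refine ⟨r, by omega, hd.trans ((H77.card_mulAut_dvd hP hr).trans (dvd_of_eq ?_))⟩
  rw [hk, ← pow_mul, show k = 10 - r by omega, mul_comm]
  rfl

/-- The normaliser of the standard subgroup leaves the normaliser of the cocode. -/
def Moves : Prop :=
  ∃ g ∈ Subgroup.normalizer (C.A : Set G), g ∉ Subgroup.normalizer (C.V : Set G)

open Classical in
/-- The coordinates reached from a seed. -/
noncomputable def reachSet (s : ℕ) : Finset ℕ := (Finset.range 1024).filter fun n => C.Reach s n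

lemma mem_reachSet {s n : ℕ} : n ∈ C.reachSet s ↔ n < 1024 ∧ C.Reach s n := by
  simp [reachSet]

/-- The seed of the first class. -/
def sZ : ℕ := orb0.getD 0 0

/-- The seed of the second class. -/
def sT : ℕ := orb1.getD 0 0

lemma isConj_of_reach {s n : ℕ} (h : C.Reach s n) : IsConj (C.aEl s) (C.aEl n) := by
  obtain ⟨g, -, e⟩ := h
  exact isConj_iff.2 ⟨g, e⟩

theorem reach_classes [Finite G] (hmove : C.Moves) :
    C.reachSet sZ = (orb0 ++ orb2).toFinset ∧ C.reachSet sT = (orb1 ++ orb3).toFinset := by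
  classical
  obtain ⟨g, hgA, hgV⟩ := hmove
  have r0 := C.reach_orb orb_ok.1
  have r1 := C.reach_orb orb_ok.2.1
  have r2 := C.reach_orb orb_ok.2.2.1
  have r3 := C.reach_orb orb_ok.2.2.2
  obtain ⟨l0, l1, l2, l3, e0, e1⟩ := orb_facts
  have hnz : ∀ n, n < 1024 → n ≠ 0 → n ∈ orb0 ∨ n ∈ orb1 ∨ n ∈ orb2 ∨ n ∈ orb3 := by
    intro n hn hn0
    have h := List.all_eq_true.1 orb_cover.1 n (List.mem_range.2 hn)
    rw [forceN_eq, Bool.or_eq_true, beq_iff_eq, testBit_maskOf] at h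
    simpa [List.mem_append, or_assoc] using h.resolve_left hn0
  have hzne : ∀ s, s < 1024 → s ≠ 0 → ∀ n ∈ C.reachSet s, n ≠ 0 := by
    rintro s hs hs0 n hn rfl
    obtain ⟨h, -, e⟩ := (C.mem_reachSet.1 hn).2
    rw [aEl_zero, conj_eq_one_iff] at e
    exact hs0 (C.aEl_inj hs (by norm_num) (e.trans C.aEl_zero.symm))
  have hz01 : ∀ n ∈ orb1, ¬ C.Reach sZ n := fun n hn h => C.not_conj (by
    rw [← C.aEl_seed e0, ← C.aEl_seed e1]
    exact C.isConj_of_reach (Reach.trans C h (Reach.symm C (r1 n hn).2.2)))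
  have ht0 : ∀ n ∈ orb0, ¬ C.Reach sT n := fun n hn h => C.not_conj (by
    rw [← C.aEl_seed e0, ← C.aEl_seed e1]
    exact C.isConj_of_reach (Reach.trans C (r0 n hn).2.2 (Reach.symm C h)))
  have hs0 : sZ ∈ orb0 := by
    rw [sZ, List.getD_eq_getElem _ _ (by rw [l0]; norm_num)]; exact List.getElem_mem _
  have hs1 : sT ∈ orb1 := by
    rw [sT, List.getD_eq_getElem _ _ (by rw [l1]; norm_num)]; exact List.getElem_mem _
  obtain ⟨hsz, hsz0, -⟩ := r0 sZ hs0
  obtain ⟨hst, hst0, -⟩ := r1 sT hs1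
  have whole : ∀ (s : ℕ) (L P : List ℕ), orbTest L P = true → (∃ n ∈ L, n ∈ C.reachSet s) →
      ∀ m ∈ L, m ∈ C.reachSet s := by
    intro s L P h ⟨n, hn, hns⟩ m hm
    exact C.mem_reachSet.2 ⟨(C.reach_orb h m hm).1, Reach.trans C (C.mem_reachSet.1 hns).2
      (Reach.trans C (Reach.symm C (C.reach_orb h n hn).2.2) (C.reach_orb h m hm).2.2)⟩
  have hnd := orb_disjoint
  rw [List.nodup_append, List.nodup_append, List.nodup_append] at hnd
  obtain ⟨⟨⟨n0, n1, d01⟩, n2, d012⟩, n3, d0123⟩ := hnd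
  have d02 : ∀ a ∈ orb0, a ∉ orb2 := fun a ha h => d012 a (List.mem_append_left _ ha) a h rfl
  have d03 : ∀ a ∈ orb0, a ∉ orb3 := fun a ha h =>
    d0123 a (List.mem_append_left _ (List.mem_append_left _ ha)) a h rfl
  have d12 : ∀ a ∈ orb1, a ∉ orb2 := fun a ha h => d012 a (List.mem_append_right _ ha) a h rfl
  have d13 : ∀ a ∈ orb1, a ∉ orb3 := fun a ha h =>
    d0123 a (List.mem_append_left _ (List.mem_append_right _ ha)) a h rfl
  have d23 : ∀ a ∈ orb2, a ∉ orb3 := fun a ha h => d0123 a (List.mem_append_right _ ha) a h rfl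
  have bad : ∀ s < 1024, (C.reachSet s).card ∉ [875, 995, 148, 988] := by
    intro s hs hmem
    obtain ⟨r, hr, hd⟩ := C.orbit_dvd s hs _ fun n => C.mem_reachSet
    have h := len_ok
    simp only [lenTest, List.all_eq_true, List.mem_range, Bool.not_eq_true', beq_eq_false_iff_ne]
      at h
    exact h _ hmem r (by omega) (Nat.mod_eq_zero_of_dvd hd)
  have small : ∀ (s : ℕ) (L : List ℕ), (∀ n ∈ L, n < 64) → (∀ b < 6, 2 ^ b ∈ L ∨ ∃ x ∈ L, ∃ y ∈ L, x ^^^ y = 2 ^ b) →
      C.reachSet s = L.toFinset → False := by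
    intro s L hlt hspan he
    refine hgV (C.mem_norm_of_preserve hlt hspan fun n hn => ?_)
    have hmem : n ∈ C.reachSet s := by rw [he]; exact List.mem_toFinset.2 hn
    obtain ⟨m, hm, em⟩ := (Subgroup.mem_normalizer_iff.1 hgA (C.aEl n)).1
      ⟨n, (hlt n hn).trans (by norm_num), rfl⟩
    refine ⟨m, List.mem_toFinset.1 (he ▸ C.mem_reachSet.2 ⟨hm, ?_⟩), em.symm⟩
    exact Reach.trans C (C.mem_reachSet.1 hmem).2 ⟨g, hgA, em.symm⟩
  have hzs : ∀ n ∈ orb0, n ∈ C.reachSet sZ := fun n hn =>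
    C.mem_reachSet.2 ⟨(r0 n hn).1, (r0 n hn).2.2⟩
  have hts : ∀ n ∈ orb1, n ∈ C.reachSet sT := fun n hn =>
    C.mem_reachSet.2 ⟨(r1 n hn).1, (r1 n hn).2.2⟩
  have c0 := List.toFinset_card_of_nodup n0
  have c1 := List.toFinset_card_of_nodup n1
  have c2 := List.toFinset_card_of_nodup n2
  have c3 := List.toFinset_card_of_nodup n3
  rw [l0] at c0; rw [l1] at c1; rw [l2] at c2; rw [l3] at c3
  have D02 : Disjoint orb0.toFinset orb2.toFinset := by
    simpa [Finset.disjoint_left] using d02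
  have D03 : Disjoint orb0.toFinset orb3.toFinset := by
    simpa [Finset.disjoint_left] using d03
  have D13 : Disjoint orb1.toFinset orb3.toFinset := by
    simpa [Finset.disjoint_left] using d13
  have hZsub : ∀ n ∈ C.reachSet sZ, n ∈ orb0 ∨ n ∈ orb2 ∨ n ∈ orb3 := fun n hn => by
    rcases hnz n (C.mem_reachSet.1 hn).1 (hzne _ hsz hsz0 n hn) with h | h | h | h
    exacts [.inl h, absurd (C.mem_reachSet.1 hn).2 (hz01 n h), .inr (.inl h), .inr (.inr h)]
  have hZ : C.reachSet sZ = (orb0 ++ orb2).toFinset := by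
    by_cases h2 : ∃ n ∈ orb2, n ∈ C.reachSet sZ <;> by_cases h3 : ∃ n ∈ orb3, n ∈ C.reachSet sZ
    · exfalso
      have he : C.reachSet sZ = orb0.toFinset ∪ orb2.toFinset ∪ orb3.toFinset := by
        ext n
        simp only [Finset.mem_union, List.mem_toFinset]
        exact ⟨fun h => by rcases hZsub n h with h | h | h <;> simp [h],
          fun h => h.elim (fun h => h.elim (hzs n) (whole _ _ _ orb_ok.2.2.1 h2 n))
            (whole _ _ _ orb_ok.2.2.2 h3 n)⟩
      refine bad _ hsz ?_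
      rw [he, Finset.card_union_of_disjoint, Finset.card_union_of_disjoint D02, c0, c2, c3]
      · decide
      · rw [Finset.disjoint_union_left]
        exact ⟨D03, by simpa [Finset.disjoint_left] using d23⟩
    · ext n
      simp only [List.mem_toFinset, List.mem_append]
      refine ⟨fun h => ?_, fun h => h.elim (hzs n) (whole _ _ _ orb_ok.2.2.1 h2 n)⟩
      rcases hZsub n h with e | e | e
      exacts [.inl e, .inr e, absurd ⟨n, e, h⟩ h3]
    · exfalso
      have he : C.reachSet sZ = orb0.toFinset ∪ orb3.toFinset := by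
        ext n
        simp only [Finset.mem_union, List.mem_toFinset]
        refine ⟨fun h => ?_, fun h => h.elim (hzs n) (whole _ _ _ orb_ok.2.2.2 h3 n)⟩
        rcases hZsub n h with e | e | e
        exacts [.inl e, absurd ⟨n, e, h⟩ h2, .inr e]
      refine bad _ hsz ?_
      rw [he, Finset.card_union_of_disjoint D03, c0, c3]
      decide
    · refine (small sZ orb0 (fun n hn => Nat.le_of_ble_eq_true
        (List.all_eq_true.1 orb01_lt.1 n hn)) orb0_span ?_).elim
      ext n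
      rw [List.mem_toFinset]
      refine ⟨fun h => ?_, hzs n⟩
      rcases hZsub n h with e | e | e
      exacts [e, absurd ⟨n, e, h⟩ h2, absurd ⟨n, e, h⟩ h3]
  refine ⟨hZ, ?_⟩
  have hTsub : ∀ n ∈ C.reachSet sT, n ∈ orb1 ∨ n ∈ orb3 := fun n hn => by
    rcases hnz n (C.mem_reachSet.1 hn).1 (hzne _ hst hst0 n hn) with h | h | h | h
    · exact absurd (C.mem_reachSet.1 hn).2 (ht0 n h)
    · exact .inl h
    · have hz : n ∈ C.reachSet sZ := by rw [hZ]; simp [h]
      exact absurd (Reach.trans C (C.mem_reachSet.1 hz).2 (Reach.symm C (C.mem_reachSet.1 hn).2))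
        (hz01 sT hs1)
    · exact .inr h
  by_cases h3 : ∃ n ∈ orb3, n ∈ C.reachSet sT
  · ext n
    simp only [List.mem_toFinset, List.mem_append]
    exact ⟨hTsub n, fun h => h.elim (hts n) (whole _ _ _ orb_ok.2.2.2 h3 n)⟩
  · refine (small sT orb1 (fun n hn => Nat.le_of_ble_eq_true
      (List.all_eq_true.1 orb01_lt.2 n hn)) orb1_span ?_).elim
    ext n
    rw [List.mem_toFinset]
    exact ⟨fun h => (hTsub n h).resolve_right fun e => h3 ⟨n, e, h⟩, hts n⟩

theorem class_card [Finite G] (hmove : C.Moves) {s : ℕ} {L L' : List ℕ} {a b : ℕ}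
    (he : C.reachSet s = (L ++ L').toFinset) (hnd : (L ++ L').Nodup) (hs : s < 1024)
    (hl : L.length = a) (hl' : L'.length = b) :
    Set.ncard {v : G | ∃ n ∈ Subgroup.normalizer (C.A : Set G), n * C.aEl s * n⁻¹ = v} = a + b := by
  have hset : {v : G | ∃ n ∈ Subgroup.normalizer (C.A : Set G), n * C.aEl s * n⁻¹ = v} =
      C.aEl '' (C.reachSet s : Set ℕ) := by
    ext v
    constructor
    · rintro ⟨g, hg, rfl⟩
      obtain ⟨m, hm, em⟩ := (Subgroup.mem_normalizer_iff.1 hg (C.aEl s)).1 ⟨s, hs, rfl⟩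
      exact ⟨m, C.mem_reachSet.2 ⟨hm, g, hg, em.symm⟩, em⟩
    · rintro ⟨m, hm, rfl⟩
      obtain ⟨g, hg, e⟩ := (C.mem_reachSet.1 hm).2
      exact ⟨g, hg, e⟩
  rw [hset, Set.InjOn.ncard_image, Set.ncard_coe_finset, he, List.toFinset_card_of_nodup hnd,
    List.length_append, hl, hl']
  intro m hm n hn e
  exact C.aEl_inj (C.mem_reachSet.1 hm).1 (C.mem_reachSet.1 hn).1 e

theorem orbit_lengths [Finite G] (hmove : C.Moves) :
    Set.ncard {v : G | ∃ n ∈ Subgroup.normalizer (C.A : Set G), n * C.aEl sZ * n⁻¹ = v} = 155 ∧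
    Set.ncard {v : G | ∃ n ∈ Subgroup.normalizer (C.A : Set G), n * C.aEl sT * n⁻¹ = v} = 868 := by
  obtain ⟨hZ, hT⟩ := C.reach_classes hmove
  obtain ⟨l0, l1, l2, l3, -, -⟩ := orb_facts
  have hnd := orb_disjoint
  rw [List.nodup_append, List.nodup_append, List.nodup_append] at hnd
  obtain ⟨⟨⟨n0, n1, d01⟩, n2, d012⟩, n3, d0123⟩ := hnd
  have hsz : sZ < 1024 := by
    refine (C.reach_orb orb_ok.1 sZ ?_).1
    rw [sZ, List.getD_eq_getElem _ _ (by rw [l0]; norm_num)]; exact List.getElem_mem _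
  have hst : sT < 1024 := by
    refine (C.reach_orb orb_ok.2.1 sT ?_).1
    rw [sT, List.getD_eq_getElem _ _ (by rw [l1]; norm_num)]; exact List.getElem_mem _
  refine ⟨C.class_card hmove hZ (List.nodup_append.2 ⟨n0, n2, fun a ha b hb e =>
      d012 a (List.mem_append_left _ ha) b hb e⟩) hsz l0 l2,
    C.class_card hmove hT (List.nodup_append.2 ⟨n1, n3, fun a ha b hb e =>
      d0123 a (List.mem_append_left _ (List.mem_append_right _ ha)) b hb e⟩) hst l1 l3⟩

end Coc

end Cfsg.Agent.H85.JTen
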