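import Cfsg.Agent.H38.JFour.SecondClass
import Cfsg.Agent.H85.JTen.CentA

/-!
The structure of the normaliser of the subgroup of order 2^11 in a group of Janko-four type.
-/

set_option autoImplicit false

namespace Cfsg.Agent.H85.JTen

open Cfsg Cfsg.Agent.Golay Cfsg.Agent.H94.M24
open Subgroup H43.JFour H98.JFour H38.JFour

universe u v

variable {G : Type u} [Group G] [Finite G] {A : Type v} [Group A]
variable {c : Ctx G A} {M W : Subgroup A} {h : Pkg c M W}

lemma ev_vec_check :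
    ((List.range (2 ^ 12)).all fun s => !ev s || ((reduceMask s == s) && (popCnt s % 2 == 0))) = true ∧
    (vecList.all fun v => ev v) = true ∧
    (basisList.all fun b => octadList.contains b) = true ∧
    isSext z0 = true ∧ isDuad t0 = true := by
  decide +kernel

lemma isVec_iff_ev {s : ℕ} : IsVec s ↔ ev s = true := by
  refine ⟨fun hs => List.all_eq_true.1 ev_vec_check.2.1 s hs, fun hs => ?_⟩
  have hlt : s < 2 ^ 12 := by
    simp only [ev, Bool.and_eq_true, decide_eq_true_eq] at hs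
    exact hs.1
  have hc := List.all_eq_true.1 ev_vec_check.1 s (List.mem_range.2 hlt)
  rw [hs, Bool.not_true, Bool.false_or, Bool.and_eq_true, beq_iff_eq, beq_iff_eq] at hc
  rw [← hc.1]
  exact isVec_reduce (hlt.trans (by norm_num)) hc.2

section Setting

variable {K : Subgroup G} {t : h.V} (S : Setting h K t)

lemma F_reduceMask (m : ℕ) : S.F (reduceMask m) = S.F m := by
  letI := h.commV
  unfold reduceMask
  have key : ∀ L : List ℕ, (∀ b ∈ L, b ∈ octadList) →
      S.F (List.foldr (fun b x => if x.testBit (Nat.log2 b) then b ^^^ x else x) m L) = S.F m := by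
    intro L
    induction L with
    | nil => exact fun _ => rfl
    | cons b l ih =>
      intro hL
      rw [List.foldr_cons]
      have h1 := ih fun x hx => hL x (List.mem_cons_of_mem _ hx)
      split
      · rw [S.F_xor, h1]
        have hb : S.F b = 1 := by
          show ((S.D.φ b : h.V) : G) = 1
          rw [show S.D.φ b = 1 from S.D.octad _ (ptSet_mem_octads (hL b List.mem_cons_self))]
          rfl
        rw [hb, one_mul]
      · exact h1
  exact key _ fun b hb => List.contains_iff_mem.1 (List.all_eq_true.1 ev_vec_check.2.2.1 b hb)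

lemma Φ_bijective : Function.Bijective (S.Φ.comp (inclusion S.hK.le)) := by
  refine ⟨fun a b e => ?_, fun σ => ?_⟩
  · exact Subtype.ext (congrArg (fun x : ↥(normalizer (h.V : Set G)) => (x : G))
      (S.Φ_inj_K (k := inclusion S.hK.le a) (k' := inclusion S.hK.le b) a.2 b.2 e))
  · obtain ⟨k, hk, e⟩ := S.exists_lift σ
    exact ⟨⟨k, hk⟩, e⟩

/-- The complement map. -/
noncomputable def kap : ↥Cfsg.M24 →* G :=
  K.subtype.comp (MulEquiv.ofBijective _ (Φ_bijective S)).symm.toMonoidHom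

lemma kap_mem (g : ↥Cfsg.M24) : kap S g ∈ K := Subtype.coe_prop _

lemma Φ_kap (g : ↥Cfsg.M24) : S.Φ ⟨kap S g, S.hK.le (kap_mem S g)⟩ = g :=
  (MulEquiv.ofBijective _ (Φ_bijective S)).apply_symm_apply g

lemma kap_conj (g : ↥Cfsg.M24) (v : ℕ) (hv : IsVec v) :
    kap S g * S.F v * (kap S g)⁻¹ = S.F (gact g v) := by
  letI := h.commV
  set n : ↥(normalizer (h.V : Set G)) := ⟨kap S g, S.hK.le (kap_mem S g)⟩ with hn
  have hσ : mkPerm (tb g) = ((S.Φ n : ↥Cfsg.M24) : Equiv.Perm GolayPt) := by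
    rw [hn, Φ_kap, tb, mkPerm_tblOf]
  have h1 := congrArg Subtype.val
    (S.D.φ_img (h.conjV.rangeRestrict n) (tab_tb g).valid hσ (ev_card (isVec_iff_ev.1 hv)))
  rw [MonoidHom.coe_rangeRestrict, h.conjV_apply] at h1
  rw [gact, act, F_reduceMask S]
  refine h1.trans ?_
  show ((S.D.φ (img (tb g) v) : h.V) : G) = ((S.D.φ (tblImg (tb g) v) : h.V) : G)
  rw [img, S.D.φ_red]

/-- The structure from a setting. -/
noncomputable def coc (hti : HexTI W) : Coc G where
  V := h.V
  φ := S.F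
  κ := kap S
  mem_V x := ⟨fun hx => by
      obtain ⟨s, hs, e⟩ := S.exists_F hx
      exact ⟨s, isVec_iff_ev.2 hs, e⟩,
    fun ⟨_, _, e⟩ => e ▸ S.F_mem _⟩
  φ_mul a b _ _ := S.F_xor a b
  φ_eq_one a ha e := (S.F_eq_one (isVec_iff_ev.1 ha)).1 e
  κ_V g hg := by
    have h1 : (⟨kap S g, S.hK.le (kap_mem S g)⟩ : ↥(normalizer (h.V : Set G))) = 1 := by
      refine Subtype.ext ?_
      have := mem_inf.2 ⟨kap_mem S g, hg⟩
      rwa [S.hK.inf, mem_bot] at this
    rw [← Φ_kap S g, h1, map_one]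
  conj := kap_conj S
  mem_norm x := by
    constructor
    · intro hx
      obtain ⟨v, hv, k, hk, rfl⟩ := S.hK.decomp hx
      obtain ⟨s, hs, rfl⟩ := S.exists_F hv
      refine ⟨s, S.Φ ⟨k, S.hK.le hk⟩, isVec_iff_ev.2 hs, ?_⟩
      congr 1
      exact congrArg (fun y : ↥(normalizer (h.V : Set G)) => (y : G))
        (S.Φ_inj_K (k := ⟨k, S.hK.le hk⟩) (k' := ⟨kap S _, S.hK.le (kap_mem S _)⟩) hk (kap_mem S _)
          (Φ_kap S _).symm)
    · rintro ⟨v, g, -, rfl⟩
      exact mul_mem (le_normalizer (S.F_mem v)) (S.hK.le (kap_mem S g))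
  exists_conj B hB := by
    have : Fact (Nat.Prime 2) := ⟨Nat.prime_two⟩
    obtain ⟨T, hT⟩ := hB.exists_le_sylow
    obtain ⟨T0, hT0, -, -⟩ := h.exists_sylow
    obtain ⟨g, hg⟩ := MulAction.exists_smul_eq G T T0
    refine ⟨g, ?_⟩
    rintro _ ⟨x, hx, rfl⟩
    have h1 : MulAut.conj g x ∈ (T0 : Subgroup G) := by
      rw [← hg, Sylow.coe_subgroup_smul]
      exact Subgroup.smul_mem_pointwise_smul _ (MulAut.conj g) _ (hT hx)
    have h2 := hT0 h1
    exact (mem_inf.1 (h.NH_eq.le h2)).2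
  cent_t := by
    have hd : S.F t0 ∈ h.rest := (S.F_rest (ev_of_isDuad ev_vec_check.2.2.2.2).1).2 ev_vec_check.2.2.2.2
    have hz : ¬ IsConj c.z (S.F t0) := fun e => hd.2 (h.fusion hd.1.1 e)
    exact h.cent_le_of_model S.hF S.hE hti
      (fun t htV ht1 htz => exists_tmodel h S.hF S.hE hti S.hK htV ht1 htz)
      _ hd.1.1 hd.1.2 hz
  not_conj := by
    intro e
    have hd : S.F t0 ∈ h.rest := (S.F_rest (ev_of_isDuad ev_vec_check.2.2.2.2).1).2 ev_vec_check.2.2.2.2
    exact hd.2 (h.fusion hd.1.1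
      (((S.F_isConj (isSext_ev ev_vec_check.2.2.2.1).1).2 ev_vec_check.2.2.2.1).trans e))

end Setting

end Cfsg.Agent.H85.JTen
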