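import Cfsg.Agent.H85.JTen.Spaces

/-!
The action of the normaliser of the standard subgroup on the 31 spaces gives a linear action on a
space of dimension 5.
-/

set_option autoImplicit false

namespace Cfsg.Agent.H85.JTen

open Cfsg Cfsg.Agent.Golay Cfsg.Agent.H94.M24
open scoped Matrix

attribute [local irreducible] spaces spc qMask qList orb0 orb1 orb2 orb3

/-- The bits of a number below 32. -/
def vec5 (n : ℕ) : Fin 5 → ZMod 2 := fun i => if n.testBit (i : ℕ) then 1 else 0

/-- The number of a vector. -/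
def num5 (v : Fin 5 → ZMod 2) : ℕ := ∑ i : Fin 5, (v i).val * 2 ^ (i : ℕ)

lemma num5_facts :
    (∀ v : Fin 5 → ZMod 2, num5 v < 32 ∧ vec5 (num5 v) = v) ∧
    (∀ n : Fin 32, num5 (vec5 n) = n) := by
  decide +kernel

lemma vec5_xor (a b : ℕ) : vec5 (a ^^^ b) = vec5 a + vec5 b := by
  funext i
  simp only [vec5, Nat.testBit_xor, Pi.add_apply]
  cases a.testBit i <;> cases b.testBit i <;> decide

lemma num5_vec5 {n : ℕ} (h : n < 32) : num5 (vec5 n) = n := num5_facts.2 ⟨n, h⟩

lemma num5_add (v w : Fin 5 → ZMod 2) : num5 (v + w) = num5 v ^^^ num5 w := by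
  have h := vec5_xor (num5 v) (num5 w)
  rw [(num5_facts.1 v).2, (num5_facts.1 w).2] at h
  rw [← h, num5_vec5 (Nat.xor_lt_two_pow (n := 5) (num5_facts.1 v).1 (num5_facts.1 w).1)]

/-- The linear map of an additive relabelling. -/
noncomputable def relabel (f : ℕ → ℕ) (hlt : ∀ e < 32, f e < 32)
    (hadd : ∀ a < 32, ∀ b < 32, f (a ^^^ b) = f a ^^^ f b) :
    (Fin 5 → ZMod 2) →ₗ[ZMod 2] Fin 5 → ZMod 2 :=
  (AddMonoidHom.mk' (fun v => vec5 (f (num5 v))) fun v w => by
    simp only [num5_add, hadd _ (num5_facts.1 v).1 _ (num5_facts.1 w).1, vec5_xor]).toZModLinearMap 2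

lemma relabel_apply (f : ℕ → ℕ) (hlt hadd) (v : Fin 5 → ZMod 2) :
    relabel f hlt hadd v = vec5 (f (num5 v)) := rfl

lemma zmod_two_ne_zero : ∀ x : ZMod 2, x ≠ 0 → x = 1 := by decide

lemma toGL_mk {n : Type*} [DecidableEq n] [Fintype n] {R : Type*} [CommRing R] (M : Matrix n n R)
    (h : M.det = 1) :
    ((Matrix.SpecialLinearGroup.toGL ⟨M, h⟩ : GL n R) : Matrix n n R) = M :=
  rfl

set_option maxRecDepth 20000 in
theorem card_SL_five : Nat.card (Matrix.SpecialLinearGroup (Fin 5) (ZMod 2)) = 9999360 := by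
  have hbij : Function.Bijective
      (Matrix.SpecialLinearGroup.toGL (n := Fin 5) (R := ZMod 2)) := by
    refine ⟨fun a b e => Subtype.ext ?_, fun g => ?_⟩
    · exact congrArg (fun u : GL (Fin 5) (ZMod 2) => (u : Matrix (Fin 5) (Fin 5) (ZMod 2))) e
    · have hd : (g : Matrix (Fin 5) (Fin 5) (ZMod 2)).det = 1 :=
        zmod_two_ne_zero _ ((Matrix.isUnit_iff_isUnit_det _).1 g.isUnit).ne_zero
      refine ⟨⟨(g : Matrix (Fin 5) (Fin 5) (ZMod 2)), hd⟩, ?_⟩
      exact Units.ext (toGL_mk _ hd)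
  rw [Nat.card_eq_of_bijective _ hbij, Matrix.card_GL_field]
  simp [Fin.prod_univ_five, ZMod.card]

namespace Coc

variable {G : Type*} [Group G] (C : Coc G)

open Classical in
/-- The coordinate of an element of the standard subgroup. -/
noncomputable def coord (x : G) : ℕ := if h : x ∈ C.A then Classical.choose h else 0

lemma coord_spec {x : G} (h : x ∈ C.A) : C.coord x < 1024 ∧ C.aEl (C.coord x) = x := by
  rw [coord, dif_pos h]; exact Classical.choose_spec h

lemma coord_aEl {n : ℕ} (hn : n < 1024) : C.coord (C.aEl n) = n :=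
  C.aEl_inj (C.coord_spec ⟨n, hn, rfl⟩).1 hn (C.coord_spec ⟨n, hn, rfl⟩).2

/-- The coordinate map of conjugation. -/
noncomputable def cmap (g : G) (n : ℕ) : ℕ := C.coord (g * C.aEl n * g⁻¹)

lemma cmap_spec {g : G} (hg : g ∈ Subgroup.normalizer (C.A : Set G)) {n : ℕ} (hn : n < 1024) :
    C.cmap g n < 1024 ∧ C.aEl (C.cmap g n) = g * C.aEl n * g⁻¹ :=
  C.coord_spec ((Subgroup.mem_normalizer_iff.1 hg (C.aEl n)).1 ⟨n, hn, rfl⟩)

lemma qMap [Finite G] (hmove : C.Moves) {g : G} (hg : g ∈ Subgroup.normalizer (C.A : Set G)) :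
    QMap (C.cmap g) where
  lt n hn := (C.cmap_spec hg hn).1
  xor m hm n hn := by
    refine C.aEl_inj (C.cmap_spec hg (Nat.xor_lt_two_pow (n := 10) hm hn)).1
      (Nat.xor_lt_two_pow (n := 10) (C.cmap_spec hg hm).1 (C.cmap_spec hg hn).1) ?_
    rw [(C.cmap_spec hg (Nat.xor_lt_two_pow (n := 10) hm hn)).2, aEl_xor, aEl_xor,
      (C.cmap_spec hg hm).2, (C.cmap_spec hg hn).2]
    group
  inj m hm n hn e := by
    have e' := congrArg C.aEl e
    rw [(C.cmap_spec hg hm).2, (C.cmap_spec hg hn).2] at e'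
    exact C.aEl_inj hm hn (mul_left_cancel (mul_right_cancel e'))
  special n hn hb := by
    rw [← qMask_eq, testBit_maskOf, ← List.mem_toFinset, ← (C.reach_classes hmove).1,
      mem_reachSet] at hb ⊢
    exact ⟨(C.cmap_spec hg hn).1, Reach.trans C hb.2 ⟨g, hg, (C.cmap_spec hg hn).2.symm⟩⟩

open Classical in
/-- The relabelling of the spaces. -/
noncomputable def perm31 (g : G) : ℕ → ℕ :=
  if h : ∃ f, Carries (C.cmap g) f then Classical.choose h else id

lemma perm31_spec [Finite G] (hmove : C.Moves) {g : G}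
    (hg : g ∈ Subgroup.normalizer (C.A : Set G)) : Carries (C.cmap g) (C.perm31 g) := by
  have h := (C.qMap hmove hg).exists_carries
  rw [perm31, dif_pos h]
  exact Classical.choose_spec h

variable [Finite G] (hmove : C.Moves)
include hmove

lemma perm31_lt {g : G} (hg : g ∈ Subgroup.normalizer (C.A : Set G)) :
    ∀ e < 32, C.perm31 g e < 32 := fun e he => by
  by_cases h0 : e = 0
  · rw [h0, (C.perm31_spec hmove hg).1]; norm_num
  · exact ((C.perm31_spec hmove hg).2 e he h0).1

lemma perm31_add {g : G} (hg : g ∈ Subgroup.normalizer (C.A : Set G)) :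
    ∀ a < 32, ∀ b < 32, C.perm31 g (a ^^^ b) = C.perm31 g a ^^^ C.perm31 g b :=
  fun _ ha _ hb => (C.perm31_spec hmove hg).add (C.qMap hmove hg) ha hb

lemma perm31_mul {g h : G} (hg : g ∈ Subgroup.normalizer (C.A : Set G))
    (hh : h ∈ Subgroup.normalizer (C.A : Set G)) {e : ℕ} (he : e < 32) :
    C.perm31 (g * h) e = C.perm31 g (C.perm31 h e) := by
  refine Carries.unique (g := fun e => C.perm31 g (C.perm31 h e)) (C.qMap hmove (mul_mem hg hh))
    (C.perm31_spec hmove (mul_mem hg hh)) ?_ he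
  obtain ⟨h0, hc⟩ := Carries.comp (C.qMap hmove hh) (C.perm31_spec hmove hg)
    (C.perm31_spec hmove hh)
  refine ⟨h0, fun e he h1 => ?_⟩
  obtain ⟨a, b, c⟩ := hc e he h1
  refine ⟨a, b, fun n hn hb => ?_⟩
  have e' : C.cmap (g * h) n = (C.cmap g ∘ C.cmap h) n := by
    have h2 := C.cmap_spec hg (C.cmap_spec hh hn).1
    refine C.aEl_inj (C.cmap_spec (mul_mem hg hh) hn).1 h2.1 ?_
    rw [(C.cmap_spec (mul_mem hg hh) hn).2]
    show _ = C.aEl (C.cmap g (C.cmap h n))
    rw [h2.2, (C.cmap_spec hh hn).2]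
    group
  rw [e']
  exact c n hn hb

/-- The matrix of an element of the normaliser. -/
noncomputable def mat (g : ↥(Subgroup.normalizer (C.A : Set G))) : Matrix (Fin 5) (Fin 5) (ZMod 2) :=
  LinearMap.toMatrix' (relabel (C.perm31 g) (C.perm31_lt hmove g.2) (C.perm31_add hmove g.2))

lemma mat_mul (g h : ↥(Subgroup.normalizer (C.A : Set G))) :
    C.mat hmove (g * h) = C.mat hmove g * C.mat hmove h := by
  rw [mat, mat, mat, ← LinearMap.toMatrix'_comp]
  congr 1
  refine LinearMap.ext fun v => ?_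
  rw [LinearMap.comp_apply, relabel_apply, relabel_apply, relabel_apply,
    num5_vec5 (C.perm31_lt hmove h.2 _ (num5_facts.1 v).1)]
  exact congrArg vec5 (C.perm31_mul hmove g.2 h.2 (num5_facts.1 v).1)

lemma mat_one : C.mat hmove 1 = 1 := by
  rw [mat, ← LinearMap.toMatrix'_id]
  congr 1
  refine LinearMap.ext fun v => ?_
  rw [relabel_apply, LinearMap.id_apply]
  have hc : Carries (C.cmap ((1 : ↥(Subgroup.normalizer (C.A : Set G))) : G)) id := by
    refine ⟨rfl, fun e he h0 => ⟨he, h0, fun n hn hb => ?_⟩⟩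
    have e' : C.cmap ((1 : ↥(Subgroup.normalizer (C.A : Set G))) : G) n = n := by
      rw [cmap, OneMemClass.coe_one, one_mul, inv_one, mul_one, C.coord_aEl hn]
    rw [e']; exact hb
  rw [Carries.unique (C.qMap hmove (1 : ↥(Subgroup.normalizer (C.A : Set G))).2)
    (C.perm31_spec hmove (1 : ↥(Subgroup.normalizer (C.A : Set G))).2) hc (num5_facts.1 v).1]
  exact (num5_facts.1 v).2

lemma mat_det (g : ↥(Subgroup.normalizer (C.A : Set G))) : (C.mat hmove g).det = 1 := by
  refine zmod_two_ne_zero _ fun e => ?_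
  have h := congrArg Matrix.det (C.mat_mul hmove g g⁻¹)
  rw [mul_inv_cancel, C.mat_one hmove, Matrix.det_one, Matrix.det_mul, e, zero_mul] at h
  exact one_ne_zero h

/-- The homomorphism to the special linear group. -/
noncomputable def toSL :
    ↥(Subgroup.normalizer (C.A : Set G)) →* Matrix.SpecialLinearGroup (Fin 5) (ZMod 2) where
  toFun g := ⟨C.mat hmove g, C.mat_det hmove g⟩
  map_one' := Subtype.ext (C.mat_one hmove)
  map_mul' g h := Subtype.ext (C.mat_mul hmove g h)

lemma toSL_ker (g : ↥(Subgroup.normalizer (C.A : Set G))) (h : C.toSL hmove g = 1) :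
    (g : G) ∈ C.A := by
  have hm : C.mat hmove g = C.mat hmove 1 := by
    rw [C.mat_one hmove]; exact congrArg Subtype.val h
  have hl := LinearMap.toMatrix'.injective hm
  have hid : ∀ e < 32, C.perm31 g e = e := by
    intro e he
    have h1 := LinearMap.congr_fun hl (vec5 e)
    rw [relabel_apply, relabel_apply, num5_vec5 he] at h1
    have hc : Carries (C.cmap ((1 : ↥(Subgroup.normalizer (C.A : Set G))) : G)) id := by
      refine ⟨rfl, fun e he h0 => ⟨he, h0, fun n hn hb => ?_⟩⟩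
      have e' : C.cmap ((1 : ↥(Subgroup.normalizer (C.A : Set G))) : G) n = n := by
        rw [cmap, OneMemClass.coe_one, one_mul, inv_one, mul_one, C.coord_aEl hn]
      rw [e']; exact hb
    rw [Carries.unique (C.qMap hmove (1 : ↥(Subgroup.normalizer (C.A : Set G))).2)
      (C.perm31_spec hmove (1 : ↥(Subgroup.normalizer (C.A : Set G))).2) hc he, id] at h1
    have h2 := congrArg num5 h1
    rwa [num5_vec5 (C.perm31_lt hmove g.2 e he), num5_vec5 he] at h2
  have hfix := (C.perm31_spec hmove g.2).eq_id (C.qMap hmove g.2) hid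
  refine (le_of_eq C.cent_A) (Subgroup.mem_centralizer_iff.2 ?_)
  rintro _ ⟨n, hn, rfl⟩
  have e := (C.cmap_spec g.2 hn).2
  rw [hfix n hn] at e
  exact eq_mul_inv_iff_mul_eq.1 e

end Coc

end Cfsg.Agent.H85.JTen
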