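import Cfsg.Agent.H85.JTen.CentA

/-!
Elements of the normaliser of the standard subgroup inside the normaliser of the cocode, and their
orbits on it.
-/

set_option autoImplicit false

namespace Cfsg.Agent.H85.JTen

open Cfsg Cfsg.Agent.Golay Cfsg.Agent.H94.M24

/-- The translation part. -/
def gW (k : ℕ) : ℕ := gamW.getD k 0

/-- The table part. -/
def gT (k : ℕ) : ℕ := gamT.getD k 0

/-- The images of the coordinate basis. -/
def gM (k : ℕ) : List ℕ := (gamMaps.drop (10 * k)).take 10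

/-- The element `2 ^ b` is conjugated to `M`. -/
def mapStep (w T b M : ℕ) : Bool :=
  decide (M < 1024) && forceN (oT (M / 64)) fun U =>
    (tblMul T (oT (2 ^ b / 64)) == tblMul U T) && (w ^^^ act T (aV (2 ^ b)) ^^^ act U w == aV M)

lemma gam_ok : ((List.range 7).all fun k => tabB (gT k) && vecList.contains (gW k) &&
    forceL (gM k) fun M => (M.length == 10) &&
      (List.range 10).all fun b => mapStep (gW k) (gT k) b (M.getD b 0)) = true := by
  decide +kernel

lemma combo_lt {n : ℕ} : ∀ (L : List ℕ), (∀ x ∈ L, x < 2 ^ n) → ∀ k, combo L k < 2 ^ n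
  | [], _, _ => Nat.two_pow_pos n
  | b :: t, h, k => by
    rw [combo]
    refine Nat.xor_lt_two_pow ?_ (combo_lt t (fun x hx => h x (List.mem_cons_of_mem _ hx)) _)
    split
    · exact h b (by simp)
    · exact Nat.two_pow_pos n

lemma combo_single : ∀ (L : List ℕ) (b : ℕ), combo L (2 ^ b) = L.getD b 0
  | [], _ => by simp [combo]
  | c :: t, 0 => by
    have h0 : combo t 0 = 0 := by
      have := combo_xor t 0 0
      rw [Nat.xor_self] at this; rw [this, Nat.xor_self]
    simp [combo, h0]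
  | c :: t, b + 1 => by
    rw [combo, show (2 : ℕ) ^ (b + 1) / 2 = 2 ^ b by rw [pow_succ]; omega, combo_single t b,
      Nat.testBit_two_pow]
    simp

lemma combo_zero (L : List ℕ) : combo L 0 = 0 := by
  have := combo_xor L 0 0
  rw [Nat.xor_self] at this; rw [this, Nat.xor_self]

attribute [local irreducible] tblMul mkTbl tblImg gamW gamT gamMaps oList aBasis gM gT gW combo

namespace Coc

variable {G : Type*} [Group G] (C : Coc G)

/-- The element of a generator. -/
noncomputable def gEl (k : ℕ) : G := C.elt (gW k) (gOf (gT k))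

lemma gam_facts {k : ℕ} (hk : k < 7) : Tab (gT k) ∧ IsVec (gW k) ∧ (gM k).length = 10 ∧
    (∀ b < 10, (gM k).getD b 0 < 1024) ∧
    ∀ b < 10, C.gEl k * C.aEl (2 ^ b) * (C.gEl k)⁻¹ = C.aEl ((gM k).getD b 0) := by
  have h := gam_ok
  simp only [List.all_eq_true, List.mem_range, Bool.and_eq_true, forceL_eq, beq_iff_eq,
    List.contains_iff_mem, mapStep, forceN_eq, decide_eq_true_eq] at h
  obtain ⟨⟨hT, hw⟩, hlen, hb⟩ := h k hk
  have hT' := tab_of hT
  have hw' : IsVec (gW k) := hw
  refine ⟨hT', hw', hlen, fun b hb' => (hb b hb').1, fun b hb' => ?_⟩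
  obtain ⟨-, h1, h2⟩ := hb b hb'
  have e1 : gOf (gT k) * oE (2 ^ b / 64) = oE ((gM k).getD b 0 / 64) * gOf (gT k) := by
    rw [oE, oE, ← (hT'.mul (tab_oT _)).2, h1, ((tab_oT _).mul hT').2]
  rw [mul_inv_eq_iff_eq_mul, gEl, aEl, aEl, C.elt_mul hw' (isVec_aV _),
    C.elt_mul (isVec_aV _) hw', e1]
  congr 1
  rw [gact_gOf hT', oE, gact_gOf (tab_oT _), ← h2, Nat.xor_assoc _ (act (oT _) _),
    Nat.xor_self, Nat.xor_zero]

lemma gEl_mem_norm {k : ℕ} (hk : k < 7) : C.gEl k ∈ Subgroup.normalizer (C.V : Set G) :=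
  C.elt_mem (C.gam_facts hk).2.1 _

lemma gEl_conj {k : ℕ} (hk : k < 7) {n : ℕ} (hn : n < 1024) :
    C.gEl k * C.aEl n * (C.gEl k)⁻¹ = C.aEl (combo (gM k) n) ∧ combo (gM k) n < 1024 := by
  obtain ⟨-, -, hlen, hlt, hstep⟩ := C.gam_facts hk
  have hlt' : ∀ x ∈ gM k, x < 2 ^ 10 := by
    intro x hx
    obtain ⟨i, hi, rfl⟩ := List.getElem_of_mem hx
    have := hlt i (hlen ▸ hi)
    rwa [List.getD_eq_getElem _ _ hi] at this
  refine ⟨?_, combo_lt _ hlt' n⟩
  refine xor_bits_induction
    (P := fun n => C.gEl k * C.aEl n * (C.gEl k)⁻¹ = C.aEl (combo (gM k) n))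
    (by rw [combo_zero, aEl_zero, mul_one, mul_inv_cancel]) (fun a b ha hb => ?_) 10
    (fun b hb => by rw [combo_single]; exact hstep b hb) n hn
  rw [aEl_xor, combo_xor, aEl_xor, ← ha, ← hb]; group

lemma mem_norm_A {g : G} (h : ∀ x ∈ C.A, g * x * g⁻¹ ∈ C.A) :
    g ∈ Subgroup.normalizer (C.A : Set G) := by
  have : Finite C.A := Nat.finite_of_card_ne_zero (by rw [C.card_A]; norm_num)
  have hle : C.A.map (MulAut.conj g).toMonoidHom ≤ C.A := by
    rintro _ ⟨x, hx, rfl⟩; exact h x hx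
  have heq := Subgroup.eq_of_le_of_card_ge hle
    (by rw [Subgroup.card_map_of_injective (MulAut.conj g).injective])
  rw [Subgroup.mem_normalizer_iff]
  refine fun x => ⟨h x, fun hx => ?_⟩
  rw [← heq] at hx
  obtain ⟨y, hy, e⟩ := hx
  rwa [show y = x from (MulAut.conj g).injective e] at hy

lemma gEl_mem {k : ℕ} (hk : k < 7) : C.gEl k ∈ Subgroup.normalizer (C.A : Set G) :=
  C.mem_norm_A fun _ ⟨n, hn, e⟩ => by
    obtain ⟨h1, h2⟩ := C.gEl_conj hk hn
    exact e ▸ ⟨_, h2, h1.symm⟩

/-- Two coordinates are conjugate in the normaliser of the standard subgroup. -/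
def Reach (a b : ℕ) : Prop :=
  ∃ g ∈ Subgroup.normalizer (C.A : Set G), g * C.aEl a * g⁻¹ = C.aEl b

lemma Reach.refl (a : ℕ) : C.Reach a a := ⟨1, one_mem _, by simp⟩

lemma Reach.trans {a b c : ℕ} (h : C.Reach a b) (h' : C.Reach b c) : C.Reach a c := by
  obtain ⟨g, hg, e⟩ := h
  obtain ⟨g', hg', e'⟩ := h'
  exact ⟨g' * g, mul_mem hg' hg, by rw [← e', ← e]; group⟩

lemma Reach.symm {a b : ℕ} (h : C.Reach a b) : C.Reach b a := by
  obtain ⟨g, hg, e⟩ := h
  exact ⟨g⁻¹, inv_mem hg, by rw [← e]; group⟩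

end Coc

/-- The orbit list is reached from its head by the parents. -/
def orbTest (L P : List ℕ) : Bool :=
  (L.all fun n => Nat.blt n 1024 && !(Nat.beq n 0)) && (P.length == L.length) &&
    ((List.range L.length).zip (L.zip P)).all fun x => x.1 == 0 || forceN x.2.2 fun p =>
      decide (p / 16 < x.1) && decide (p % 16 < 7) &&
        (combo (gM (p % 16)) (L.getD (p / 16) 0) == x.2.1)

/-- The four orbit lists. -/
def orbL : List (List ℕ) := [orb0, orb1, orb2, orb3]

lemma orb_ok : orbTest orb0 orbPar0 = true ∧ orbTest orb1 orbPar1 = true ∧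
    orbTest orb2 orbPar2 = true ∧ orbTest orb3 orbPar3 = true := by
  decide +kernel

lemma orb_facts : orb0.length = 35 ∧ orb1.length = 28 ∧ orb2.length = 120 ∧ orb3.length = 840 ∧
    (aV (orb0.getD 0 0) == z0 && (orb0.getD 0 0 / 64 == 0)) = true ∧
    (aV (orb1.getD 0 0) == t0 && (orb1.getD 0 0 / 64 == 0)) = true := by
  decide +kernel

/-- The mask of a list. -/
def maskOf (L : List ℕ) : ℕ := L.foldl (fun m n => m ||| 2 ^ n) 0

lemma testBit_maskOf_aux : ∀ (L : List ℕ) (m n : ℕ),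
    (L.foldl (fun m n => m ||| 2 ^ n) m).testBit n = true ↔ m.testBit n = true ∨ n ∈ L
  | [], _, _ => by simp
  | a :: t, m, n => by
    rw [List.foldl_cons, testBit_maskOf_aux t, Nat.testBit_or, Bool.or_eq_true, Nat.testBit_two_pow]
    simp only [decide_eq_true_eq, List.mem_cons, eq_comm (a := n) (b := a)]
    tauto

lemma testBit_maskOf (L : List ℕ) (n : ℕ) : (maskOf L).testBit n = true ↔ n ∈ L := by
  rw [maskOf, testBit_maskOf_aux]; simp

lemma orb_cover : ((List.range 1024).all fun n => forceN (maskOf (orb0 ++ orb1 ++ orb2 ++ orb3))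
    fun M => n == 0 || M.testBit n) = true ∧ orb0.all (fun n => Nat.blt n 64) = true := by
  decide +kernel

/-- Each basis coordinate of the fixed space is a sum of two or fewer members of the first orbit. -/
lemma orb0_span (b : ℕ) (hb : b < 6) :
    2 ^ b ∈ orb0 ∨ ∃ x ∈ orb0, ∃ y ∈ orb0, x ^^^ y = 2 ^ b := by
  have h : ((List.range 6).all fun b => orb0.contains (2 ^ b) ||
      orb0.any fun x => orb0.contains (x ^^^ 2 ^ b)) = true := by decide +kernel
  simp only [List.all_eq_true, List.mem_range, Bool.or_eq_true, List.any_eq_true,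
    List.contains_iff_mem] at h
  rcases h b hb with e | ⟨x, hx, e⟩
  · exact .inl e
  · exact .inr ⟨x, hx, _, e, by rw [← Nat.xor_assoc, Nat.xor_self, Nat.zero_xor]⟩

namespace Coc

variable {G : Type*} [Group G] (C : Coc G)

lemma reach_orb {L P : List ℕ} (h : orbTest L P = true) :
    ∀ n ∈ L, n < 1024 ∧ n ≠ 0 ∧ C.Reach (L.getD 0 0) n := by
  simp only [orbTest, Bool.and_eq_true, List.all_eq_true, beq_iff_eq, Bool.or_eq_true,
    Bool.not_eq_true', forceN_eq, decide_eq_true_eq] at h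
  obtain ⟨⟨hall, hlen⟩, hpar⟩ := h
  have hlt : ∀ n ∈ L, n < 1024 ∧ n ≠ 0 := fun n hn =>
    ⟨Nat.le_of_ble_eq_true (hall n hn).1, Nat.ne_of_beq_eq_false (hall n hn).2⟩
  have key : ∀ i < L.length, C.Reach (L.getD 0 0) (L.getD i 0) := by
    intro i hi
    induction i using Nat.strong_induction_on with
    | _ i ih =>
      by_cases e : i = 0
      · rw [e]; exact Reach.refl C _
      · have hP : i < P.length := by omega
        have hm : (i, L[i], P[i]) ∈ (List.range L.length).zip (L.zip P) :=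
          List.mem_iff_getElem.2 ⟨i, by simp [hlen, hi], by simp⟩
        rcases hpar _ hm with h' | ⟨⟨h1, h2⟩, h3⟩
        · exact absurd h' e
        · have hj : P[i] / 16 < L.length := lt_trans h1 hi
          have hb := (hlt (L.getD (P[i] / 16) 0)
            (by rw [List.getD_eq_getElem _ _ hj]; exact List.getElem_mem _)).1
          refine Reach.trans C (ih _ h1 hj) ⟨_, C.gEl_mem h2, ?_⟩
          rw [(C.gEl_conj h2 hb).1, h3, List.getD_eq_getElem _ _ hi]
  intro n hn
  obtain ⟨i, hi, rfl⟩ := List.getElem_of_mem hn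
  have := key i hi
  rw [List.getD_eq_getElem _ _ hi] at this
  exact ⟨(hlt _ hn).1, (hlt _ hn).2, this⟩

lemma aEl_seed {n v : ℕ} (h : (aV n == v && (n / 64 == 0)) = true) : C.aEl n = C.φ v := by
  simp only [Bool.and_eq_true, beq_iff_eq] at h
  rw [aEl, h.1, h.2, oE_zero, elt_one]

end Coc

end Cfsg.Agent.H85.JTen
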