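import Cfsg.Agent.H85.JTen.Inst
import Cfsg.Agent.H85.JTen.Norm
import Cfsg.Agent.H85.JTen.Fusion
import Cfsg.Agent.H85.JFour.AutM22.Other

/-!
The normaliser of the standard subgroup is not contained in the normaliser of the cocode.
-/

set_option autoImplicit false

namespace Cfsg.Agent.H85.JTen

open Cfsg Cfsg.Agent.Golay Cfsg.Agent.H94.M24

/-- The inverse of a table. -/
def invTbl (T : ℕ) : ℕ :=
  mkTbl 24 fun i => (List.range 24).foldl (fun r j => bif app T j == i then j else r) 0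

/-- The commutator with the witness. -/
def witC (m : ℕ) : ℕ :=
  tblMul (oT m) (tblMul (tblMul (sextWit.getD m 0) (oT m)) (invTbl (sextWit.getD m 0)))

/-- Outside four indices the witness gives an element of order 5. -/
def witTest : Bool :=
  (List.range 16).all fun m => [0, 1, 10, 11].contains m || forceN (sextWit.getD m 0) fun T =>
    tabB T && tabB (invTbl T) && (tblMul T (invTbl T) == idTblVal) && (act T z0 == z0) &&
      forceN (witC m) fun w => forceN (tblMul w w) fun w2 =>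
        !(w == idTblVal) && (tblMul w (tblMul w2 w2) == idTblVal)

lemma wit_ok : witTest = true := by decide +kernel

attribute [local irreducible] tblMul mkTbl tblImg invTbl sextWit

namespace Coc

variable {G : Type*} [Group G] (C : Coc G)

lemma elt_pow {v : ℕ} (hv : IsVec v) (g : ↥Cfsg.M24) : ∀ n : ℕ,
    ∃ w, IsVec w ∧ C.elt v g ^ n = C.elt w (g ^ n)
  | 0 => ⟨0, isVec_zero, by rw [pow_zero, pow_zero, elt_one, φ_zero]⟩
  | n + 1 => by
    obtain ⟨w, hw, e⟩ := elt_pow hv g n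
    exact ⟨_, hw.xor (isVec_gact _ hv), by rw [pow_succ, e, C.elt_mul hw hv, pow_succ]⟩

end Coc

open Subgroup H43.JFour H98.JFour H38.JFour

universe u v

variable {G : Type u} [Group G] [Finite G] {Aut : Type v} [Group Aut]
variable {c : Ctx G Aut} {M W : Subgroup Aut}

theorem moves (h : Pkg c M W) (hW' : H85.AutM22.HasOther W) (C : Coc G) (hV : C.V = h.V) {k : G}
    (hk : k ∈ normalizer (h.V : Set G)) (hkz : k * c.z * k⁻¹ = C.φ z0) : C.Moves := by
  classical
  let prH : h.NH →* Aut :=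
    { toFun := fun g => c.pr g
      map_one' := h.hc.pr_one
      map_mul' := fun a b => h.hc.pr_mul _ a.2.1 _ b.2.1 }
  set A' : Subgroup G := C.A.map (MulAut.conj k⁻¹).toMonoidHom with hA'
  have hmemA' : ∀ x : G, x ∈ A' ↔ k * x * k⁻¹ ∈ C.A := fun x => by
    rw [hA', Ctx.mem_conj_map, inv_inv]
  have hA'N : ∀ x ∈ A', x ∈ normalizer (h.V : Set G) := fun x hx => by
    have h1 : k * x * k⁻¹ ∈ normalizer (h.V : Set G) := hV ▸ C.A_le ((hmemA' x).1 hx)
    rw [show x = k⁻¹ * (k * x * k⁻¹) * k by group]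
    exact mul_mem (mul_mem (inv_mem hk) h1) hk
  have hA'H : ∀ x ∈ A', x ∈ c.H := fun x hx => by
    rw [c.mem_H]
    have h1 := C.A_comm C.z0_mem_A ((hmemA' x).1 hx)
    rw [← hkz] at h1
    calc c.z * x = k⁻¹ * (k * c.z * k⁻¹ * (k * x * k⁻¹)) * k := by group
      _ = k⁻¹ * (k * x * k⁻¹ * (k * c.z * k⁻¹)) * k := by rw [h1]
      _ = x * c.z := by group
  have hle : A' ≤ h.NH := fun x hx => h.NH_eq.ge (mem_inf.2 ⟨hA'H x hx, hA'N x hx⟩)
  set f : A' →* Aut := prH.comp (inclusion hle) with hf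
  set B := f.range with hB
  have hBn : B ≤ normalizer (W : Set Aut) := by
    rintro _ ⟨x, rfl⟩
    exact (hle x.2).2
  have hA'sq : ∀ x : A', x * x = 1 := fun x => Subtype.ext (by
    have h1 := C.A_sq ((hmemA' x).1 x.2)
    show (x : G) * x = 1
    calc (x : G) * x = k⁻¹ * (k * x * k⁻¹ * (k * x * k⁻¹)) * k := by group
      _ = 1 := by rw [h1]; group)
  have hBe : IsElementaryAbelian 2 B := by
    refine ⟨⟨⟨?_⟩⟩, ?_⟩
    · rintro ⟨_, x, rfl⟩ ⟨_, y, rfl⟩
      apply Subtype.ext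
      show f x * f y = f y * f x
      rw [← map_mul, ← map_mul]
      congr 1
      calc x * y = (x * y)⁻¹ := eq_inv_of_mul_eq_one_left (hA'sq _)
        _ = y⁻¹ * x⁻¹ := mul_inv_rev _ _
        _ = y * x := by
          rw [← eq_inv_of_mul_eq_one_left (hA'sq x), ← eq_inv_of_mul_eq_one_left (hA'sq y)]
    · rintro _ ⟨x, rfl⟩
      rw [pow_two, ← map_mul, hA'sq, map_one]
  have key : ∀ x : A', f x ∈ W → ∀ n < 1024, C.aEl n = k * x * k⁻¹ →
      n / 64 % 16 ∈ [0, 1, 10, 11] := by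
    intro x hx n hn e
    by_contra hm
    have hw := wit_ok
    simp only [witTest, List.all_eq_true, List.mem_range, Bool.or_eq_true, forceN_eq,
      Bool.and_eq_true, beq_iff_eq, Bool.not_eq_true', beq_eq_false_iff_ne,
      List.contains_iff_mem] at hw
    obtain ⟨⟨⟨⟨hT, hTi⟩, hinv⟩, hfix⟩, hne, h5⟩ :=
      (hw (n / 64 % 16) (Nat.mod_lt _ (by norm_num))).resolve_left hm
    set m := n / 64 % 16 with hm'
    set T := sextWit.getD m 0
    have hT' := tab_of hT
    have hTi' := tab_of hTi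
    set g := gOf T with hg
    have hgi : gOf (invTbl T) = g⁻¹ := by
      refine eq_inv_of_mul_eq_one_right ?_
      rw [← (hT'.mul hTi').2, hinv, tab_id.2]
    set y := k⁻¹ * C.κ g * k with hy
    have hκN : C.κ g ∈ normalizer (h.V : Set G) := by
      rw [← C.elt_zero, ← hV]; exact C.elt_mem isVec_zero g
    have hκz : C.κ g * C.φ z0 * (C.κ g)⁻¹ = C.φ z0 := by
      have hz : IsVec z0 := isVec_of_aBasis (List.contains_iff_mem.1 pair_mem.2.2.2.2)
      rw [C.conj g z0 hz, hg, gact_gOf hT', hfix]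
    have hyH : y ∈ c.H := by
      rw [c.mem_H]
      rw [← hkz] at hκz
      calc c.z * y = k⁻¹ * (k * c.z * k⁻¹ * C.κ g) * k := by rw [hy]; group
        _ = k⁻¹ * (C.κ g * (k * c.z * k⁻¹) * (C.κ g)⁻¹ * C.κ g) * k := by rw [hκz]
        _ = y * c.z := by rw [hy]; group
    have hyNH : y ∈ h.NH :=
      h.NH_eq.ge (mem_inf.2 ⟨hyH, mul_mem (mul_mem (inv_mem hk) hκN) hk⟩)
    have hxW : c.pr (x : G) ∈ W := hx
    set q := (x : G) * (y * x * y⁻¹) with hq
    have hqH : q ∈ c.H := mul_mem (hA'H x x.2) (mul_mem (mul_mem hyH (hA'H x x.2)) (inv_mem hyH))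
    have hqW : c.pr q ∈ W := by
      rw [hq, h.hc.pr_mul _ (hA'H x x.2) _ (mul_mem (mul_mem hyH (hA'H x x.2)) (inv_mem hyH)),
        h.hc.pr_conj hyH (hA'H x x.2)]
      exact mul_mem hxW ((mem_normalizer_iff.1 hyNH.2 _).1 hxW)
    have hq2 : q * q ∈ c.E ⊔ c.P :=
      (h.hc.pr_ker _ (mul_mem hqH hqH)).1 (by rw [h.hc.pr_mul _ hqH _ hqH, h.sq_W hqW])
    have hpow : q ^ (2 * (3 * 2 ^ 13)) = 1 := by
      have h1 : (⟨q * q, hq2⟩ : ↥(c.E ⊔ c.P)) ^ (3 * 2 ^ 13) = 1 := by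
        rw [← h.hc.cardN]; exact pow_card_eq_one'
      have h2 := congrArg Subtype.val h1
      rw [pow_mul, pow_two]
      simpa using h2
    have hkq : k * q * k⁻¹ = C.elt (aV n) (oE (n / 64)) *
        (C.elt 0 g * C.elt (aV n) (oE (n / 64)) * C.elt 0 g⁻¹) := by
      rw [show C.elt (aV n) (oE (n / 64)) = C.aEl n from rfl, e, C.elt_zero, C.elt_zero, map_inv, hq, hy]
      group
    rw [C.elt_mul isVec_zero (isVec_aV n), C.elt_mul (isVec_zero.xor (isVec_gact g (isVec_aV n)))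
      isVec_zero, C.elt_mul (isVec_aV n) ((isVec_zero.xor (isVec_gact g (isVec_aV n))).xor
        (isVec_gact _ isVec_zero))] at hkq
    obtain ⟨w, hw', ew⟩ := C.elt_pow ((isVec_aV n).xor (isVec_gact _
      ((isVec_zero.xor (isVec_gact g (isVec_aV n))).xor (isVec_gact _ isVec_zero))))
      (oE (n / 64) * (g * oE (n / 64) * g⁻¹)) (2 * (3 * 2 ^ 13))
    rw [← hkq, conj_pow, hpow, mul_one, mul_inv_cancel] at ew
    have h1 := (C.elt_eq_one hw' ew.symm).2
    have hoe : oE (n / 64) = gOf (oT m) := by rw [hm', oE]; simp only [oT, Nat.mod_mod]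
    have hC : Tab (witC m) ∧ gOf (witC m) = oE (n / 64) * (g * oE (n / 64) * g⁻¹) := by
      have a1 := hT'.mul (tab_oT m)
      have a2 := a1.1.mul hTi'
      have a3 := (tab_oT m).mul a2.1
      refine ⟨a3.1, ?_⟩
      rw [witC, a3.2, a2.2, a1.2, hgi, hoe]
    obtain ⟨hCT, hCe⟩ := hC
    rw [← hCe] at h1
    have h2 := hCT.mul hCT
    have h4 := h2.1.mul h2.1
    have h5' := hCT.mul h4.1
    have hfive : gOf (witC m) ^ 5 = 1 := by
      have : gOf (witC m) * (gOf (witC m) * gOf (witC m) * (gOf (witC m) * gOf (witC m))) = 1 := by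
        rw [← h2.2, ← h4.2, ← h5'.2, h5, tab_id.2]
      rw [← this, pow_succ, pow_succ, pow_succ, pow_succ, pow_one]
      simp only [mul_assoc]
    have hord : orderOf (gOf (witC m)) = 5 := by
      have : Fact (Nat.Prime 5) := ⟨Nat.prime_five⟩
      exact orderOf_eq_prime hfive fun e => hne (hCT.inj tab_id.1 (e.trans tab_id.2.symm))
    have := orderOf_dvd_iff_pow_eq_one.2 h1
    rw [hord] at this
    norm_num at this
  have hker : Nat.card A' = Nat.card B * Nat.card f.ker := by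
    rw [hB, ← Subgroup.index_ker f, mul_comm, Subgroup.card_mul_index]
  have hA'c : Nat.card A' = 1024 := by
    rw [hA', Subgroup.card_map_of_injective (MulAut.conj _).injective, C.card_A]
  have hpre : Nat.card ((B ⊓ W).comap f) = Nat.card ↥(B ⊓ W) * Nat.card f.ker := by
    set D := (B ⊓ W).comap f
    set g' : D →* ↥(B ⊓ W) := (f.comp D.subtype).codRestrict (B ⊓ W) (fun d => d.2) with hg'
    have hs : Function.Surjective g' := fun ⟨b, hb⟩ => by
      obtain ⟨x, hx⟩ := (mem_inf.1 hb).1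
      exact ⟨⟨x, show f x ∈ B ⊓ W by rw [hx]; exact hb⟩, Subtype.ext hx⟩
    have hk' : Nat.card g'.ker = Nat.card f.ker := by
      refine Nat.card_congr
        { toFun := fun d => ⟨d.1.1, congrArg Subtype.val (MonoidHom.mem_ker.1 d.2)⟩
          invFun := fun x => ⟨⟨x.1, show f x.1 ∈ B ⊓ W by
            rw [MonoidHom.mem_ker.1 x.2]; exact one_mem _⟩,
            MonoidHom.mem_ker.2 (Subtype.ext (MonoidHom.mem_ker.1 x.2))⟩
          left_inv := fun d => rfl
          right_inv := fun x => rfl }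
    rw [← hk', ← Subgroup.card_mul_index g'.ker, Subgroup.index_ker, MonoidHom.range_eq_top.2 hs,
      Subgroup.card_top, mul_comm]
  have h256 : Nat.card ((B ⊓ W).comap f) ≤ 256 := by
    set T := (Finset.range 1024).filter fun n => n / 64 % 16 ∈ [0, 1, 10, 11] with hTdef
    have hTc : T.card = 256 := by rw [hTdef]; decide +kernel
    choose n hn hne using fun x : (B ⊓ W).comap f => (C.mem_A).1 ((hmemA' _).1 x.1.2)
    have hnT : ∀ x, n x ∈ T := fun x => Finset.mem_filter.2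
      ⟨Finset.mem_range.2 (hn x), key x.1 (mem_inf.1 x.2).2 _ (hn x) (hne x)⟩
    rw [← hTc, ← Nat.card_eq_finsetCard T]
    refine Nat.card_le_card_of_injective (fun x => ⟨n x, hnT x⟩) fun a b e => ?_
    have e' : n a = n b := congrArg Subtype.val e
    have e'' := (hne a).symm.trans ((congrArg C.aEl e').trans (hne b))
    exact Subtype.ext (Subtype.ext (mul_left_cancel (mul_right_cancel e'')))
  have h4 : 4 * Nat.card ↥(B ⊓ W) ≤ Nat.card B := by
    refine Nat.le_of_mul_le_mul_right ?_ (Nat.card_pos (α := f.ker))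
    rw [mul_assoc, ← hpre, ← hker, hA'c]
    omega
  obtain ⟨β, hβ, hb⟩ := hW' B hBn hBe h4
  obtain ⟨hh, hhH, hhβ⟩ := h.hc.pr_surj β
  set A'' := C.A.map (MulAut.conj (hh⁻¹ * k⁻¹)).toMonoidHom with hA''
  have hA''N : A'' ≤ normalizer (C.V : Set G) := by
    intro z hz
    rw [hA'', Ctx.mem_conj_map] at hz
    have hx : hh * z * hh⁻¹ ∈ A' := (hmemA' _).2 (by
      convert hz using 1; group)
    have hxH := hA'H _ hx
    have hzH : z ∈ c.H := by
      rw [show z = hh⁻¹ * (hh * z * hh⁻¹) * hh by group]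
      exact mul_mem (mul_mem (inv_mem hhH) hxH) hhH
    have hpr := hb _ ⟨⟨_, hx⟩, rfl⟩
    have hzW : c.pr z ∈ normalizer (W : Set Aut) := by
      have he : f ⟨_, hx⟩ = c.pr (hh * z * hh⁻¹) := rfl
      rw [he, h.hc.pr_conj hhH hzH, hhβ] at hpr
      simpa [mul_assoc] using hpr
    rw [hV]
    exact (mem_inf.1 (h.NH_eq.le ⟨hzH, hzW⟩)).2
  have hA''sq : ∀ z ∈ A'', z * z = 1 := by
    rintro _ ⟨x, hx, rfl⟩
    rw [← map_mul, C.A_sq hx, map_one]
  have hA''c : Nat.card A'' = 1024 := by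
    rw [hA'', Subgroup.card_map_of_injective (MulAut.conj _).injective, C.card_A]
  rcases C.classify hA''N hA''sq hA''c.ge with hle'' | ⟨n, hn, hmap⟩
  · exfalso
    have hVA : C.V ≤ A'' := by
      intro v hv
      rw [hA'', Ctx.mem_conj_map]
      refine C.cent_A.le (mem_centralizer_iff.2 fun a ha => ?_)
      have ha' : hh⁻¹ * k⁻¹ * a * (hh⁻¹ * k⁻¹)⁻¹ ∈ C.V := hle'' ⟨a, ha, rfl⟩
      obtain ⟨p, hp, ep⟩ := (C.mem_V _).1 ha'
      obtain ⟨q, hq, eq'⟩ := (C.mem_V _).1 hv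
      have hc' := C.φ_comm hp hq
      rw [ep, eq'] at hc'
      calc a * ((hh⁻¹ * k⁻¹)⁻¹ * v * (hh⁻¹ * k⁻¹))
          = (hh⁻¹ * k⁻¹)⁻¹ * (hh⁻¹ * k⁻¹ * a * (hh⁻¹ * k⁻¹)⁻¹ * v) * (hh⁻¹ * k⁻¹) := by group
        _ = (hh⁻¹ * k⁻¹)⁻¹ * (v * (hh⁻¹ * k⁻¹ * a * (hh⁻¹ * k⁻¹)⁻¹)) * (hh⁻¹ * k⁻¹) := by rw [hc']
        _ = _ := by group
    have := Subgroup.card_le_of_le hVA
    rw [C.card_V, hA''c] at this
    norm_num at this
  · refine ⟨n * (hh⁻¹ * k⁻¹), C.mem_norm_A fun x hx => ?_, fun hgV => hβ ?_⟩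
    · rw [← hmap]
      exact ⟨_, ⟨x, hx, rfl⟩, by simp [mul_assoc]⟩
    · have h1 : hh⁻¹ ∈ normalizer (h.V : Set G) := by
        have hgV' : n * (hh⁻¹ * k⁻¹) ∈ normalizer (h.V : Set G) := hV ▸ hgV
        have hn' : n ∈ normalizer (h.V : Set G) := hV ▸ hn
        rw [show hh⁻¹ = n⁻¹ * (n * (hh⁻¹ * k⁻¹)) * k by group]
        exact mul_mem (mul_mem (inv_mem hn') hgV') hk
      rw [← hhβ]
      exact (h.NH_eq.ge (mem_inf.2 ⟨hhH, by simpa using inv_mem h1⟩)).2

end Cfsg.Agent.H85.JTen
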