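import Cfsg.Agent.H85.JTen.Coc
import Cfsg.Agent.H85.JTen.Coord

/-!
The pointwise stabiliser of an octad, its fixed vectors, and the standard elementary subgroup of
order 2^10 in the normaliser of the cocode.
-/

set_option autoImplicit false

namespace Cfsg.Agent.H85.JTen

open Cfsg Cfsg.Agent.Golay Cfsg.Agent.H94.M24

/-- The fixed vector of an index. -/
def aV (m : ℕ) : ℕ := combo aBasis (m % 64)

/-- The table of an index. -/
def oT (m : ℕ) : ℕ := oList.getD (m % 16) 0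

lemma oct_checks :
    ((List.range 16).all fun i => tabB (oT i) && (List.range 16).all fun j =>
      oT (i ^^^ j) == tblMul (oT i) (oT j)) = true ∧
    ((List.range 16).all fun i => aBasis.all fun a => act (oT i) a == a) = true ∧
    (aBasis.all fun a => vecList.contains a) = true ∧
    ((List.range 16).all fun i => (List.range 16).all fun j => i == j || !(oT i == oT j)) = true ∧
    ((List.range 64).all fun i => i == 0 || !(aV i == 0)) = true ∧ aBasis.length = 6 ∧
    oList = (List.range 16).map oT ∧ oGens = (List.range 4).map (fun i => oT (2 ^ i)) ∧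
    oT 0 = idTblVal := by
  decide +kernel

lemma tab_oT (m : ℕ) : Tab (oT m) := by
  have h := List.all_eq_true.1 oct_checks.1 (m % 16) (List.mem_range.2 (Nat.mod_lt _ (by norm_num)))
  rw [Bool.and_eq_true] at h
  have h' := tab_of h.1
  rw [oT, Nat.mod_mod] at h'
  exact h'

/-- The element of an index. -/
noncomputable def oE (m : ℕ) : ↥Cfsg.M24 := gOf (oT m)

lemma oT_xor (m n : ℕ) : oT (m ^^^ n) = tblMul (oT m) (oT n) := by
  have h := List.all_eq_true.1 oct_checks.1 (m % 16) (List.mem_range.2 (Nat.mod_lt _ (by norm_num)))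
  simp only [Bool.and_eq_true, List.all_eq_true, List.mem_range, beq_iff_eq] at h
  have h' := h.2 (n % 16) (Nat.mod_lt _ (by norm_num))
  simp only [oT, Nat.mod_mod] at h'
  rw [oT, show (m ^^^ n) % 16 = (m % 16) ^^^ (n % 16) from Nat.xor_mod_two_pow (n := 4)]
  have e : (m % 16 ^^^ n % 16) % 16 = m % 16 ^^^ n % 16 := Nat.mod_eq_of_lt
    (Nat.xor_lt_two_pow (n := 4) (Nat.mod_lt _ (by norm_num)) (Nat.mod_lt _ (by norm_num)))
  rw [e] at h'
  exact h'

lemma oE_xor (m n : ℕ) : oE (m ^^^ n) = oE m * oE n := by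
  rw [oE, oT_xor, ((tab_oT m).mul (tab_oT n)).2]; rfl

lemma oE_zero : oE 0 = 1 := by rw [oE, oct_checks.2.2.2.2.2.2.2.2, tab_id.2]

lemma oE_inj {m n : ℕ} (h : oE m = oE n) : m % 16 = n % 16 := by
  have ht := (tab_oT m).inj (tab_oT n) h
  have hc := oct_checks.2.2.2.1
  simp only [List.all_eq_true, List.mem_range, Bool.or_eq_true, beq_iff_eq, Bool.not_eq_true',
    beq_eq_false_iff_ne] at hc
  refine (hc (m % 16) (Nat.mod_lt _ (by norm_num)) (n % 16) (Nat.mod_lt _ (by norm_num))).resolve_right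
    fun e => e ?_
  simpa only [oT, Nat.mod_mod] using ht

lemma isVec_aBasis {a : ℕ} (h : a ∈ aBasis) : IsVec a :=
  List.contains_iff_mem.1 (List.all_eq_true.1 oct_checks.2.2.1 a h)

lemma isVec_aV (m : ℕ) : IsVec (aV m) := isVec_combo _ (fun _ h => isVec_aBasis h) _

lemma aV_xor (m n : ℕ) : aV (m ^^^ n) = aV m ^^^ aV n := by
  rw [aV, show (m ^^^ n) % 64 = (m % 64) ^^^ (n % 64) from Nat.xor_mod_two_pow (n := 6), combo_xor]
  rfl

lemma aV_zero : aV 0 = 0 := by decide +kernel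

lemma aV_inj {m n : ℕ} (h : aV m = aV n) : m % 64 = n % 64 := by
  have hx : aV (m ^^^ n) = 0 := by rw [aV_xor, h, Nat.xor_self]
  have hc := oct_checks.2.2.2.2.1
  simp only [List.all_eq_true, List.mem_range, Bool.or_eq_true, beq_iff_eq, Bool.not_eq_true',
    beq_eq_false_iff_ne] at hc
  have h64 : (m ^^^ n) % 64 < 64 := Nat.mod_lt _ (by norm_num)
  have h0 := (hc _ h64).resolve_right fun e => e (by rw [← hx]; simp only [aV, Nat.mod_mod])
  rw [show (m ^^^ n) % 64 = (m % 64) ^^^ (n % 64) from Nat.xor_mod_two_pow (n := 6),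
    Nat.xor_eq_zero_iff] at h0
  exact h0

lemma aV_mem_iff {v : ℕ} : (∃ m, aV m = v) ↔ v ∈ spanList aBasis := by
  constructor
  · rintro ⟨m, rfl⟩
    have h : ((List.range 64).all fun k => (spanList aBasis).contains (aV k)) = true := by
      decide +kernel
    have := List.contains_iff_mem.1
      (List.all_eq_true.1 h (m % 64) (List.mem_range.2 (Nat.mod_lt _ (by norm_num))))
    rwa [aV, Nat.mod_mod] at this
  · intro h
    refine spanList_induction (P := fun v => ∃ m, aV m = v) _ ⟨0, aV_zero⟩ (fun b hb => ?_)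
      (fun a b ⟨m, hm⟩ ⟨n, hn⟩ => ⟨m ^^^ n, by rw [aV_xor, hm, hn]⟩) v h
    have hb' : (aBasis.all fun a => ((List.range 64).map aV).contains a) = true := by decide +kernel
    obtain ⟨m, -, hm⟩ := List.mem_map.1 (List.contains_iff_mem.1 (List.all_eq_true.1 hb' b hb))
    exact ⟨m, hm⟩

lemma gact_oE_aV (m n : ℕ) : gact (oE m) (aV n) = aV n := by
  rw [oE, gact_gOf (tab_oT m)]
  have hm : m % 16 < 16 := Nat.mod_lt _ (by norm_num)
  have h := List.all_eq_true.1 oct_checks.2.1 (m % 16) (List.mem_range.2 hm)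
  simp only [List.all_eq_true, beq_iff_eq, oT, Nat.mod_mod] at h
  have hv := (tab_oT m).valid
  exact eq_on_span (g := id) (act_xor hv) (fun _ _ => rfl) h (aV_mem_iff.1 ⟨n, rfl⟩)

namespace Coc

variable {G : Type*} [Group G] (C : Coc G)

/-- The element with coordinates `n`. -/
noncomputable def aEl (n : ℕ) : G := C.elt (aV n) (oE (n / 64))

lemma aEl_xor (m n : ℕ) : C.aEl (m ^^^ n) = C.aEl m * C.aEl n := by
  rw [aEl, aEl, aEl, C.elt_mul (isVec_aV m) (isVec_aV n), gact_oE_aV, ← aV_xor, ← oE_xor,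
    show (m ^^^ n) / 64 = m / 64 ^^^ n / 64 from Nat.xor_div_two_pow (n := 6)]

lemma aEl_zero : C.aEl 0 = 1 := by
  rw [aEl, aV_zero, Nat.zero_div, oE_zero, elt_one, φ_zero]

lemma aEl_inj {m n : ℕ} (hm : m < 1024) (hn : n < 1024) (h : C.aEl m = C.aEl n) : m = n := by
  obtain ⟨h1, h2⟩ := C.elt_inj (isVec_aV m) (isVec_aV n) h
  have e1 := aV_inj h1
  have e2 := oE_inj h2
  rw [Nat.mod_eq_of_lt (show m / 64 < 16 by omega), Nat.mod_eq_of_lt (show n / 64 < 16 by omega)]
    at e2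
  omega

lemma aEl_sq (n : ℕ) : C.aEl n * C.aEl n = 1 := by rw [← aEl_xor, Nat.xor_self, aEl_zero]

/-- The standard elementary subgroup of order 2^10. -/
noncomputable def A : Subgroup G where
  carrier := {x | ∃ n < 1024, C.aEl n = x}
  mul_mem' := by
    rintro _ _ ⟨m, hm, rfl⟩ ⟨n, hn, rfl⟩
    exact ⟨m ^^^ n, Nat.xor_lt_two_pow (n := 10) hm hn, C.aEl_xor m n⟩
  one_mem' := ⟨0, by norm_num, C.aEl_zero⟩
  inv_mem' := by
    rintro _ ⟨m, hm, rfl⟩
    exact ⟨m, hm, (inv_eq_of_mul_eq_one_right (C.aEl_sq m)).symm⟩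

lemma mem_A {x : G} : x ∈ C.A ↔ ∃ n < 1024, C.aEl n = x := Iff.rfl

theorem card_A : Nat.card C.A = 1024 := by
  rw [← Nat.card_eq_of_bijective (fun n : Fin 1024 => (⟨C.aEl n, n, n.2, rfl⟩ : C.A))
    ⟨fun a b hab => Fin.ext (C.aEl_inj a.2 b.2 (congrArg Subtype.val hab)), fun x => ?_⟩]
  · simp
  · obtain ⟨n, hn, e⟩ := x.2
    exact ⟨⟨n, hn⟩, Subtype.ext e⟩

lemma A_le : C.A ≤ Subgroup.normalizer (C.V : Set G) := by
  rintro _ ⟨n, -, rfl⟩
  exact C.elt_mem (isVec_aV n) _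

lemma φ_mem_A {a : ℕ} (h : a ∈ spanList aBasis) : C.φ a ∈ C.A := by
  obtain ⟨m, rfl⟩ := aV_mem_iff.2 h
  refine ⟨m % 64, by omega, ?_⟩
  rw [aEl, Nat.div_eq_of_lt (Nat.mod_lt _ (by norm_num)), oE_zero, elt_one]
  simp only [aV, Nat.mod_mod]

lemma A_comm {x y : G} (hx : x ∈ C.A) (hy : y ∈ C.A) : x * y = y * x := by
  obtain ⟨m, -, rfl⟩ := hx
  obtain ⟨n, -, rfl⟩ := hy
  rw [← C.aEl_xor, ← C.aEl_xor, Nat.xor_comm]

lemma A_sq {x : G} (hx : x ∈ C.A) : x * x = 1 := by
  obtain ⟨m, -, rfl⟩ := hx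
  exact C.aEl_sq m

end Coc

end Cfsg.Agent.H85.JTen
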