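import Cfsg.Agent.H85.JTen.Coord

/-!
A depth-first search over elementary subgroups given by products of commuting involutions, bounding
order times the number of common fixed vectors.
-/

set_option autoImplicit false

namespace Cfsg.Agent.H85.JTen

open Cfsg.Agent.Golay Cfsg.Agent.H94.M24

/-- The byte of a row. -/
def byteAt (row i : ℕ) : ℕ := (row >>> (8 * i)) &&& 255

/-- The leaf test: few solutions, or the distinguished group with its fixed vectors. -/
def leafOK (O : ℕ) (al : List ℕ) (b E : List ℕ) : Bool :=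
  (b.length == 0) || Nat.blt ((b.length + 1) * 2) (2 ^ E.length) ||
    ((b.length == 15) && b.all O.testBit &&
      (List.range 2048).all fun k => (E.any fun e => dot 11 k e) || al.contains (vk k))

/-- The test of one candidate `j` at a node. -/
def kid (P : ℕ → ℕ) (Fn : ℕ → List ℕ) (next : List ℕ → List ℕ → List ℕ → Bool)
    (b C E : List ℕ) (j : ℕ) : Bool :=
  b.contains j || forceN (P j) fun row => forceL (b.map (byteAt row)) fun c =>
    (c.any fun q => q == 255 || (decide (q < j) && !b.contains q)) ||
      forceL ((Fn j).foldl insF E) fun E' => forceL (j :: (b ++ c)) fun b' =>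
        forceL (C.filter fun i => Nat.ble (j + 1) i && forceN (byteAt row i) fun q =>
          Nat.ble (i + 1) q && !(Nat.beq q 255)) fun C' =>
          next b' C' E'

/-- The search: `C` holds the candidates. -/
def srch (P : ℕ → ℕ) (Fn : ℕ → List ℕ) (O : ℕ) (al : List ℕ) :
    ℕ → List ℕ → List ℕ → List ℕ → Bool
  | 0, _, _, _ => false
  | fuel + 1, b, C, E => leafOK O al b E && C.all (kid P Fn (srch P Fn O al fuel) b C E)

theorem srch_sound {X : Type*} [Group X] (n : ℕ) (P : ℕ → ℕ) (Fn : ℕ → List ℕ) (O : ℕ)
    (al : List ℕ) (hn : n ≤ 255) (I K : Finset ℕ) (e : ℕ → X) (hI : ∀ i ∈ I, i < n)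
    (hK : ∀ k ∈ K, k < 2 ^ 11)
    (hFn : ∀ i ∈ I, ∀ f ∈ Fn i, f < 2 ^ 11 ∧ ∀ k ∈ K, dot 11 k f = false)
    (hinj : ∀ i ∈ I, ∀ j ∈ I, e i = e j → i = j) (hne : ∀ i ∈ I, e i ≠ 1)
    (hsq : ∀ i ∈ I, e i * e i = 1) (hcomm : ∀ i ∈ I, ∀ j ∈ I, e i * e j = e j * e i)
    (hmul : ∀ i ∈ I, ∀ j ∈ I, i ≠ j → byteAt (P i) j ∈ I ∧ e (byteAt (P i) j) = e i * e j) :
    ∀ (fuel : ℕ) (b C E : List ℕ), srch P Fn O al fuel b C E = true →
      (∀ i ∈ b, i ∈ I) → (∀ p ∈ b, ∀ q ∈ b, p ≠ q → ∃ r ∈ b, e r = e p * e q) →
      (∀ i ∈ I, i ∉ b → (∀ q ∈ b, i < byteAt (P q) i) → i ∈ C) → Sol E K →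
      I = ∅ ∨ K.card * (I.card + 1) < 1024 ∨
        (I.card ≤ 15 ∧ (∀ i ∈ I, O.testBit i = true) ∧ ∀ k ∈ K, vk k ∈ al)
  | 0, _, _, _, h, _, _, _, _ => by simp [srch] at h
  | fuel + 1, b, C, E, h, hb, hW, hC, hE => by
    simp only [srch, kid, Bool.and_eq_true, List.all_eq_true, Bool.or_eq_true, forceN_eq, forceL_eq,
      List.any_eq_true, decide_eq_true_eq, beq_iff_eq, List.contains_iff_mem,
      Bool.not_eq_true'] at h
    by_cases hex : ∃ i ∈ I, i ∉ b
    · classical
      obtain ⟨j, ⟨hjI, hjb⟩, hmin⟩ : ∃ j, (j ∈ I ∧ j ∉ b) ∧ ∀ i ∈ I, i ∉ b → j ≤ i :=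
        ⟨Nat.find hex, Nat.find_spec hex, fun i hi hib => Nat.find_min' hex ⟨hi, hib⟩⟩
      have hne' : ∀ q ∈ b, j ≠ q := fun q hq e' => hjb (by rw [e']; exact hq)
      have hc : ∀ q ∈ b.map (byteAt (P j)), q ∈ I := by
        intro q hq
        obtain ⟨i, hi, rfl⟩ := List.mem_map.1 hq
        exact (hmul j hjI i (hb i hi) (hne' i hi)).1
      have hout : ∀ p ∈ b, j < byteAt (P p) j := by
        intro p hp
        obtain ⟨h1, h2⟩ := hmul p (hb p hp) j hjI (hne' p hp).symm
        refine lt_of_le_of_ne (hmin _ h1 fun hr => ?_) fun e' => ?_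
        · by_cases hpr : p = byteAt (P p) j
          · exact hne j hjI (mul_left_cancel (a := e p) (by rw [← h2, ← hpr, mul_one]))
          · obtain ⟨r, hr', er⟩ := hW p hp _ hr hpr
            rw [h2, ← mul_assoc, hsq p (hb p hp), one_mul] at er
            exact hjb (hinj r (hb r hr') j hjI er ▸ hr')
        · rw [← e'] at h2
          exact hne p (hb p hp) (mul_right_cancel (b := e j) (by rw [← h2, one_mul]))
      rcases h.2 j (hC j hjI hjb hout) with h1 | ⟨q, hq, h1⟩ | h1
      · exact absurd h1 hjb
      · exfalso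
        rcases h1 with h1 | ⟨h1, h2⟩
        · have := hI q (hc q hq); omega
        · have hqb : q ∉ b := fun e => by
            rw [List.contains_iff_mem.2 e] at h2; exact Bool.noConfusion h2
          exact absurd (hmin q (hc q hq) hqb) (not_le.2 h1)
      · have hin : ∀ i ∈ j :: (b ++ b.map (byteAt (P j))), i ∈ I := by
          intro i hi
          simp only [List.mem_cons, List.mem_append] at hi
          rcases hi with e' | hi | hi
          · rw [e']; exact hjI
          · exact hb i hi
          · exact hc i hi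
        refine srch_sound n P Fn O al hn I K e hI hK hFn hinj hne hsq hcomm hmul fuel _ _ _ h1 hin
          ?_ (fun i hi hib hbig => ?_) (hE.foldl _ (hFn j hjI))
        · intro p hp q hq hpq
          have hW' : ∀ p ∈ j :: (b ++ b.map (byteAt (P j))), ∃ s a, (a = 1 ∨ ∃ r ∈ b, e r = a) ∧
              (s = 1 ∨ s = e j) ∧ e p = s * a := by
            intro p hp
            simp only [List.mem_cons, List.mem_append, List.mem_map] at hp
            rcases hp with rfl | hp | ⟨r, hr, rfl⟩
            · exact ⟨e p, 1, .inl rfl, .inr rfl, (mul_one _).symm⟩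
            · exact ⟨1, e p, .inr ⟨p, hp, rfl⟩, .inl rfl, (one_mul _).symm⟩
            · exact ⟨e j, e r, .inr ⟨r, hr, rfl⟩, .inr rfl,
                (hmul j hjI r (hb r hr) (hne' r hr)).2⟩
          obtain ⟨s, a, ha, hs, ep⟩ := hW' p hp
          obtain ⟨s', a', ha', hs', eq'⟩ := hW' q hq
          have haa : a * a' = 1 ∨ ∃ r ∈ b, e r = a * a' := by
            rcases ha with rfl | ⟨r, hr, rfl⟩
            · rw [one_mul]; exact ha'
            rcases ha' with rfl | ⟨r', hr', rfl⟩
            · rw [mul_one]; exact .inr ⟨r, hr, rfl⟩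
            by_cases hrr : r = r'
            · rw [hrr]; exact .inl (hsq r' (hb r' hr'))
            · exact .inr (hW r hr r' hr' hrr)
          have hcs : a * s' = s' * a := by
            rcases ha with rfl | ⟨r, hr, rfl⟩
            · rw [one_mul, mul_one]
            rcases hs' with rfl | rfl
            · rw [one_mul, mul_one]
            · exact hcomm r (hb r hr) j hjI
          have hss : s * s' = 1 ∨ s * s' = e j := by
            rcases hs with rfl | rfl <;> rcases hs' with rfl | rfl <;> simp [hsq j hjI]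
          have key : e p * e q = (s * s') * (a * a') := by
            rw [ep, eq', mul_assoc, ← mul_assoc a, hcs, mul_assoc s' a, ← mul_assoc s]
          rw [key]
          rcases hss with e1 | e1 <;> rw [e1]
          · rcases haa with e2 | ⟨r, hr, e2⟩
            · exfalso
              rw [e1, e2, one_mul] at key
              refine hpq (hinj p (hin p hp) q (hin q hq) ?_)
              calc e p = e p * (e q * e q) := by rw [hsq q (hin q hq), mul_one]
                _ = e q := by rw [← mul_assoc, key, one_mul]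
            · exact ⟨r, by simp [hr], by rw [e2, one_mul]⟩
          · rcases haa with e2 | ⟨r, hr, e2⟩
            · exact ⟨j, by simp, by rw [e2, mul_one]⟩
            · exact ⟨byteAt (P j) r, List.mem_cons_of_mem _ (List.mem_append_right _
                (List.mem_map.2 ⟨r, hr, rfl⟩)), by rw [← e2, (hmul j hjI r (hb r hr) (hne' r hr)).2]⟩
        · simp only [List.mem_cons, List.mem_append, not_or] at hib
          have hlt : j < i := lt_of_le_of_ne (hmin i hi hib.2.1) (Ne.symm hib.1)
          refine List.mem_filter.2 ⟨hC i hi hib.2.1 fun q hq => hbig q (by simp [hq]), ?_⟩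
          have hij : i < byteAt (P j) i := hbig j (by simp)
          have hne2 : byteAt (P j) i ≠ 255 := by
            have := hI _ (hmul j hjI i hi (Ne.symm hib.1)).1; omega
          rw [Bool.and_eq_true, Nat.ble_eq, Bool.and_eq_true, Nat.ble_eq,
            Bool.not_eq_true']
          exact ⟨hlt, hij, Bool.eq_false_iff.2 fun e => hne2 (Nat.eq_of_beq_eq_true e)⟩
    · push Not at hex
      have hcard : I.card ≤ b.length :=
        (Finset.card_le_card (fun i hi => List.mem_toFinset.2 (hex i hi))).trans
          (List.toFinset_card_le b)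
      have hleaf := h.1
      simp only [leafOK, Bool.or_eq_true, Bool.and_eq_true, beq_iff_eq, List.all_eq_true,
        List.mem_range, List.contains_iff_mem, List.any_eq_true] at hleaf
      rcases hleaf with (h0 | h0) | ⟨⟨h15, hO⟩, hal⟩
      · exact .inl (Finset.card_eq_zero.1 (by omega))
      · refine .inr (.inl ?_)
        have h0' : (b.length + 1) * 2 < 2 ^ E.length := Nat.le_of_ble_eq_true h0
        rcases Nat.eq_zero_or_pos K.card with e | e
        · rw [e]; norm_num
        have h1 := hE.card_le hK
        have h2 : K.card * ((I.card + 1) * 2) < K.card * 2 ^ E.length :=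
          Nat.mul_lt_mul_of_pos_left (by omega) e
        rw [← mul_assoc] at h2
        omega
      · refine .inr (.inr ⟨by omega, fun i hi => hO i (hex i hi), fun k hk => ?_⟩)
        rcases hal k (hK k hk) with ⟨e, he, he'⟩ | e
        · rw [hE.2 k hk e he] at he'; exact Bool.noConfusion he'
        · exact e

end Cfsg.Agent.H85.JTen
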