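import Cfsg.Agent.H85.JTen.Norm
import Cfsg.Agent.H85.JTen.CompData

/-!
Kernel checks on a subgroup of order 1024 of the normaliser meeting the standard subgroup trivially,
and on a subgroup of order 9.
-/

set_option autoImplicit false

namespace Cfsg.Agent.H85.JTen

open Cfsg Cfsg.Agent.Golay Cfsg.Agent.H94.M24

/-- The vector part. -/
def pW (x : ℕ) : ℕ := x % 2 ^ 24

/-- The table part. -/
def pT (x : ℕ) : ℕ := x / 2 ^ 24

/-- The member of an index. -/
def compAt (c : ℕ) : ℕ := (compRows.getD (c / 32) []).getD (c % 32) 0

/-- The translation part of a generator. -/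
def cW (k : ℕ) : ℕ := compW.getD k 0

/-- The table part of a generator. -/
def cT (k : ℕ) : ℕ := compT.getD k 0

/-- Right multiplication by a generator. -/
def cStep (x k : ℕ) : ℕ := tblMul (pT x) (cT k) * 2 ^ 24 + (pW x ^^^ act (pT x) (cW k))

lemma comp_rows : (((List.range 1024).zip compList).all fun x => compAt x.1 == x.2) = true ∧
    compList.length = 1024 ∧ compNext.length = 1024 ∧ compPar.length = 1024 := by
  decide +kernel

lemma comp_gens : ((List.range 4).all fun k => tabB (cT k) && vecList.contains (cW k) &&
    forceL ((compMaps.drop (10 * k)).take 10) fun M => (M.length == 10) &&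
      (List.range 10).all fun b => mapStep (cW k) (cT k) b (M.getD b 0)) = true := by
  decide +kernel

lemma comp_next : ((compList.zip compNext).all fun x => (List.range 4).all fun k =>
    forceN ((x.2 >>> (16 * k)) &&& 65535) fun c =>
      decide (c < 1024) && (compAt c == cStep x.1 k)) = true := by
  decide +kernel

lemma comp_par : (((List.range 1024).zip (compList.zip compPar)).all fun x =>
    x.1 == 0 || forceN x.2.2 fun p =>
      decide (p / 16 < x.1) && decide (p % 16 < 4) &&
        (x.2.1 == cStep (compAt (p / 16)) (p % 16))) = true ∧
    pT (compAt 0) = idTblVal ∧ pW (compAt 0) = 0 := by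
  decide +kernel

lemma comp_nodup : nodupB compList = true := by decide +kernel

lemma comp_meet : (forceL aList fun al => ((List.range 1024).zip compList).all fun x =>
    x.1 == 0 || !(oList.contains (pT x.2) && al.contains (pW x.2))) = true := by
  decide +kernel

lemma nine_ok :
    ((List.range 9).all fun k => forceN (nineList.getD k 0) fun T => tabB T &&
      forceL ((nineMaps.drop (10 * k)).take 10) fun M => (M.length == 10) &&
        (List.range 10).all fun b => mapStep 0 T b (M.getD b 0)) = true ∧
    (nineList.all fun s => nineList.all fun t => nineList.contains (tblMul s t)) = true ∧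
    (nineList.all fun s => (s == idTblVal || !oList.contains s) &&
      (tblMul s (tblMul s s) == idTblVal)) = true ∧
    nineList.length = 9 ∧ nodupB nineList = true ∧ nineList.contains idTblVal = true := by
  decide +kernel

end Cfsg.Agent.H85.JTen
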