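import Cfsg.Agent.H85.JTen.Linear
import Cfsg.Agent.H85.JTen.SplitChk
import Cfsg.Agent.S0051

/-!
The normaliser of the standard subgroup is a split extension by the special linear group of
dimension 5, acting irreducibly.
-/

set_option autoImplicit false

namespace Cfsg.Agent.H85.JTen

open Cfsg Cfsg.Agent.Golay Cfsg.Agent.H94.M24

attribute [local irreducible] orb0 orb1 orb2 orb3 maskOf tblMul mkTbl tblImg compList compRows compNext compPar compW compT
  compMaps nineList nineMaps oList aBasis cStep compAt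

namespace Coc

variable {G : Type*} [Group G] (C : Coc G)

lemma mem_norm_of_steps {w T : ℕ} (hw : IsVec w) (hT : Tab T) {M : List ℕ}
    (h : ∀ b < 10, mapStep w T b (M.getD b 0) = true) :
    C.elt w (gOf T) ∈ Subgroup.normalizer (C.A : Set G) := by
  refine C.mem_norm_A fun x ⟨n, hn, e⟩ => e ▸ ?_
  refine xor_bits_induction (P := fun n => C.elt w (gOf T) * C.aEl n * (C.elt w (gOf T))⁻¹ ∈ C.A)
    (by rw [aEl_zero, mul_one, mul_inv_cancel]; exact one_mem _) (fun a b ha hb => ?_) 10
    (fun b hb => ?_) n hn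
  · have h' := mul_mem ha hb
    rwa [conj_mul, ← aEl_xor] at h'
  · have hs := h b hb
    simp only [mapStep, Bool.and_eq_true, decide_eq_true_eq, forceN_eq, beq_iff_eq] at hs
    obtain ⟨hlt, h1, h2⟩ := hs
    refine ⟨_, hlt, ?_⟩
    rw [eq_mul_inv_iff_mul_eq, aEl, aEl, C.elt_mul hw (isVec_aV _), C.elt_mul (isVec_aV _) hw]
    have e1 : gOf T * oE (2 ^ b / 64) = oE (M.getD b 0 / 64) * gOf T := by
      rw [oE, oE, ← (hT.mul (tab_oT _)).2, h1, ((tab_oT _).mul hT).2]
    rw [e1]
    congr 1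
    rw [gact_gOf hT, oE, gact_gOf (tab_oT _), ← h2, Nat.xor_assoc _ (act (oT _) _),
      Nat.xor_self, Nat.xor_zero]

/-- The element of a packed pair. -/
noncomputable def pEl (x : ℕ) : G := C.elt (pW x) (gOf (pT x))

/-- The gens of the small complement. -/
def compGens : Set G := {x | ∃ k < 4, C.elt (cW k) (gOf (cT k)) = x}

lemma comp_gen_facts {k : ℕ} (hk : k < 4) : Tab (cT k) ∧ IsVec (cW k) ∧
    C.elt (cW k) (gOf (cT k)) ∈ Subgroup.normalizer (C.A : Set G) := by
  have h := comp_gens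
  simp only [List.all_eq_true, List.mem_range, Bool.and_eq_true, forceL_eq, beq_iff_eq,
    List.contains_iff_mem] at h
  obtain ⟨⟨hT, hw⟩, -, hb⟩ := h k hk
  exact ⟨tab_of hT, hw, C.mem_norm_of_steps hw (tab_of hT) hb⟩

lemma compAt_mem {c : ℕ} (hc : c < 1024) : compAt c ∈ compList := by
  obtain ⟨h, hl, -, -⟩ := comp_rows
  have hm : (c, compList[c]'(by omega)) ∈ (List.range 1024).zip compList :=
    List.mem_iff_getElem.2 ⟨c, by simp [hl, hc], by simp⟩
  have he := eq_of_beq (List.all_eq_true.1 h _ hm)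
  simp only at he
  rw [he]
  exact List.getElem_mem _

lemma exists_compAt {x : ℕ} (hx : x ∈ compList) : ∃ c < 1024, compAt c = x := by
  obtain ⟨h, hl, -, -⟩ := comp_rows
  obtain ⟨c, hc, rfl⟩ := List.getElem_of_mem hx
  refine ⟨c, hl ▸ hc, ?_⟩
  exact eq_of_beq (List.all_eq_true.1 h (c, compList[c])
    (List.mem_iff_getElem.2 ⟨c, by simp [hl]; omega, by simp⟩))

lemma cStep_spec {x k : ℕ} (hk : k < 4) (hT : Tab (pT x)) (hw : IsVec (pW x)) :
    Tab (pT (cStep x k)) ∧ IsVec (pW (cStep x k)) ∧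
      C.pEl (cStep x k) = C.pEl x * C.elt (cW k) (gOf (cT k)) := by
  obtain ⟨hTk, hwk, -⟩ := C.comp_gen_facts hk
  have hv : IsVec (pW x ^^^ act (pT x) (cW k)) := hw.xor (isVec_act hT.valid hwk)
  have hlt : pW x ^^^ act (pT x) (cW k) < 2 ^ 24 := hv.spec.1
  have e1 : pT (cStep x k) = tblMul (pT x) (cT k) := by
    unfold cStep pT
    rw [Nat.add_comm, Nat.add_mul_div_right _ _ (by norm_num : 0 < 2 ^ 24)]
    rw [Nat.div_eq_of_lt (show pW x ^^^ act (x / 2 ^ 24) (cW k) < 2 ^ 24 from hlt), Nat.zero_add]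
  have e2 : pW (cStep x k) = pW x ^^^ act (pT x) (cW k) := by
    show cStep x k % 2 ^ 24 = _
    unfold cStep
    rw [Nat.add_comm, Nat.add_mul_mod_self_right, Nat.mod_eq_of_lt hlt]
  refine ⟨e1 ▸ (hT.mul hTk).1, e2 ▸ hv, ?_⟩
  rw [pEl, pEl, e1, e2, C.elt_mul hw hwk, gact_gOf hT, (hT.mul hTk).2]

lemma comp_reach (c : ℕ) (hc : c < 1024) : Tab (pT (compAt c)) ∧ IsVec (pW (compAt c)) ∧
    C.pEl (compAt c) ∈ Subgroup.closure (C.compGens) := by
  obtain ⟨hpar, h0, h0'⟩ := comp_par
  simp only [List.all_eq_true, Bool.or_eq_true, beq_iff_eq, forceN_eq, Bool.and_eq_true,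
    decide_eq_true_eq] at hpar
  induction c using Nat.strong_induction_on with
  | _ c ih =>
    by_cases e : c = 0
    · subst e
      rw [pEl, h0, h0', tab_id.2, elt_one, φ_zero]
      exact ⟨tab_id.1, isVec_zero, one_mem _⟩
    · obtain ⟨hr, hl, -, hp⟩ := comp_rows
      have hm : (c, compList[c]'(by omega), compPar[c]'(by omega)) ∈
          (List.range 1024).zip (compList.zip compPar) :=
        List.mem_iff_getElem.2 ⟨c, by simp [hl, hp, hc], by simp⟩
      rcases hpar _ hm with h | ⟨⟨h1, h2⟩, h3⟩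
      · exact absurd h e
      simp only at h1 h2 h3
      have hat : compAt c = compList[c]'(by omega) := eq_of_beq (List.all_eq_true.1 hr
        (c, compList[c]'(by omega)) (List.mem_iff_getElem.2 ⟨c, by simp [hl, hc], by simp⟩))
      obtain ⟨a, b, d⟩ := ih _ h1 (h1.trans hc)
      obtain ⟨a', b', d'⟩ := C.cStep_spec h2 a b
      rw [hat, h3, d']
      exact ⟨a', b', mul_mem d (Subgroup.subset_closure ⟨_, h2, rfl⟩)⟩

variable [Finite G]

lemma mem_compGrp {y : G} : y ∈ Subgroup.closure (C.compGens) ↔ ∃ c < 1024, C.pEl (compAt c) = y := by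
  constructor
  · intro hy
    rw [← Subgroup.mem_toSubmonoid, Subgroup.closure_toSubmonoid_of_finite] at hy
    induction hy using Submonoid.closure_induction_right with
    | one =>
      obtain ⟨-, h0, h0'⟩ := comp_par
      exact ⟨0, by norm_num, by rw [pEl, h0, h0', tab_id.2, elt_one, φ_zero]⟩
    | mul_right u _ v hv ih =>
      obtain ⟨c, hc, rfl⟩ := ih
      obtain ⟨k, hk, rfl⟩ := hv
      obtain ⟨hr, hl, hn, -⟩ := comp_rows
      have hm : (compList[c]'(by omega), compNext[c]'(by omega)) ∈ compList.zip compNext :=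
        List.mem_iff_getElem.2 ⟨c, by simp [hl, hn, hc], by simp⟩
      have h := comp_next
      simp only [List.all_eq_true, List.mem_range, forceN_eq, Bool.and_eq_true, decide_eq_true_eq,
        beq_iff_eq] at h
      obtain ⟨h1, h2⟩ := h _ hm k hk
      refine ⟨_, h1, ?_⟩
      simp only at h2
      have hat : compAt c = compList[c]'(by omega) := eq_of_beq (List.all_eq_true.1 hr
        (c, compList[c]'(by omega)) (List.mem_iff_getElem.2 ⟨c, by simp [hl, hc], by simp⟩))
      obtain ⟨a, b, -⟩ := C.comp_reach c hc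
      rw [h2, ← hat, (C.cStep_spec hk a b).2.2]
  · rintro ⟨c, hc, rfl⟩
    exact (C.comp_reach c hc).2.2

lemma compGrp_le : Subgroup.closure (C.compGens) ≤ Subgroup.normalizer (C.A : Set G) :=
  (Subgroup.closure_le _).2 fun _ ⟨_, hk, e⟩ => e ▸ (C.comp_gen_facts hk).2.2

lemma compGrp_inf {y : G} (hy : y ∈ Subgroup.closure (C.compGens)) (hA : y ∈ C.A) : y = 1 := by
  obtain ⟨c, hc, rfl⟩ := C.mem_compGrp.1 hy
  obtain ⟨n, hn, e⟩ := hA
  obtain ⟨a, b, -⟩ := C.comp_reach c hc
  obtain ⟨hr, hl, -, -⟩ := comp_rows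
  have hm : (c, compList[c]'(by omega)) ∈ (List.range 1024).zip compList :=
    List.mem_iff_getElem.2 ⟨c, by simp [hl, hc], by simp⟩
  have hat := eq_of_beq (List.all_eq_true.1 hr _ hm)
  have h := comp_meet
  simp only [forceL_eq, List.all_eq_true, Bool.or_eq_true, beq_iff_eq, Bool.not_eq_true',
    Bool.and_eq_false_iff] at h
  rcases h _ hm with h | h
  · obtain ⟨-, h0, h0'⟩ := comp_par
    simp only at h
    rw [h, pEl, h0, h0', tab_id.2, elt_one, φ_zero]
  · exfalso
    simp only at h hat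
    rw [← hat] at h
    obtain ⟨e1, e2⟩ := C.elt_inj (isVec_aV n) b e
    have hT : oT (n / 64) = pT (compAt c) := (tab_oT _).inj a e2
    rcases h with h | h
    · rw [Bool.eq_false_iff, Ne, List.contains_iff_mem, ← hT, oct_checks.2.2.2.2.2.2.1,
        List.mem_map] at h
      refine h ⟨n / 64 % 16, List.mem_range.2 (Nat.mod_lt _ (by norm_num)), ?_⟩
      simp only [oT, Nat.mod_mod]
    · rw [Bool.eq_false_iff, Ne, List.contains_iff_mem, ← e1] at h
      exact h (aV_mem_iff.1 ⟨n, rfl⟩)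

lemma card_compGrp : Nat.card (Subgroup.closure (C.compGens)) = 1024 := by
  obtain ⟨hr, hl, -, -⟩ := comp_rows
  rw [← Nat.card_eq_of_bijective
    (fun c : Fin 1024 => (⟨C.pEl (compAt c), (C.comp_reach c c.2).2.2⟩ :
      Subgroup.closure (C.compGens))) ⟨fun i j e => ?_, fun y => ?_⟩]
  · simp
  · obtain ⟨a, b, -⟩ := C.comp_reach i i.2
    obtain ⟨a', b', -⟩ := C.comp_reach j j.2
    obtain ⟨e1, e2⟩ := C.elt_inj b b' (congrArg Subtype.val e)
    have e3 : compAt i = compAt j := by
      rw [← Nat.div_add_mod' (compAt i) (2 ^ 24), ← Nat.div_add_mod' (compAt j) (2 ^ 24)]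
      exact congrArg₂ (fun p q => p * 2 ^ 24 + q) (a.inj a' e2) e1
    have hat : ∀ k : Fin 1024, compAt k = compList[(k : ℕ)]'(by omega) := fun k =>
      eq_of_beq (List.all_eq_true.1 hr ((k : ℕ), compList[(k : ℕ)]'(by omega))
        (List.mem_iff_getElem.2 ⟨k, by simp [hl], by simp⟩))
    rw [hat, hat] at e3
    exact Fin.ext ((nodupB_sound _ comp_nodup).getElem_inj_iff.1 e3)
  · obtain ⟨c, hc, e⟩ := C.mem_compGrp.1 y.2
    exact ⟨⟨c, hc⟩, Subtype.ext e⟩

/-- The subgroup of order 9. -/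
noncomputable def nineGrp : Subgroup G where
  carrier := {x | ∃ t ∈ nineList, C.κ (gOf t) = x}
  mul_mem' := by
    rintro _ _ ⟨s, hs, rfl⟩ ⟨t, ht, rfl⟩
    obtain ⟨h, hcl, -⟩ := nine_ok
    simp only [List.all_eq_true, List.contains_iff_mem] at hcl
    have hts : ∀ u ∈ nineList, Tab u := fun u hu => by
      obtain ⟨i, hi, rfl⟩ := List.getElem_of_mem hu
      simp only [List.all_eq_true, List.mem_range, forceN_eq, Bool.and_eq_true] at h
      have := (h i (nine_ok.2.2.2.1 ▸ hi)).1
      rw [List.getD_eq_getElem _ _ hi] at this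
      exact tab_of this
    exact ⟨_, hcl s hs t ht, by rw [((hts s hs).mul (hts t ht)).2, map_mul]⟩
  one_mem' := ⟨idTblVal, List.contains_iff_mem.1 nine_ok.2.2.2.2.2, by rw [tab_id.2, map_one]⟩
  inv_mem' := by
    rintro _ ⟨s, hs, rfl⟩
    obtain ⟨h, hcl, h3, -⟩ := nine_ok
    simp only [List.all_eq_true, List.contains_iff_mem] at hcl
    simp only [List.all_eq_true, Bool.and_eq_true, beq_iff_eq] at h3
    have hts : Tab s := by
      obtain ⟨i, hi, rfl⟩ := List.getElem_of_mem hs
      simp only [List.all_eq_true, List.mem_range, forceN_eq, Bool.and_eq_true] at h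
      have := (h i (nine_ok.2.2.2.1 ▸ hi)).1
      rw [List.getD_eq_getElem _ _ hi] at this
      exact tab_of this
    refine ⟨_, hcl s hs s hs, ?_⟩
    refine (inv_eq_of_mul_eq_one_right ?_).symm
    rw [← map_mul, (hts.mul hts).2, ← (hts.mul hts).2, ← (hts.mul (hts.mul hts).1).2, (h3 s hs).2,
      tab_id.2, map_one]

lemma nine_mem {x : G} (hx : x ∈ C.nineGrp) :
    x ∈ Subgroup.normalizer (C.A : Set G) ∧ (x ∈ C.A → x = 1) := by
  obtain ⟨s, hs, rfl⟩ := hx
  obtain ⟨h, -, h3, hlen, -, -⟩ := nine_ok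
  obtain ⟨i, hi, rfl⟩ := List.getElem_of_mem hs
  simp only [List.all_eq_true, List.mem_range, forceN_eq, Bool.and_eq_true, forceL_eq,
    beq_iff_eq] at h
  obtain ⟨hT, -, hb⟩ := h i (hlen ▸ hi)
  rw [List.getD_eq_getElem _ _ hi] at hT hb
  refine ⟨?_, ?_⟩
  · rw [← C.elt_zero]; exact C.mem_norm_of_steps isVec_zero (tab_of hT) hb
  · rintro ⟨n, -, e⟩
    rw [← C.elt_zero] at e
    have e2 := (tab_oT _).inj (tab_of hT) (C.elt_inj (isVec_aV n) isVec_zero e).2
    simp only [List.all_eq_true, Bool.and_eq_true, Bool.or_eq_true, beq_iff_eq,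
      Bool.not_eq_true'] at h3
    rcases (h3 _ hs).1 with h | h
    · rw [h, tab_id.2, map_one]
    · exfalso
      rw [Bool.eq_false_iff, Ne, List.contains_iff_mem, ← e2, oct_checks.2.2.2.2.2.2.1,
        List.mem_map] at h
      exact h ⟨n / 64 % 16, List.mem_range.2 (Nat.mod_lt _ (by norm_num)), by simp only [oT, Nat.mod_mod]⟩

lemma card_nineGrp : Nat.card C.nineGrp = 9 := by
  obtain ⟨h, -, -, hlen, hnd, -⟩ := nine_ok
  simp only [List.all_eq_true, List.mem_range, forceN_eq, Bool.and_eq_true] at h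
  rw [← hlen, ← List.toFinset_card_of_nodup (nodupB_sound _ hnd), ← Nat.card_eq_finsetCard]
  refine (Nat.card_eq_of_bijective
    (fun t => ⟨C.κ (gOf t.1), t.1, List.mem_toFinset.1 t.2, rfl⟩) ⟨fun a b e => ?_, fun x => ?_⟩).symm
  · have hts : ∀ u ∈ nineList, Tab u := fun u hu => by
      obtain ⟨i, hi, rfl⟩ := List.getElem_of_mem hu
      have := (h i (hlen ▸ hi)).1
      rw [List.getD_eq_getElem _ _ hi] at this
      exact tab_of this
    have e' : C.κ (gOf a.1) = C.κ (gOf b.1) := congrArg Subtype.val e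
    rw [← C.elt_zero, ← C.elt_zero] at e'
    exact Subtype.ext ((hts _ (List.mem_toFinset.1 a.2)).inj (hts _ (List.mem_toFinset.1 b.2))
      (C.elt_inj isVec_zero isVec_zero e').2)
  · obtain ⟨t, ht, e⟩ := x.2
    exact ⟨⟨t, List.mem_toFinset.2 ht⟩, Subtype.ext e⟩

variable (hmove : C.Moves)
include hmove

/-- The map to the linear group is onto, and the standard subgroup has index 9999360. -/
theorem toSL_index : Function.Surjective (C.toSL hmove) ∧
    (C.A.subgroupOf (Subgroup.normalizer (C.A : Set G))).index = 9999360 := by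
  classical
  have : Fact (Nat.Prime 2) := ⟨Nat.prime_two⟩
  set N := Subgroup.normalizer (C.A : Set G) with hN
  set θ := C.toSL hmove
  set K := C.A.subgroupOf N with hK
  have hker : θ.ker ≤ K := fun g hg => C.toSL_ker hmove g hg
  have hrange : Nat.card θ.range ∣ 9999360 := card_SL_five ▸ θ.range.card_subgroup_dvd_card
  have hcardK : Nat.card K = 1024 := by
    rw [hK, Nat.card_congr (Subgroup.subgroupOfEquivOfLe Subgroup.le_normalizer).toEquiv, C.card_A]
  have hN' : Nat.card N = 1024 * K.index := by rw [← K.card_mul_index, hcardK]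
  have hidx : θ.ker.index = Nat.card θ.range := Subgroup.index_ker θ
  have small : ∀ D : Subgroup G, D ≤ N → (∀ x ∈ D, x ∈ C.A → x = 1) →
      Nat.card D ∣ Nat.card θ.range := by
    intro D hD hinf
    set f : D →* θ.range := θ.rangeRestrict.comp (Subgroup.inclusion hD)
    refine Subgroup.card_dvd_of_injective f ?_
    rw [injective_iff_map_eq_one]
    intro d hd
    exact Subtype.ext (hinf d d.2 (C.toSL_ker hmove _ (congrArg Subtype.val hd)))
  have h1024 : 1024 ∣ Nat.card θ.range :=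
    C.card_compGrp ▸ small _ C.compGrp_le fun x => C.compGrp_inf
  have h9 : 9 ∣ Nat.card θ.range :=
    C.card_nineGrp ▸ small _ (fun x hx => (C.nine_mem hx).1) fun x hx => (C.nine_mem hx).2 
  have orb : ∀ s < 1024, ∀ k,
      Set.ncard {v : G | ∃ n ∈ N, n * C.aEl s * n⁻¹ = v} = k → k ∣ K.index := by
    intro s hs k hk
    set P : Subgroup N := (Subgroup.centralizer ({C.aEl s} : Set G)).subgroupOf N
    have hKP : K ≤ P := fun x hx => Subgroup.mem_centralizer_singleton_iff.2
      (C.A_comm hx ⟨s, hs, rfl⟩)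
    refine dvd_trans (dvd_of_eq ?_) (Subgroup.index_dvd_of_le hKP)
    have hbij : Function.Bijective (fun q : N ⧸ P => Quotient.liftOn' q
        (fun n => (⟨n * C.aEl s * (n : G)⁻¹, n, n.2, rfl⟩ :
          {v : G | ∃ n ∈ N, n * C.aEl s * n⁻¹ = v}))
        fun a b hab => Subtype.ext (by
          rw [QuotientGroup.leftRel_apply] at hab
          have hc := Subgroup.mem_centralizer_singleton_iff.1 hab
          simp only [Subgroup.coe_mul, InvMemClass.coe_inv, Subgroup.coe_subtype] at hc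
          show (a : G) * C.aEl s * (a : G)⁻¹ = (b : G) * C.aEl s * (b : G)⁻¹
          calc (a : G) * C.aEl s * (a : G)⁻¹
              = (a : G) * (C.aEl s * ((a : G)⁻¹ * b)) * (b : G)⁻¹ := by group
            _ = (a : G) * (((a : G)⁻¹ * b) * C.aEl s) * (b : G)⁻¹ := by rw [hc]
            _ = (b : G) * C.aEl s * (b : G)⁻¹ := by group)) := by
      refine ⟨fun a b => ?_, fun ⟨v, n, hn, e⟩ => ⟨QuotientGroup.mk ⟨n, hn⟩, Subtype.ext e⟩⟩
      induction a using QuotientGroup.induction_on
      induction b using QuotientGroup.induction_on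
      rename_i a b
      intro e
      have e' : (a : G) * C.aEl s * (a : G)⁻¹ = (b : G) * C.aEl s * (b : G)⁻¹ :=
        congrArg Subtype.val e
      refine QuotientGroup.eq.2 (Subgroup.mem_centralizer_singleton_iff.2 ?_)
      show (a : G)⁻¹ * b * C.aEl s = C.aEl s * ((a : G)⁻¹ * b)
      calc (a : G)⁻¹ * b * C.aEl s = (a : G)⁻¹ * ((b : G) * C.aEl s * (b : G)⁻¹) * b := by group
        _ = (a : G)⁻¹ * ((a : G) * C.aEl s * (a : G)⁻¹) * b := by rw [e']
        _ = _ := by group
    rw [← hk, ← Nat.card_coe_set_eq, ← Nat.card_eq_of_bijective _ hbij]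
    rfl
  have hle : K.index ≤ Nat.card θ.range ∧ K.index ∣ Nat.card θ.range := by
    have h := Subgroup.index_dvd_of_le hker
    rw [hidx] at h
    exact ⟨Nat.le_of_dvd Nat.card_pos h, h⟩
  obtain ⟨hz, ht⟩ := C.orbit_lengths hmove
  have hsz : sZ < 1024 ∧ sT < 1024 := by decide +kernel
  have h155 := (orb _ hsz.1 _ hz).trans hle.2
  have h868 := (orb _ hsz.2 _ ht).trans hle.2
  have hall : 9999360 ∣ Nat.card θ.range := by
    have h31 : 31 ∣ Nat.card θ.range := (by norm_num : 31 ∣ 155).trans h155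
    have h5 : 5 ∣ Nat.card θ.range := (by norm_num : 5 ∣ 155).trans h155
    have h7 : 7 ∣ Nat.card θ.range := (by norm_num : 7 ∣ 868).trans h868
    exact Nat.Coprime.mul_dvd_of_dvd_of_dvd (show Nat.Coprime (1024 * 9 * 5 * 7) 31 by norm_num)
      (Nat.Coprime.mul_dvd_of_dvd_of_dvd (show Nat.Coprime (1024 * 9 * 5) 7 by norm_num)
        (Nat.Coprime.mul_dvd_of_dvd_of_dvd (show Nat.Coprime (1024 * 9) 5 by norm_num)
          (Nat.Coprime.mul_dvd_of_dvd_of_dvd (by norm_num) h1024 h9) h5) h7) h31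
  have hrc : Nat.card θ.range = 9999360 := Nat.dvd_antisymm hrange hall
  refine ⟨?_, ?_⟩
  · rw [← MonoidHom.range_eq_top]
    exact Subgroup.eq_top_of_card_eq _ (by rw [hrc, card_SL_five])
  · have hKk : K ≤ θ.ker := by
      intro g hg
      have hid : ∀ n < 1024, C.cmap (g : G) n = n := fun n hn => by
        refine C.aEl_inj (C.cmap_spec g.2 hn).1 hn ?_
        rw [(C.cmap_spec g.2 hn).2, C.A_comm (show (g : G) ∈ C.A from hg) ⟨n, hn, rfl⟩,
          mul_inv_cancel_right]
      have hc : Carries (C.cmap (g : G)) id :=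
        ⟨rfl, fun e he h0 => ⟨he, h0, fun n hn hb => by rw [hid n hn]; exact hb⟩⟩
      refine Subtype.ext ?_
      show C.mat hmove g = 1
      rw [mat, ← LinearMap.toMatrix'_id]
      congr 1
      refine LinearMap.ext fun v => ?_
      rw [relabel_apply, LinearMap.id_apply,
        (C.perm31_spec hmove g.2).unique (C.qMap hmove g.2) hc (num5_facts.1 v).1]
      exact (num5_facts.1 v).2
    rw [le_antisymm hKk hker, hidx, hrc]

/-- A complement isomorphic to the special linear group. -/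
theorem exists_complement :
    ∃ B : Subgroup G, B ≤ Subgroup.normalizer (C.A : Set G) ∧ B ⊓ C.A = ⊥ ∧
      B ⊔ C.A = Subgroup.normalizer (C.A : Set G) ∧
      Nonempty (↥B ≃* Matrix.SpecialLinearGroup (Fin 5) (ZMod 2)) := by
  classical
  obtain ⟨hsurj, hindex⟩ := C.toSL_index hmove
  set N := Subgroup.normalizer (C.A : Set G) with hN
  set K := C.A.subgroupOf N with hK
  have : K.Normal := Subgroup.normal_subgroupOf_iff_le_normalizer Subgroup.le_normalizer |>.2 le_rfl
  have : IsMulCommutative K := ⟨⟨fun a b => Subtype.ext (Subtype.ext (C.A_comm a.2 b.2))⟩⟩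
  set D := (Subgroup.closure C.compGens).subgroupOf N
  have hcardK : Nat.card K = 1024 := by
    rw [hK, Nat.card_congr (Subgroup.subgroupOfEquivOfLe Subgroup.le_normalizer).toEquiv, C.card_A]
  have hcardD : Nat.card D = 1024 :=
    (Nat.card_congr (Subgroup.subgroupOfEquivOfLe C.compGrp_le).toEquiv).trans C.card_compGrp
  have hDK : D ⊓ K = ⊥ := (Subgroup.eq_bot_iff_forall _).2 fun x hx =>
    Subtype.ext (C.compGrp_inf hx.1 hx.2)
  set U := K ⊔ D with hU
  have hUindex : U.index ∣ 9765 := by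
    have hcardN : Nat.card N = 1024 * 9999360 := by rw [← hindex, ← K.card_mul_index, hcardK]
    have hUle : 1024 * 1024 ≤ Nat.card U := by
      have hinj : Function.Injective fun p : K × D =>
          (⟨(p.1 : N) * p.2, mul_mem (Subgroup.mem_sup_left p.1.2) (Subgroup.mem_sup_right p.2.2)⟩ : U) := by
        rintro ⟨a, b⟩ ⟨a', b'⟩ e
        have e' : (a : N) * b = a' * b' := congrArg Subtype.val e
        have hm : ((b : N) * (b' : N)⁻¹) ∈ D ⊓ K := by
          refine Subgroup.mem_inf.2 ⟨mul_mem b.2 (inv_mem b'.2), ?_⟩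
          have : (b : N) * (b' : N)⁻¹ = (a : N)⁻¹ * a' := by
            rw [eq_inv_mul_iff_mul_eq, ← mul_assoc, mul_inv_eq_iff_eq_mul, e']
          rw [this]
          exact mul_mem (inv_mem a.2) a'.2
        rw [hDK, Subgroup.mem_bot, mul_inv_eq_one] at hm
        have hb : b = b' := Subtype.ext hm
        subst hb
        exact Prod.ext (Subtype.ext (mul_right_cancel e')) rfl
      have := Nat.card_le_card_of_injective _ hinj
      rwa [Nat.card_prod, hcardK, hcardD] at this
    have hpg : IsPGroup 2 U := by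
      refine IsPGroup.to_sup_of_normal_left ?_ ?_
      · exact IsPGroup.of_card (n := 10) (by rw [hcardK]; norm_num)
      · exact IsPGroup.of_card (n := 10) (by rw [hcardD]; norm_num)
    have : Fact (Nat.Prime 2) := ⟨Nat.prime_two⟩
    obtain ⟨k, hk⟩ := IsPGroup.iff_card.1 hpg
    have h20 : 2 ^ 20 ∣ Nat.card U := by
      rw [hk]
      refine pow_dvd_pow 2 ((Nat.pow_le_pow_iff_right (by norm_num : 1 < 2)).1 ?_)
      rw [← hk]; exact le_trans (by norm_num) hUle
    have hmul := U.card_mul_index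
    rw [hcardN] at hmul
    obtain ⟨j, hj⟩ := h20
    refine ⟨j, ?_⟩
    rw [hj] at hmul
    refine Nat.eq_of_mul_eq_mul_left (show 0 < 2 ^ 20 by norm_num) ?_
    linarith
  have hcop : (Nat.card K).Coprime U.index := by
    rw [hcardK]
    exact Nat.Coprime.coprime_dvd_right hUindex (by norm_num)
  obtain ⟨B', hB'⟩ := S0051.result K U le_sup_left hcop D le_sup_right hDK rfl
  refine ⟨B'.map N.subtype, Subgroup.map_subtype_le _, ?_, ?_, ?_⟩
  · rw [Subgroup.eq_bot_iff_forall]
    rintro x ⟨⟨y, hy, rfl⟩, hx⟩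
    have hm : y ∈ K ⊓ B' := ⟨hx, hy⟩
    rw [hB'.disjoint.eq_bot, Subgroup.mem_bot] at hm
    rw [hm]; rfl
  · refine le_antisymm (sup_le (Subgroup.map_subtype_le _) Subgroup.le_normalizer) fun x hx => ?_
    obtain ⟨⟨a, b⟩, e⟩ := hB'.2 ⟨x, hx⟩
    have e' : ((a : N) : G) * ((b : N) : G) = x := congrArg Subtype.val e
    rw [← e']
    exact mul_mem (Subgroup.mem_sup_right a.2) (Subgroup.mem_sup_left ⟨b, b.2, rfl⟩)
  · have hinj : Function.Injective ((C.toSL hmove).comp B'.subtype) := by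
      rw [injective_iff_map_eq_one]
      intro b hb
      have hm : (b : N) ∈ K ⊓ B' := ⟨C.toSL_ker hmove _ hb, b.2⟩
      rw [hB'.disjoint.eq_bot, Subgroup.mem_bot] at hm
      exact Subtype.ext hm
    have hcard : Nat.card B' = Nat.card (Matrix.SpecialLinearGroup (Fin 5) (ZMod 2)) := by
      have := hB'.card_mul
      rw [← K.card_mul_index, hindex] at this
      rw [card_SL_five]
      exact Nat.eq_of_mul_eq_mul_left (Nat.card_pos (α := K)) this
    exact ⟨(B'.equivMapOfInjective N.subtype N.subtype_injective).symm.trans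
      (MulEquiv.ofBijective _ ((Nat.bijective_iff_injective_and_card _).2 ⟨hinj, hcard⟩))⟩

/-- The normaliser acts irreducibly. -/
theorem irreducible (W : Subgroup G) (hW : W ≤ C.A)
    (hN : Subgroup.normalizer (C.A : Set G) ≤ Subgroup.normalizer (W : Set G)) :
    W = ⊥ ∨ W = C.A := by
  classical
  have : Fact (Nat.Prime 2) := ⟨Nat.prime_two⟩
  obtain ⟨hZ, hT⟩ := C.reach_classes hmove
  have closed : ∀ m < 1024, C.aEl m ∈ W → ∀ n, C.Reach m n → C.aEl n ∈ W := fun m _ hm n hmn => by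
    obtain ⟨g, hg, e⟩ := hmn
    rw [← e]
    exact (Subgroup.mem_normalizer_iff.1 (hN hg) _).1 hm
  set S := (Finset.range 1024).filter fun n => C.aEl n ∈ W with hS
  have hcard : Nat.card W = S.card := by
    rw [← Nat.card_eq_finsetCard]
    refine (Nat.card_eq_of_bijective (fun n : S => (⟨C.aEl n, (Finset.mem_filter.1 n.2).2⟩ : W))
      ⟨fun a b e => Subtype.ext (C.aEl_inj (Finset.mem_range.1 (Finset.mem_filter.1 a.2).1)
        (Finset.mem_range.1 (Finset.mem_filter.1 b.2).1) (congrArg Subtype.val e)), fun w => ?_⟩).symm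
    obtain ⟨n, hn, e⟩ := hW w.2
    exact ⟨⟨n, Finset.mem_filter.2 ⟨Finset.mem_range.2 hn, e ▸ w.2⟩⟩, Subtype.ext e⟩
  obtain ⟨k, hk⟩ := IsPGroup.iff_card.1
    ((IsPGroup.of_card (p := 2) (n := 10) (G := C.A) (by rw [C.card_A]; norm_num)).to_le hW)
  have hcl : ∀ (s : ℕ) (L : List ℕ), C.reachSet s = L.toFinset →
      (∀ n ∈ L, n ∈ S) ∨ (∀ n ∈ L, n ∉ S) := by
    intro s L hL
    by_cases hex : ∃ m ∈ L, m ∈ S
    · obtain ⟨m, hm, hmS⟩ := hex
      refine .inl fun n hn => ?_
      rw [hS, Finset.mem_filter, Finset.mem_range] at hmS ⊢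
      rw [← List.mem_toFinset, ← hL, mem_reachSet] at hm hn
      exact ⟨hn.1, closed m hm.1 hmS.2 n (Reach.trans C (Reach.symm C hm.2) hn.2)⟩
    · exact .inr fun n hn h => hex ⟨n, hn, h⟩
  have h0 : 0 ∈ S :=
    Finset.mem_filter.2 ⟨Finset.mem_range.2 (by norm_num), by rw [aEl_zero]; exact one_mem W⟩
  have hsplit : ∀ n ∈ S, n = 0 ∨ n ∈ orb0 ++ orb2 ∨ n ∈ orb1 ++ orb3 := by
    intro n hn
    have hn' := Finset.mem_range.1 (Finset.mem_filter.1 hn).1
    by_cases e : n = 0
    · exact .inl e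
    have h := List.all_eq_true.1 orb_cover.1 n (List.mem_range.2 hn')
    rw [forceN_eq, Bool.or_eq_true, beq_iff_eq, testBit_maskOf] at h
    have h' := h.resolve_left e
    simp only [List.mem_append] at h' ⊢
    rcases h' with ((h1 | h1) | h1) | h1
    exacts [.inr (.inl (.inl h1)), .inr (.inr (.inl h1)), .inr (.inl (.inr h1)), .inr (.inr (.inr h1))]
  have hnum : ((0 :: (orb0 ++ orb2)).length == 156 && (0 :: (orb1 ++ orb3)).length == 869) = true ∧
      nodupB (0 :: (orb0 ++ orb2)) = true ∧ nodupB (0 :: (orb1 ++ orb3)) = true := by decide +kernel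
  obtain ⟨hl, hn1, hn2⟩ := hnum
  rw [Bool.and_eq_true, beq_iff_eq, beq_iff_eq] at hl
  have nopow : ∀ j ≤ 10, 2 ^ j ≠ 156 ∧ 2 ^ j ≠ 869 := by decide +kernel
  have hk10 : k ≤ 10 := by
    refine (Nat.pow_le_pow_iff_right (by norm_num : 1 < 2)).1 ?_
    rw [← hk]; exact (Subgroup.card_le_of_le hW).trans (by rw [C.card_A])
  rcases hcl _ _ hZ with hz | hz <;> rcases hcl _ _ hT with ht | ht
  · refine .inr (le_antisymm hW ?_)
    rintro _ ⟨n, hn, rfl⟩
    by_cases e : n = 0
    · rw [e, aEl_zero]; exact one_mem _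
    have h := List.all_eq_true.1 orb_cover.1 n (List.mem_range.2 hn)
    rw [forceN_eq, Bool.or_eq_true, beq_iff_eq, testBit_maskOf] at h
    have h' := h.resolve_left e
    have hmem : n ∈ orb0 ++ orb2 ∨ n ∈ orb1 ++ orb3 := by
      simp only [List.mem_append] at h' ⊢
      rcases h' with ((h1 | h1) | h1) | h1
      exacts [.inl (.inl h1), .inr (.inl h1), .inl (.inr h1), .inr (.inr h1)]
    exact (Finset.mem_filter.1 (hmem.elim (hz n) (ht n))).2
  · exfalso
    have he : S = (0 :: (orb0 ++ orb2)).toFinset := by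
      ext n
      simp only [List.mem_toFinset, List.mem_cons]
      refine ⟨fun h => ?_, fun h => h.elim (fun e => e ▸ h0) (hz n)⟩
      rcases hsplit n h with e | e | e
      exacts [.inl e, .inr e, absurd h (ht n e)]
    rw [hcard, he, List.toFinset_card_of_nodup (nodupB_sound _ hn1), hl.1] at hk
    exact (nopow k hk10).1 hk.symm
  · exfalso
    have he : S = (0 :: (orb1 ++ orb3)).toFinset := by
      ext n
      simp only [List.mem_toFinset, List.mem_cons]
      refine ⟨fun h => ?_, fun h => h.elim (fun e => e ▸ h0) (ht n)⟩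
      rcases hsplit n h with e | e | e
      exacts [.inl e, absurd h (hz n e), .inr e]
    rw [hcard, he, List.toFinset_card_of_nodup (nodupB_sound _ hn2), hl.2] at hk
    exact (nopow k hk10).2 hk.symm
  · refine .inl ((Subgroup.eq_bot_iff_forall _).2 fun w hw => ?_)
    obtain ⟨n, hn, rfl⟩ := hW hw
    have hn' : n ∈ S := Finset.mem_filter.2 ⟨Finset.mem_range.2 hn, hw⟩
    rcases hsplit n hn' with e | e | e
    · rw [e, aEl_zero]
    · exact absurd hn' (hz n e)
    · exact absurd hn' (ht n e)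

end Coc

end Cfsg.Agent.H85.JTen
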