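import Cfsg.Agent.H85.JTen.Moves
import Cfsg.Agent.H85.JTen.Split
import Cfsg.Agent.H98.JFour.FullSetup

/-!
A group of Janko-four type has the structure used for its self-centralising elementary abelian
subgroups of order 2^10.
-/

set_option autoImplicit false

namespace Cfsg.Agent.H85.JTen

open Subgroup H43.JFour H98.JFour H38.JFour

universe u

open H85.AutM22 in
theorem exists_model_other :
    ∃ (W W' : Subgroup (MulAut ↥Cfsg.Spor.M22)) (a b u : MulAut ↥Cfsg.Spor.M22),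
      HexTI W ∧ HasOther W ∧
      HexData (MulAut ↥Cfsg.Spor.M22) (MulAut.conj : ↥Cfsg.Spor.M22 →* MulAut ↥Cfsg.Spor.M22).range W ∧
      H38.JFour.SplitModel (MulAut ↥Cfsg.Spor.M22)
        (MulAut.conj : ↥Cfsg.Spor.M22 →* MulAut ↥Cfsg.Spor.M22).range W W' a b u :=
  ⟨_, _, _, _, _, hexTI_map autEquiv hexTI_pairGrp, hasOther_map autEquiv hasOther_pairGrp,
    map_innerGrp ▸ hexData_map autEquiv hexData_pairGrp,
    map_innerGrp ▸ H38.JFour.splitModel_map autEquiv H38.JFour.splitModel_pairGrp⟩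

theorem exists_coc {G : Type u} [Group G] [Finite G] [IsSimpleGroup G] (hG : ¬ IsMulCommutative G)
    (hJ : Cfsg.IsOfJankoFourType G) : ∃ C : Coc G, C.Moves := by
  obtain ⟨z, P, hP⟩ := hJ
  obtain ⟨c, hz, -, hE, hc⟩ := exists_ctx hP
  obtain ⟨W, W', a, b, u, hti, hO, hW, hS⟩ := exists_model_other
  have hd := H85.AutM22.autData
  have h : Pkg c innM22 W := Pkg.of_data hc hd hW
  have h' : Pkg c innM22 W' := Pkg.of_data hc hd hS.hex
  have hF : HasFus c innM22 := hc.exists_fus hd hG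
  have hC : IsCore c := by unfold IsCore; rw [hz]; exact hE
  obtain ⟨K, hK, hKV, hsup, -⟩ := exists_mathieu_complement h h' hS hF
  obtain ⟨t, ht⟩ : h.rest.Nonempty :=
    Set.nonempty_of_ncard_ne_zero (by rw [h.rest_card hF]; norm_num)
  obtain ⟨D⟩ := exists_dictOf h hF (t := ⟨t, h.rest_inv.sub ht⟩) ht
  let S : Setting h K ⟨t, h.rest_inv.sub ht⟩ := Setting.mk hF hC ⟨hK, hKV, hsup⟩ ht D
  obtain ⟨k, hk, e⟩ := S.exists_K_conj (S.F_mem z0)
    ((S.F_isConj (isSext_ev ev_vec_check.2.2.2.1).1).2 ev_vec_check.2.2.2.1)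
  exact ⟨coc S hti, moves h hO (coc S hti) rfl (S.hK.le hk) e⟩

end Cfsg.Agent.H85.JTen
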