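import Cfsg.Agent.H85.JTen.Fusion

/-!
The 31 subspaces of dimension 4 inside the special vectors, and linear maps preserving these.
-/

set_option autoImplicit false
set_option exponentiation.threshold 1100

namespace Cfsg.Agent.H85.JTen

open Cfsg Cfsg.Agent.Golay Cfsg.Agent.H94.M24

/-- The mask of the `e`-th space. -/
def spc (e : ℕ) : ℕ := spaces.getD e 0

/-- The sum of two members is special and larger. -/
def goodP (x y : ℕ) : Bool := Nat.blt y (x ^^^ y) && qMask.testBit (x ^^^ y)

/-- The list of special vectors. -/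
def qList : List ℕ := (List.range 1024).filter qMask.testBit

/-- Each space of dimension 4 of special vectors is one of the 31. -/
def specTest : Bool :=
  forceL qList fun Q => Q.all fun a =>
    forceL (Q.filter fun b => Nat.blt a b && goodP a b) fun Ca => Ca.all fun b =>
      forceL (Ca.filter fun c => Nat.blt b c && (goodP b c && goodP (a ^^^ b) c)) fun Cb =>
        Cb.all fun c =>
          forceL (Cb.filter fun d => Nat.blt c d &&
            (goodP c d && (goodP (a ^^^ c) d && (goodP (b ^^^ c) d && goodP (a ^^^ b ^^^ c) d))))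
            fun Cc => Cc.all fun d => forceN (maskOf (spanList [a, b, c, d])) fun m =>
              (List.range 32).any fun e => !(e == 0) && (spc e == m)

lemma spec_ok : specTest = true := by decide +kernel

lemma spc_ok :
    ((List.range 32).all fun e => e == 0 || forceL ((List.range 1024).filter (spc e).testBit) fun L =>
      (L.length == 16) && L.all (fun x => (x == 0 || qMask.testBit x) &&
        L.all fun y => (spc e).testBit (x ^^^ y))) = true ∧
    ((List.range 32).all fun e => e == 0 || (spc e).testBit 0) = true := by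
  decide +kernel

/-- The lines: three spaces share a point exactly when their labels add up to zero. -/
def lineTest3 : Bool :=
  (List.range 32).all fun e => e == 0 || forceN (spc e) fun se => (List.range 32).all fun f =>
    f == 0 || f == e || forceN (se &&& spc f) fun s2 => (List.range 32).all fun h =>
      h == 0 || h == e || h == f || ((s2 &&& spc h) >>> 1 != 0) == (h == (e ^^^ f))

lemma line3_ok : lineTest3 = true := by decide +kernel

lemma spc_distinct : ((List.range 32).all fun e => (List.range 32).all fun f =>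
    e == f || !(spc e == spc f)) = true := by
  decide +kernel

/-- Each special vector is the meet of two spaces. -/
def pointTest : Bool :=
  qList.all fun n => (List.range 32).any fun e => (List.range 32).any fun f =>
    !(e == 0) && !(f == 0) && !(e == f) && ((spc e &&& spc f) == (1 ||| 2 ^ n))

lemma point_ok : pointTest = true := by decide +kernel

lemma q_span : ((List.range 10).all fun b => qList.contains (2 ^ b) ||
    qList.any fun x => qMask.testBit (x ^^^ 2 ^ b)) = true := by
  decide +kernel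

lemma qMask_eq : maskOf (orb0 ++ orb2) = qMask := by decide +kernel

/-- A linear bijection of the coordinates preserving the special vectors. -/
structure QMap (α : ℕ → ℕ) : Prop where
  lt : ∀ n < 1024, α n < 1024
  xor : ∀ m < 1024, ∀ n < 1024, α (m ^^^ n) = α m ^^^ α n
  inj : ∀ m < 1024, ∀ n < 1024, α m = α n → m = n
  special : ∀ n < 1024, qMask.testBit n = true → qMask.testBit (α n) = true

lemma QMap.zero {α : ℕ → ℕ} (h : QMap α) : α 0 = 0 := by
  have := h.xor 0 (by norm_num) 0 (by norm_num)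
  rwa [Nat.xor_self, Nat.xor_self] at this

lemma mem_qList {n : ℕ} : n ∈ qList ↔ n ∈ (List.range 1024).filter qMask.testBit := Iff.rfl

attribute [local irreducible] spaces spc qMask qList

lemma spc_facts {e : ℕ} (he : e < 32) (h0 : e ≠ 0) :
    ((Finset.range 1024).filter fun n => (spc e).testBit n = true).card = 16 ∧
    (spc e).testBit 0 = true ∧
    (∀ n < 1024, (spc e).testBit n = true → n = 0 ∨ qMask.testBit n = true) ∧
    ∀ m < 1024, ∀ n < 1024, (spc e).testBit m = true → (spc e).testBit n = true →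
      (spc e).testBit (m ^^^ n) = true := by
  have h := spc_ok
  simp only [List.all_eq_true, List.mem_range, Bool.or_eq_true, beq_iff_eq, forceL_eq,
    Bool.and_eq_true, List.mem_filter] at h
  obtain ⟨hlen, hmem⟩ := (h.1 e he).resolve_left h0
  refine ⟨?_, (h.2 e he).resolve_left h0, fun n hn hb => (hmem n ⟨hn, hb⟩).1,
    fun m hm n hn hb hb' => (hmem m ⟨hm, hb⟩).2 n ⟨hn, hb'⟩⟩
  rw [← hlen, ← List.toFinset_card_of_nodup (List.nodup_range.filter _), List.toFinset_filter,
    List.toFinset_range]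

lemma exists_spc {S : Finset ℕ} (hlt : ∀ n ∈ S, n < 1024) (hc : S.card = 16) (h0 : 0 ∈ S)
    (hcl : ∀ m ∈ S, ∀ n ∈ S, m ^^^ n ∈ S)
    (hq : ∀ n ∈ S, n = 0 ∨ qMask.testBit n = true) :
    ∃ e < 32, e ≠ 0 ∧ S = (Finset.range 1024).filter fun n => (spc e).testBit n = true := by
  classical
  have hmem : ∀ x ∈ S, x ≠ 0 → x ∈ qList := fun x hx hne =>
    mem_qList.2 (List.mem_filter.2 ⟨List.mem_range.2 (hlt x hx), (hq x hx).resolve_left hne⟩)
  have hgood : ∀ x ∈ S, ∀ y ∈ S, y < x ^^^ y → goodP x y = true := fun x hx y hy hlt' => by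
    have h1 : Nat.blt y (x ^^^ y) = true := Nat.ble_eq_true_of_le hlt'
    have h2 := (hq _ (hcl x hx y hy)).resolve_left (by omega)
    simp only [goodP, h1, h2, Bool.and_self]
  have hspanS : ∀ L : List ℕ, (∀ u ∈ L, u ∈ S) → ∀ x ∈ spanList L, x ∈ S := fun L hL x hx =>
    spanList_induction (P := fun x => x ∈ S) L h0 hL (fun u v hu hv => hcl u hu v hv) x hx
  have pick : ∀ L : List ℕ, (spanList L).length < 16 →
      ∃ y ∈ S, y ∉ spanList L ∧ ∀ z ∈ S, z ∉ spanList L → y ≤ z := by
    intro L hT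
    have hne : (S \ (spanList L).toFinset).Nonempty := by
      rw [Finset.nonempty_iff_ne_empty]
      intro e
      have := (Finset.card_le_card (Finset.sdiff_eq_empty_iff_subset.1 e)).trans
        (List.toFinset_card_le _)
      omega
    obtain ⟨hy1, hy2⟩ := Finset.mem_sdiff.1 (Finset.min'_mem _ hne)
    exact ⟨_, hy1, fun h => hy2 (List.mem_toFinset.2 h), fun z hz hzT => Finset.min'_le _ _
      (Finset.mem_sdiff.2 ⟨hz, fun h => hzT (List.mem_toFinset.1 h)⟩)⟩
  have cancel : ∀ x y : ℕ, x ^^^ (x ^^^ y) = y := fun x y => by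
    rw [← Nat.xor_assoc, Nat.xor_self, Nat.zero_xor]
  have gen : ∀ L : List ℕ, (∀ u ∈ L, u ∈ S) → ∀ y ∈ S, y ∉ spanList L →
      (∀ z ∈ S, z ∉ spanList L → y ≤ z) → ∀ x ∈ spanList L, x ≠ 0 → goodP x y = true := by
    intro L hL y hy hy' hmin x hx hx0
    refine hgood x (hspanS L hL x hx) y hy (lt_of_le_of_ne
      (hmin _ (hcl x (hspanS L hL x hx) y hy) fun h => hy' ?_) fun h => hx0 ?_)
    · have := xor_mem_spanList _ hx h
      rwa [cancel] at this
    · have := congrArg (· ^^^ y) h
      simp only [Nat.xor_self, Nat.xor_assoc, Nat.xor_zero] at this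
      exact this.symm
  obtain ⟨a, ha, ha', hamin⟩ := pick [] (by simp [spanList])
  have hLa : ∀ u ∈ [a], u ∈ S := by simp [ha]
  obtain ⟨b, hb, hb', hbmin⟩ := pick [a] (by simp [spanList])
  have hLb : ∀ u ∈ [b, a], u ∈ S := by simp [ha, hb]
  obtain ⟨c, hc', hc'', hcmin⟩ := pick [b, a] (by simp [spanList])
  have hLc : ∀ u ∈ [c, b, a], u ∈ S := by simp [ha, hb, hc']
  obtain ⟨d, hd, hd', hdmin⟩ := pick [c, b, a] (by simp [spanList])
  have ga := gen _ hLa b hb hb' hbmin
  have gb := gen _ hLb c hc' hc'' hcmin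
  have gc := gen _ hLc d hd hd' hdmin
  simp only [spanList, List.map_cons, List.map_nil, List.cons_append, List.nil_append,
    List.mem_cons, List.not_mem_nil, or_false, not_or, Nat.xor_zero]
    at ha' hb' hc'' hd' hamin hbmin hcmin ga gb gc
  have eq0 : ∀ x y : ℕ, x ^^^ y = 0 → y = x := fun x y h => (Nat.xor_eq_zero_iff.1 h).symm
  have hab0 : a ^^^ b ≠ 0 := fun h => hb'.2 (eq0 _ _ h)
  have hac0 : a ^^^ c ≠ 0 := fun h => hc''.2.1 (eq0 _ _ h)
  have hbc0 : b ^^^ c ≠ 0 := fun h => hc''.2.2.1 (eq0 _ _ h)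
  have habc0 : a ^^^ b ^^^ c ≠ 0 := fun h =>
    hc''.2.2.2 ((eq0 _ _ h).trans (Nat.xor_comm _ _))
  have hlt_ab : a < b := lt_of_le_of_ne (hamin b hb hb'.1) (Ne.symm hb'.2)
  have hlt_bc : b < c :=
    lt_of_le_of_ne (hbmin c hc' ⟨hc''.1, hc''.2.1⟩) (Ne.symm hc''.2.2.1)
  have hlt_cd : c < d :=
    lt_of_le_of_ne (hcmin d hd ⟨hd'.1, hd'.2.1, hd'.2.2.1, hd'.2.2.2.1⟩) (Ne.symm hd'.2.2.2.2.1)
  have ht := spec_ok
  simp only [specTest, forceL_eq, forceN_eq, List.all_eq_true, List.mem_filter, List.any_eq_true,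
    Bool.and_eq_true, List.mem_range, Bool.not_eq_true', beq_eq_false_iff_ne, beq_iff_eq] at ht
  have bb : ∀ {u v : ℕ}, u < v → Nat.blt u v = true := fun h => Nat.ble_eq_true_of_le h
  obtain ⟨e, he, he0, hm⟩ := ht a (hmem a ha ha') b
    ⟨hmem b hb hb'.1, bb hlt_ab, ga a (by simp) ha'⟩ c
    ⟨⟨hmem c hc' hc''.1, bb (hlt_ab.trans hlt_bc), gb a (by simp) ha'⟩, bb hlt_bc,
      gb b (by simp) hb'.1, gb _ (by simp [Nat.xor_comm]) hab0⟩ d
    ⟨⟨⟨hmem d hd hd'.1, bb (hlt_ab.trans (hlt_bc.trans hlt_cd)), gc a (by simp) ha'⟩,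
      bb (hlt_bc.trans hlt_cd), gc b (by simp) hb'.1, gc _ (by simp [Nat.xor_comm]) hab0⟩,
      bb hlt_cd, gc c (by simp) hc''.1, gc _ (by simp [Nat.xor_comm]) hac0,
      gc _ (by simp [Nat.xor_comm]) hbc0,
      gc _ (by simp [Nat.xor_comm, xor_left_comm']) habc0⟩
  refine ⟨e, he, he0, (Finset.eq_of_subset_of_card_le (fun n hn => ?_) ?_).symm⟩
  · rw [Finset.mem_filter] at hn
    have hn' := hn.2
    rw [hm, testBit_maskOf] at hn'
    refine spanList_induction (P := fun n => n ∈ S) _ h0 ?_ (fun u v hu hv => hcl u hu v hv) n hn'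
    intro u hu
    simp only [List.mem_cons, List.not_mem_nil, or_false] at hu
    rcases hu with rfl | rfl | rfl | rfl
    exacts [ha, hb, hc', hd]
  · rw [(spc_facts he he0).1, hc]

lemma QMap.exists_image {α : ℕ → ℕ} (h : QMap α) {e : ℕ} (he : e < 32) (h0 : e ≠ 0) :
    ∃ e' < 32, e' ≠ 0 ∧ ∀ n < 1024, (spc e).testBit n = true → (spc e').testBit (α n) = true := by
  classical
  obtain ⟨hc, hz, hq, hcl⟩ := spc_facts he h0
  set S := ((Finset.range 1024).filter fun n => (spc e).testBit n = true).image α with hS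
  have hcS : S.card = 16 := by
    rw [hS, Finset.card_image_of_injOn, hc]
    intro m hm n hn he
    simp only [Finset.coe_filter, Finset.mem_range, Set.mem_setOf_eq] at hm hn
    exact h.inj m hm.1 n hn.1 he
  have hmem : ∀ x ∈ S, ∃ n < 1024, (spc e).testBit n = true ∧ α n = x := fun x hx => by
    obtain ⟨n, hn, e'⟩ := Finset.mem_image.1 hx
    rw [Finset.mem_filter, Finset.mem_range] at hn
    exact ⟨n, hn.1, hn.2, e'⟩
  have hin : ∀ n < 1024, (spc e).testBit n = true → α n ∈ S := fun n hn hb =>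
    Finset.mem_image.2 ⟨n, Finset.mem_filter.2 ⟨Finset.mem_range.2 hn, hb⟩, rfl⟩
  obtain ⟨e', he', h0', hSe⟩ := exists_spc (S := S)
    (fun x hx => by obtain ⟨n, hn, -, rfl⟩ := hmem x hx; exact h.lt n hn) hcS
    (by rw [← h.zero]; exact hin 0 (by norm_num) hz)
    (fun x hx y hy => by
      obtain ⟨m, hm, hmb, rfl⟩ := hmem x hx
      obtain ⟨n, hn, hnb, rfl⟩ := hmem y hy
      rw [← h.xor m hm n hn]
      exact hin _ (Nat.xor_lt_two_pow (n := 10) hm hn) (hcl m hm n hn hmb hnb))
    (fun x hx => by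
      obtain ⟨n, hn, hnb, rfl⟩ := hmem x hx
      rcases hq n hn hnb with rfl | hn'
      · exact .inl h.zero
      · exact .inr (h.special n hn hn'))
  refine ⟨e', he', h0', fun n hn hb => ?_⟩
  have := hin n hn hb
  rw [hSe, Finset.mem_filter] at this
  exact this.2

/-- `f` carries each space to the space with the new label. -/
def Carries (α : ℕ → ℕ) (f : ℕ → ℕ) : Prop :=
  f 0 = 0 ∧ ∀ e < 32, e ≠ 0 → f e < 32 ∧ f e ≠ 0 ∧
    ∀ n < 1024, (spc e).testBit n = true → (spc (f e)).testBit (α n) = true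

lemma QMap.exists_carries {α : ℕ → ℕ} (h : QMap α) : ∃ f, Carries α f := by
  classical
  choose g hg h0 hgi using fun e : {e // e < 32 ∧ e ≠ 0} => h.exists_image e.2.1 e.2.2
  refine ⟨fun e => if he : e < 32 ∧ e ≠ 0 then g ⟨e, he⟩ else 0, by simp, fun e he he0 => ?_⟩
  simp only [he, ne_eq, he0, not_false_eq_true, and_self, dite_true]
  exact ⟨hg _, h0 _, hgi ⟨e, he, he0⟩⟩

lemma eq_of_spc_le {e e' : ℕ} (he : e < 32) (h0 : e ≠ 0) (he' : e' < 32) (h0' : e' ≠ 0)
    (h : ∀ n < 1024, (spc e).testBit n = true → (spc e').testBit n = true) : e = e' := by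
  have hlt : ((List.range 32).all fun e => Nat.blt (spc e) (2 ^ 1024)) = true := by decide +kernel
  have hsub : (Finset.range 1024).filter (fun n => (spc e).testBit n = true) ⊆
      (Finset.range 1024).filter (fun n => (spc e').testBit n = true) := fun n hn => by
    rw [Finset.mem_filter, Finset.mem_range] at hn ⊢
    exact ⟨hn.1, h n hn.1 hn.2⟩
  have heq := Finset.eq_of_subset_of_card_le hsub (by rw [(spc_facts he h0).1, (spc_facts he' h0').1])
  have hs : spc e = spc e' := by
    refine Nat.eq_of_testBit_eq fun n => ?_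
    by_cases hn : n < 1024
    · have := Finset.ext_iff.1 heq n
      simp only [Finset.mem_filter, Finset.mem_range, hn, true_and] at this
      exact Bool.eq_iff_iff.2 this
    · have l1 : spc e < 2 ^ 1024 :=
        Nat.le_of_ble_eq_true (List.all_eq_true.1 hlt e (List.mem_range.2 he))
      have l2 : spc e' < 2 ^ 1024 :=
        Nat.le_of_ble_eq_true (List.all_eq_true.1 hlt e' (List.mem_range.2 he'))
      rw [Nat.testBit_lt_two_pow (lt_of_lt_of_le l1 (Nat.pow_le_pow_right (by norm_num) (by omega))),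
        Nat.testBit_lt_two_pow (lt_of_lt_of_le l2 (Nat.pow_le_pow_right (by norm_num) (by omega)))]
  have hd := spc_distinct
  simp only [List.all_eq_true, List.mem_range, Bool.or_eq_true, beq_iff_eq, Bool.not_eq_true',
    beq_eq_false_iff_ne] at hd
  exact (hd e he e' he').resolve_right fun e => e hs

lemma Carries.unique {α : ℕ → ℕ} (h : QMap α) {f g : ℕ → ℕ} (hf : Carries α f) (hg : Carries α g)
    {e : ℕ} (he : e < 32) : f e = g e := by
  classical
  by_cases h0 : e = 0
  · rw [h0, hf.1, hg.1]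
  obtain ⟨f1, f2, f3⟩ := hf.2 e he h0
  obtain ⟨g1, g2, g3⟩ := hg.2 e he h0
  refine eq_of_spc_le f1 f2 g1 g2 fun x hx hb => ?_
  set S := (Finset.range 1024).filter fun n => (spc e).testBit n = true with hS
  have hsub : S.image α ⊆ (Finset.range 1024).filter fun n => (spc (f e)).testBit n = true := by
    intro y hy
    obtain ⟨n, hn, rfl⟩ := Finset.mem_image.1 hy
    rw [hS, Finset.mem_filter, Finset.mem_range] at hn
    exact Finset.mem_filter.2 ⟨Finset.mem_range.2 (h.lt n hn.1), f3 n hn.1 hn.2⟩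
  have heq := Finset.eq_of_subset_of_card_le hsub (by
    rw [(spc_facts f1 f2).1, Finset.card_image_of_injOn, (spc_facts he h0).1]
    intro m hm n hn e'
    simp only [hS, Finset.coe_filter, Finset.mem_range, Set.mem_setOf_eq] at hm hn
    exact h.inj m hm.1 n hn.1 e')
  have hx' : x ∈ S.image α := by
    rw [heq]; exact Finset.mem_filter.2 ⟨Finset.mem_range.2 hx, hb⟩
  obtain ⟨n, hn, rfl⟩ := Finset.mem_image.1 hx'
  rw [hS, Finset.mem_filter, Finset.mem_range] at hn
  exact g3 n hn.1 hn.2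

lemma Carries.comp {α β f g : ℕ → ℕ} (hβ : QMap β) (hf : Carries α f) (hg : Carries β g) :
    Carries (α ∘ β) (f ∘ g) := by
  refine ⟨by simp [hg.1, hf.1], fun e he h0 => ?_⟩
  obtain ⟨g1, g2, g3⟩ := hg.2 e he h0
  obtain ⟨f1, f2, f3⟩ := hf.2 _ g1 g2
  exact ⟨f1, f2, fun n hn hb => f3 _ (hβ.lt n hn) (g3 n hn hb)⟩

lemma Carries.inj {α f : ℕ → ℕ} (h : QMap α) (hf : Carries α f) {e e' : ℕ} (he : e < 32)
    (he' : e' < 32) (heq : f e = f e') : e = e' := by
  classical
  by_cases h0 : e = 0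
  · by_contra hne
    rw [h0] at hne heq
    exact (hf.2 e' he' (Ne.symm hne)).2.1 (by rw [← heq, hf.1])
  by_cases h0' : e' = 0
  · rw [h0', hf.1] at heq; exact absurd heq (hf.2 e he h0).2.1
  obtain ⟨f1, f2, f3⟩ := hf.2 e he h0
  obtain ⟨f1', f2', f3'⟩ := hf.2 e' he' h0'
  refine eq_of_spc_le he h0 he' h0' fun n hn hb => ?_
  set S := (Finset.range 1024).filter fun n => (spc e').testBit n = true with hS
  have hsub : S.image α ⊆ (Finset.range 1024).filter fun n => (spc (f e')).testBit n = true := by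
    intro y hy
    obtain ⟨n, hn, rfl⟩ := Finset.mem_image.1 hy
    rw [hS, Finset.mem_filter, Finset.mem_range] at hn
    exact Finset.mem_filter.2 ⟨Finset.mem_range.2 (h.lt n hn.1), f3' n hn.1 hn.2⟩
  have hS' := Finset.eq_of_subset_of_card_le hsub (by
    rw [(spc_facts f1' f2').1, Finset.card_image_of_injOn, (spc_facts he' h0').1]
    intro a ha b hb e''
    simp only [hS, Finset.coe_filter, Finset.mem_range, Set.mem_setOf_eq] at ha hb
    exact h.inj a ha.1 b hb.1 e'')
  have hmem : α n ∈ S.image α := by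
    rw [hS']; exact Finset.mem_filter.2 ⟨Finset.mem_range.2 (h.lt n hn), heq ▸ f3 n hn hb⟩
  obtain ⟨m, hm, em⟩ := Finset.mem_image.1 hmem
  rw [hS, Finset.mem_filter, Finset.mem_range] at hm
  exact h.inj m hm.1 n hn em ▸ hm.2

lemma shift_one {m : ℕ} (h : m >>> 1 ≠ 0) : ∃ i, i ≠ 0 ∧ m.testBit i = true := by
  obtain ⟨i, hi⟩ : ∃ i, (m >>> 1).testBit i = true := by
    by_contra h'
    push Not at h'
    exact h (Nat.eq_of_testBit_eq fun i => by rw [Bool.eq_false_iff.2 (h' i), Nat.zero_testBit])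
  rw [Nat.testBit_shiftRight] at hi
  exact ⟨1 + i, by omega, hi⟩

lemma Carries.add {α f : ℕ → ℕ} (h : QMap α) (hf : Carries α f) {e e' : ℕ} (he : e < 32)
    (he' : e' < 32) : f (e ^^^ e') = f e ^^^ f e' := by
  by_cases h0 : e = 0
  · rw [h0, Nat.zero_xor, hf.1, Nat.zero_xor]
  by_cases h0' : e' = 0
  · rw [h0', Nat.xor_zero, hf.1, Nat.xor_zero]
  by_cases hee : e = e'
  · rw [hee, Nat.xor_self, hf.1, Nat.xor_self]
  have hx : e ^^^ e' < 32 := Nat.xor_lt_two_pow (n := 5) he he'
  have hx0 : e ^^^ e' ≠ 0 := fun e0 => hee (Nat.xor_eq_zero_iff.1 e0)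
  have hxe : e ^^^ e' ≠ e := fun e0 => h0' (Nat.xor_right_inj.1 (e0.trans (Nat.xor_zero e).symm))
  have hxe' : e ^^^ e' ≠ e' := fun e0 => h0 (Nat.xor_left_inj.1 (e0.trans (Nat.zero_xor e').symm))
  have hl := line3_ok
  simp only [lineTest3, List.all_eq_true, List.mem_range, Bool.or_eq_true, forceN_eq, beq_iff_eq,
    bne_iff_ne] at hl
  have h1 := (((hl e he).resolve_left h0 e' he').resolve_left (by tauto)) _ hx
  have h1' := h1.resolve_left (by tauto)
  rw [beq_self_eq_true, bne_iff_ne] at h1'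
  obtain ⟨n, hn0, hn⟩ := shift_one h1'
  simp only [Nat.testBit_and, Bool.and_eq_true] at hn
  have hlt : ((List.range 32).all fun e => Nat.blt (spc e) (2 ^ 1024)) = true := by decide +kernel
  have hn1024 : n < 1024 := by
    by_contra hge
    have := hn.1.1
    rw [Nat.testBit_lt_two_pow (lt_of_lt_of_le
      (Nat.le_of_ble_eq_true (List.all_eq_true.1 hlt e (List.mem_range.2 he)))
      (Nat.pow_le_pow_right (by norm_num) (not_lt.1 hge)))] at this
    exact Bool.noConfusion this
  obtain ⟨a1, a2, a3⟩ := hf.2 e he h0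
  obtain ⟨b1, b2, b3⟩ := hf.2 e' he' h0'
  obtain ⟨c1, c2, c3⟩ := hf.2 _ hx hx0
  have hne : f e' ≠ f e := fun e0 => hee (hf.inj h he' he e0).symm
  have h2 := (((hl _ a1).resolve_left a2 _ b1).resolve_left (by tauto)) _ c1
  have h2' := h2.resolve_left (by
    rintro ((e0 | e0) | e0)
    exacts [c2 e0, hxe (hf.inj h hx he e0), hxe' (hf.inj h hx he' e0)])
  have hpos : ((spc (f e) &&& spc (f e')) &&& spc (f (e ^^^ e'))) >>> 1 ≠ 0 := by
    have hbit : ((spc (f e) &&& spc (f e')) &&& spc (f (e ^^^ e'))).testBit (α n) = true := by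
      simp only [Nat.testBit_and, Bool.and_eq_true]
      exact ⟨⟨a3 n hn1024 hn.1.1, b3 n hn1024 hn.1.2⟩, c3 n hn1024 hn.2⟩
    have hαn : α n ≠ 0 := fun e0 => hn0 (h.inj n hn1024 0 (by norm_num) (by rw [e0, h.zero]))
    intro e0
    have := congrArg (fun m => m.testBit (α n - 1)) e0
    simp only [Nat.testBit_shiftRight, Nat.zero_testBit] at this
    rw [show 1 + (α n - 1) = α n by omega, hbit] at this
    exact Bool.noConfusion this
  rw [show (((spc (f e) &&& spc (f e')) &&& spc (f (e ^^^ e'))) >>> 1 != 0) = true from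
    bne_iff_ne.2 hpos] at h2'
  exact eq_of_beq h2'.symm

lemma Carries.eq_id {α f : ℕ → ℕ} (h : QMap α) (hf : Carries α f) (hid : ∀ e < 32, f e = e) :
    ∀ n < 1024, α n = n := by
  have hq : ∀ n ∈ qList, α n = n := by
    intro n hn
    have hn' := List.mem_filter.1 (mem_qList.1 hn)
    have hlt := List.mem_range.1 hn'.1
    have hp := point_ok
    simp only [pointTest, List.all_eq_true, List.any_eq_true, List.mem_range, Bool.and_eq_true,
      Bool.not_eq_true', beq_eq_false_iff_ne, beq_iff_eq] at hp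
    obtain ⟨e, he, e', he', ⟨⟨h0, h0'⟩, -⟩, hand⟩ := hp n hn
    have hb : (spc e &&& spc e').testBit n = true := by
      rw [hand, Nat.testBit_or, Nat.testBit_two_pow_self, Bool.or_true]
    rw [Nat.testBit_and, Bool.and_eq_true] at hb
    have ha := (hf.2 e he h0).2.2 n hlt hb.1
    have hb' := (hf.2 e' he' h0').2.2 n hlt hb.2
    rw [hid e he] at ha
    rw [hid e' he'] at hb'
    have hbit : (spc e &&& spc e').testBit (α n) = true := by rw [Nat.testBit_and, ha, hb']; rfl
    rw [hand, Nat.testBit_or, Bool.or_eq_true, Nat.testBit_two_pow, decide_eq_true_eq] at hbit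
    rcases hbit with e0 | e0
    · exfalso
      have h1 : α n = 0 := Nat.testBit_one_eq_true_iff_self_eq_zero.1 e0
      have := h.inj n hlt 0 (by norm_num) (by rw [h1, h.zero])
      subst this
      exact absurd hn'.2 (by decide +kernel)
    · exact e0.symm
  refine fun n hn => (xor_bits_induction (P := fun n => n < 1024 ∧ α n = n)
    ⟨by norm_num, h.zero⟩ (fun a b ha hb => ⟨Nat.xor_lt_two_pow (n := 10) ha.1 hb.1,
      by rw [h.xor a ha.1 b hb.1, ha.2, hb.2]⟩) 10 (fun b hb => ?_) n hn).2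
  have hlt : 2 ^ b < 1024 := Nat.pow_lt_pow_right (m := b) (n := 10) (a := 2) (by norm_num) hb
  refine ⟨hlt, ?_⟩
  have hs := q_span
  simp only [List.all_eq_true, List.mem_range, Bool.or_eq_true, List.any_eq_true,
    List.contains_iff_mem] at hs
  rcases hs b hb with e | ⟨x, hx, hy⟩
  · exact hq _ e
  · have hxl := List.mem_range.1 (List.mem_filter.1 (mem_qList.1 hx)).1
    have hyl : x ^^^ 2 ^ b < 1024 := Nat.xor_lt_two_pow (n := 10) hxl hlt
    have hy' : x ^^^ 2 ^ b ∈ qList := mem_qList.2 (List.mem_filter.2 ⟨List.mem_range.2 hyl, hy⟩)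
    have e : 2 ^ b = x ^^^ (x ^^^ 2 ^ b) := by rw [← Nat.xor_assoc, Nat.xor_self, Nat.zero_xor]
    conv_lhs => rw [e, h.xor x hxl _ hyl, hq x hx, hq _ hy', ← e]

end Cfsg.Agent.H85.JTen
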