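import Cfsg.Agent.H94.M24.Rel
import Cfsg.Agent.H85.JTen.Data

/-!
Reduced even masks: the cocode as a group of order 2048 under exclusive or, with the action of the
tables of the group of the code.
-/

set_option autoImplicit false

namespace Cfsg.Agent.H85.JTen

open Cfsg Cfsg.Agent.Golay Cfsg.Agent.H94.M24
open scoped Pointwise

/-- The vectors. -/
def vecList : List ℕ := spanList vBasis

/-- The action of a table on vectors. -/
def act (T v : ℕ) : ℕ := reduceMask (tblImg T v)

lemma xor_left_comm' (a b c : ℕ) : a ^^^ (b ^^^ c) = b ^^^ (a ^^^ c) := by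
  rw [← Nat.xor_assoc, ← Nat.xor_assoc, Nat.xor_comm a b]

lemma red_step_xor (b x y : ℕ) (p : ℕ) :
    (if (x ^^^ y).testBit p then b ^^^ (x ^^^ y) else x ^^^ y) =
      (if x.testBit p then b ^^^ x else x) ^^^ (if y.testBit p then b ^^^ y else y) := by
  rw [Nat.testBit_xor]
  cases x.testBit p <;> cases y.testBit p <;>
    simp only [Bool.false_eq_true, if_false, if_true, bne_self_eq_false, bne, Bool.not_false,
      Bool.not_true, beq_self_eq_true, beq_iff_eq, Bool.true_eq_false, reduceIte,
      Bool.bne_false, Bool.false_bne, Bool.bne_true, Bool.true_bne]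
  · exact (xor_left_comm' x b y).symm
  · exact (Nat.xor_assoc b x y).symm
  · rw [Nat.xor_assoc b x, xor_left_comm' x b y, ← Nat.xor_assoc b b, Nat.xor_self, Nat.zero_xor]

lemma reduce_xor (x y : ℕ) : reduceMask (x ^^^ y) = reduceMask x ^^^ reduceMask y := by
  unfold reduceMask
  induction basisList with
  | nil => rfl
  | cons b t ih =>
    simp only [List.foldr_cons, ih]
    exact red_step_xor b _ _ _

lemma reduce_zero : reduceMask 0 = 0 := by decide +kernel

lemma reduce_code {c : ℕ} (hc : c ∈ codeList) : reduceMask c = 0 := by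
  simpa [inCode] using inCode_iff.2 hc

lemma reduce_eq_zero {c : ℕ} : reduceMask c = 0 ↔ c ∈ codeList :=
  ⟨fun h => inCode_iff.1 (by simp [inCode, h]), reduce_code⟩

lemma reduce_reduce (m : ℕ) : reduceMask (reduceMask m) = reduceMask m := by
  have h := reduce_code (reduceMask_xor_mem m)
  rw [reduce_xor, Nat.xor_eq_zero_iff] at h
  exact h.symm

lemma reduce_lt {m : ℕ} (h : m < 2 ^ 24) : reduceMask m < 2 ^ 24 := by
  have := xor_lt_full h (codeList_lt (reduceMask_xor_mem m))
  rwa [← Nat.xor_assoc, Nat.xor_self, Nat.zero_xor] at this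

lemma tblImg_xor {T : ℕ} (hT : validT T = true) (a b : ℕ) :
    tblImg T (a ^^^ b) = tblImg T a ^^^ tblImg T b := by
  refine ptSet_injOn (tblImg_lt hT _) (xor_lt_full (tblImg_lt hT _) (tblImg_lt hT _)) ?_
  rw [ptSet_tblImg hT, ptSet_xor, ptSet_xor, Finset.smul_finset_symmDiff, ptSet_tblImg hT,
    ptSet_tblImg hT]

lemma tblImg_tblMul {S T : ℕ} (hS : validT S = true) (hT : validT T = true) (m : ℕ) :
    tblImg (tblMul S T) m = tblImg S (tblImg T m) := by
  refine ptSet_injOn (tblImg_lt (tblMul_spec hS hT).1 _) (tblImg_lt hS _) ?_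
  rw [ptSet_tblImg (tblMul_spec hS hT).1, (tblMul_spec hS hT).2, mul_smul, ptSet_tblImg hS,
    ptSet_tblImg hT]

lemma tblImg_code {T : ℕ} (h : inM24 T = true) {c : ℕ} (hc : c ∈ codeList) :
    tblImg T c ∈ codeList := by
  have hv := validT_of_inM24 h
  rw [← ptSet_mem_supports_iff (tblImg_lt hv c), ptSet_tblImg hv]
  exact mem_M24_iff.1 (mem_M24_of_inM24 h) c hc

lemma act_xor {T : ℕ} (hT : validT T = true) (a b : ℕ) : act T (a ^^^ b) = act T a ^^^ act T b := by
  rw [act, tblImg_xor hT, reduce_xor, act, act]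

lemma act_reduce {T : ℕ} (h : inM24 T = true) (m : ℕ) :
    act T (reduceMask m) = reduceMask (tblImg T m) := by
  have hc := reduce_code (tblImg_code h (reduceMask_xor_mem m))
  rw [tblImg_xor (validT_of_inM24 h), reduce_xor, Nat.xor_eq_zero_iff] at hc
  exact hc.symm

lemma act_mul {S T : ℕ} (hS : inM24 S = true) (hT : inM24 T = true) (v : ℕ) :
    act (tblMul S T) v = act S (act T v) := by
  rw [act, tblImg_tblMul (validT_of_inM24 hS) (validT_of_inM24 hT), ← act_reduce hS]
  rfl

lemma act_zero {T : ℕ} (hT : validT T = true) : act T 0 = 0 := by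
  have h := act_xor hT 0 0
  rwa [Nat.xor_self, Nat.xor_self] at h

/-- Induction along bits. -/
lemma xor_bits_induction {P : ℕ → Prop} (h0 : P 0) (hx : ∀ a b, P a → P b → P (a ^^^ b)) :
    ∀ n, (∀ i < n, P (2 ^ i)) → ∀ m < 2 ^ n, P m
  | 0, _, m, hm => by rw [pow_zero, Nat.lt_one_iff] at hm; rw [hm]; exact h0
  | n + 1, h, m, hm => by
    have ih := xor_bits_induction h0 hx n fun i hi => h i (Nat.lt_succ_of_lt hi)
    by_cases hb : m.testBit n = true
    · have hlt : m ^^^ 2 ^ n < 2 ^ n := by
        refine Nat.lt_pow_two_of_testBit _ fun i hi => ?_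
        rw [Nat.testBit_xor, Nat.testBit_two_pow]
        rcases eq_or_lt_of_le hi with rfl | hi'
        · simp [hb]
        · rw [Nat.testBit_lt_two_pow (lt_of_lt_of_le hm (Nat.pow_le_pow_right (by norm_num) hi'))]
          simp [Nat.ne_of_lt hi']
      have := hx _ _ (ih _ hlt) (h n (Nat.lt_succ_self n))
      rwa [Nat.xor_assoc, Nat.xor_self, Nat.xor_zero] at this
    · refine ih m (Nat.lt_pow_two_of_testBit _ fun i hi => ?_)
      rcases eq_or_lt_of_le hi with rfl | hi'
      · simpa using hb
      · exact Nat.testBit_lt_two_pow (lt_of_lt_of_le hm (Nat.pow_le_pow_right (by norm_num) hi'))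

/-- The free positions as masks. -/
def freeBits : List ℕ :=
  ((List.range 24).filter fun i => basisList.all fun b => Nat.log2 b != i).map fun i => 2 ^ i

/-- The vector with the given free bits. -/
def vecOf (x : ℕ) : ℕ :=
  vBasis.foldr (fun b a => if x.testBit (Nat.log2 b) then b ^^^ a else a) 0

lemma vec_checks :
    ((List.range 24).all fun i => (spanList freeBits).contains (reduceMask (2 ^ i))) = true ∧
    ((spanList freeBits).all fun x => popCnt x % 2 == 1 || vecOf x == x) = true ∧
    (vBasis.all fun b => popCnt b % 2 == 0 && (reduceMask b == b) && decide (b < 2 ^ 24)) = true ∧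
    (basisList.all fun b => popCnt b % 2 == 0) = true := by
  decide +kernel

lemma popCnt_xor_even {a b : ℕ} (ha : a < 2 ^ 24) (hb : b < 2 ^ 24) (h1 : popCnt a % 2 = 0)
    (h2 : popCnt b % 2 = 0) : popCnt (a ^^^ b) % 2 = 0 := by
  have hf : ∀ m < 2 ^ 24, m &&& fullMask = m := fun m hm => by
    rw [fullMask, Nat.and_two_pow_sub_one_eq_mod, Nat.mod_eq_of_lt hm]
  have h := popCnt_xor_parity a b fullMask
  rw [hf a ha, hf b hb, hf _ (xor_lt_full ha hb)] at h
  omega

lemma code_even {c : ℕ} (hc : c ∈ codeList) : popCnt c % 2 = 0 := by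
  refine (spanList_induction (P := fun c => c < 2 ^ 24 ∧ popCnt c % 2 = 0) _ ⟨by norm_num, rfl⟩
    (fun b hb => ?_) (fun a b ha hb => ⟨xor_lt_full ha.1 hb.1,
      popCnt_xor_even ha.1 hb.1 ha.2 hb.2⟩) c hc).2
  have hb' := List.mem_reverse.1 hb
  exact ⟨basisList_lt b hb', eq_of_beq (List.all_eq_true.1 vec_checks.2.2.2 b hb')⟩

/-- A vector. -/
def IsVec (v : ℕ) : Prop := v ∈ vecList

lemma IsVec.spec {v : ℕ} (h : IsVec v) :
    v < 2 ^ 24 ∧ reduceMask v = v ∧ popCnt v % 2 = 0 := by
  refine spanList_induction (P := fun v => v < 2 ^ 24 ∧ reduceMask v = v ∧ popCnt v % 2 = 0) _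
    ⟨by norm_num, reduce_zero, rfl⟩ (fun b hb => ?_)
    (fun a b ha hb => ⟨xor_lt_full ha.1 hb.1, by rw [reduce_xor, ha.2.1, hb.2.1],
      popCnt_xor_even ha.1 hb.1 ha.2.2 hb.2.2⟩) v h
  have h := List.all_eq_true.1 vec_checks.2.2.1 b hb
  simp only [Bool.and_eq_true, beq_iff_eq, decide_eq_true_eq] at h
  exact ⟨h.2, h.1.2, h.1.1⟩

lemma IsVec.xor {a b : ℕ} (ha : IsVec a) (hb : IsVec b) : IsVec (a ^^^ b) :=
  xor_mem_spanList _ ha hb

lemma isVec_zero : IsVec 0 := zero_mem_spanList _

lemma isVec_reduce {m : ℕ} (hm : m < 2 ^ 24) (he : popCnt m % 2 = 0) : IsVec (reduceMask m) := by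
  have hfree : reduceMask m ∈ spanList freeBits := by
    refine xor_bits_induction (P := fun m => reduceMask m ∈ spanList freeBits)
      (by rw [reduce_zero]; exact zero_mem_spanList _)
      (fun a b ha hb => by rw [reduce_xor]; exact xor_mem_spanList _ ha hb) 24 (fun i hi => ?_) m hm
    exact List.contains_iff_mem.1 (List.all_eq_true.1 vec_checks.1 i (List.mem_range.2 hi))
  have heven : popCnt (reduceMask m) % 2 = 0 := by
    have h := popCnt_xor_even hm (codeList_lt (reduceMask_xor_mem m)) he
      (code_even (reduceMask_xor_mem m))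
    rwa [← Nat.xor_assoc, Nat.xor_self, Nat.zero_xor] at h
  have h := List.all_eq_true.1 vec_checks.2.1 _ hfree
  simp only [Bool.or_eq_true, beq_iff_eq, heven] at h
  rw [IsVec, ← h.resolve_left (by norm_num)]
  unfold vecOf vecList
  have key : ∀ L, (∀ b ∈ L, b ∈ spanList vBasis) → List.foldr
      (fun b a => if (reduceMask m).testBit (Nat.log2 b) then b ^^^ a else a) 0 L ∈
        spanList vBasis := by
    intro L
    induction L with
    | nil => exact fun _ => zero_mem_spanList _
    | cons b t ih =>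
      intro hL
      simp only [List.foldr_cons]
      have h' := ih fun c hc => hL c (List.mem_cons_of_mem _ hc)
      split
      · exact xor_mem_spanList _ (hL b (by simp)) h'
      · exact h'
  exact key _ fun b hb => mem_spanList_of_mem _ hb

lemma popCnt_tblImg {T : ℕ} (hT : validT T = true) {m : ℕ} (hm : m < 2 ^ 24) :
    popCnt (tblImg T m) = popCnt m := by
  rw [← card_ptSet, ← card_ptSet, ptSet_tblImg hT, Finset.card_smul_finset]

lemma isVec_act {T : ℕ} (hT : validT T = true) {v : ℕ} (hv : IsVec v) : IsVec (act T v) :=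
  isVec_reduce (tblImg_lt hT v) (by rw [popCnt_tblImg hT hv.spec.1]; exact hv.spec.2.2)

/-- Equality of linear maps on a span. -/
lemma eq_on_span {f g : ℕ → ℕ} {L : List ℕ} (hf : ∀ a b, f (a ^^^ b) = f a ^^^ f b)
    (hg : ∀ a b, g (a ^^^ b) = g a ^^^ g b) (h : ∀ b ∈ L, f b = g b) {v : ℕ}
    (hv : v ∈ spanList L) : f v = g v := by
  refine spanList_induction (P := fun v => f v = g v) L ?_ h
    (fun a b ha hb => by rw [hf, hg, ha, hb]) v hv
  have h1 := hf 0 0
  have h2 := hg 0 0
  rw [Nat.xor_self, Nat.xor_self] at h1 h2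
  rw [h1, h2]

lemma act_id {v : ℕ} (hv : IsVec v) : act idTblVal v = v := by
  have h : tblImg idTblVal v = v := ptSet_injOn (tblImg_lt idTblVal_spec.1 v) hv.spec.1 (by
    rw [ptSet_tblImg idTblVal_spec.1, idTblVal_spec.2, one_smul])
  rw [act, h, hv.spec.2.1]

lemma span_nodup : ∀ L : List ℕ, (List.range L.length).all (fun i =>
    (L.getD i 0).testBit (Nat.log2 (L.getD i 0)) &&
      (List.range L.length).all fun j => decide (j ≤ i) ||
        !(L.getD j 0).testBit (Nat.log2 (L.getD i 0))) = true → (spanList L).Nodup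
| [], _ => by simp [spanList]
| b :: t, h => by
  simp only [List.all_eq_true, List.mem_range, Bool.and_eq_true, Bool.or_eq_true,
    decide_eq_true_eq, Bool.not_eq_true', List.length_cons] at h
  have ht := span_nodup t (by
    simp only [List.all_eq_true, List.mem_range, Bool.and_eq_true, Bool.or_eq_true,
      decide_eq_true_eq, Bool.not_eq_true']
    intro i hi
    obtain ⟨h1, h2⟩ := h (i + 1) (by omega)
    simp only [List.getD_cons_succ] at h1 h2
    refine ⟨h1, fun j hj => ?_⟩
    have := h2 (j + 1) (by omega)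
    simp only [List.getD_cons_succ] at this
    rcases this with e | e
    exacts [.inl (by omega), .inr e])
  obtain ⟨hb, hoth⟩ := h 0 (by omega)
  simp only [List.getD_cons_zero] at hb hoth
  have hzero : ∀ x ∈ spanList t, x.testBit (Nat.log2 b) = false := by
    refine spanList_induction (P := fun x => x.testBit (Nat.log2 b) = false) t (Nat.zero_testBit _)
      (fun c hc => ?_) (fun x y hx hy => by rw [Nat.testBit_xor, hx, hy]; rfl)
    obtain ⟨j, hj, rfl⟩ := List.getElem_of_mem hc
    have := hoth (j + 1) (by omega)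
    simp only [List.getD_cons_succ] at this
    rw [List.getD_eq_getElem _ _ hj] at this
    exact this.resolve_left (by omega)
  rw [spanList, List.nodup_append]
  refine ⟨ht, ht.map (fun x y e => ?_), ?_⟩
  · have e' := congrArg (b ^^^ ·) e
    simpa [← Nat.xor_assoc] using e'
  · intro x hx y hy e
    obtain ⟨y', hy', rfl⟩ := List.mem_map.1 hy
    have h1 := hzero x hx
    rw [e, Nat.testBit_xor, hzero y' hy', hb] at h1
    simp at h1

lemma vBasis_echelon : (List.range vBasis.length).all (fun i =>
    (vBasis.getD i 0).testBit (Nat.log2 (vBasis.getD i 0)) &&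
      (List.range vBasis.length).all fun j => decide (j ≤ i) ||
        !(vBasis.getD j 0).testBit (Nat.log2 (vBasis.getD i 0))) = true := by
  decide +kernel

lemma vecList_nodup : vecList.Nodup := span_nodup vBasis vBasis_echelon

lemma vecList_length : vecList.length = 2048 := by decide +kernel

end Cfsg.Agent.H85.JTen
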